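import Mathlib
import Groth.Prelude.Def_Magnet2

/-! Equivariant maps out of a monoid scheme with a dense group of units: the value at a point and base change squares. -/

set_option autoImplicit false
set_option backward.isDefEq.respectTransparency false
set_option backward.isDefEq.respectTransparency.types false
universe v₁ u₁ u

open CategoryTheory CategoryTheory.Limits MonoidalCategory CartesianMonoidalCategory MonObj AlgebraicGeometry Opposite

namespace Groth.Agent.MagnetHom

section General

variable {C : Type u₁} [Category.{v₁} C] [CartesianMonoidalCategory C] {G M X : C} [MonObj G] [MonObj M]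

/-- On `G ⊗ T` an equivariant map out of `M ⊗ T` is the orbit map of its value at the unit. -/
theorem whiskerRight_comp_of_eqvHom (i : G ⟶ M) [IsMonHom i] (a : Magnet.MonAct G X) {T : C}
    (φ : (Magnet.MonAct.eqvHom ((Magnet.MonAct.regular M).restrict i) a).obj (op T)) :
    (i ▷ T) ≫ φ.1 =
      (G ◁ ((Magnet.MonAct.eqvHom.evalAt ((Magnet.MonAct.regular M).restrict i) a η[M]).app (op T) φ)) ≫ a.act := by
  have h := (Magnet.MonAct.mem_eqvHom_iff _).mp φ.2 (G ⊗ T) (fst G T) (toUnit _ ≫ η) (snd G T)
  change lift (lift _ _ ≫ ((Magnet.MonAct.regular _).restrict i).act) _ ≫ φ.1 = _ at h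
  rw [Magnet.MonAct.lift_restrict_act, Magnet.MonAct.lift_regular_act, ← Hom.one_def] at h
  simp only [_root_.mul_one] at h
  refine Eq.trans ?_ (h.trans ?_)
  · congr 1
    ext <;> simp
  · rw [Hom.one_def, Magnet.MonAct.eqvHom.evalAt_app]
    change _ = (G ◁ _) ≫ _
    congr 1
    ext <;> simp [comp_lift_assoc]

end General

section OverScheme

variable {S : Scheme.{u}}

theorem isPullback_whiskerLeft_left (A : Over S) {T' T : Over S} (t : T' ⟶ T) :
    IsPullback (A ◁ t).left (snd A T').left (snd A T).left t.left := by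
  refine IsPullback.of_right (h₁₂ := (fst A T).left) (v₁₃ := A.hom) (h₂₂ := T.hom) ?_ ?_
    (IsPullback.of_hasPullback A.hom T.hom)
  · rw [← Over.comp_left, whiskerLeft_fst, Over.w t]
    exact IsPullback.of_hasPullback A.hom T'.hom
  · rw [← Over.comp_left, whiskerLeft_snd, Over.comp_left]

theorem isPullback_whiskerRight_left (B : Over S) {A' A : Over S} (t : A' ⟶ A) :
    IsPullback (t ▷ B).left (fst A' B).left (fst A B).left t.left := by
  refine IsPullback.of_right (h₁₂ := (snd A B).left) (v₁₃ := B.hom) (h₂₂ := A.hom) ?_ ?_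
    (IsPullback.of_hasPullback A.hom B.hom).flip
  · rw [← Over.comp_left, whiskerRight_snd, Over.w t]
    exact (IsPullback.of_hasPullback A'.hom B.hom).flip
  · rw [← Over.comp_left, whiskerRight_fst, Over.comp_left]

/-- A morphism factors through a closed immersion as soon as it does so after composition with a scheme-theoretically
dominant morphism. -/
theorem exists_factor_of_dominant {P Q Z Y : Over S} (d : P ⟶ Q) [IsSchemeTheoreticallyDominant d.left]
    (j : Z ⟶ Y) [IsClosedImmersion j.left] (g : Q ⟶ Y) (l : P ⟶ Z) (h : l ≫ j = d ≫ g) :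
    ∃ m : Q ⟶ Z, m ≫ j = g := by
  have hl : d.left ≫ g.left = l.left ≫ j.left := by rw [← Over.comp_left, ← h, Over.comp_left]
  let c := pullback.fst g.left j.left
  have : IsIso c := by
    refine IsClosedImmersion.isIso_iff_ker_eq_bot.mpr (le_bot_iff.mp ?_)
    have := Scheme.Hom.le_ker_comp (pullback.lift d.left l.left hl) c
    rwa [pullback.lift_fst, Scheme.Hom.ker_eq_bot d.left] at this
  refine ⟨Over.homMk (inv c ≫ pullback.snd _ _) ?_, Over.OverMorphism.ext ?_⟩
  · rw [← Over.w j, Category.assoc, ← pullback.condition_assoc, IsIso.inv_hom_id_assoc, Over.w g]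
  · change (inv c ≫ pullback.snd _ _) ≫ j.left = g.left
    rw [Category.assoc, ← pullback.condition, IsIso.inv_hom_id_assoc]

variable {k : Type u} [Field k] {G M : Over (Spec (CommRingCat.of k))}

/-- Over a field, a quasi-compact scheme-theoretically dominant morphism stays so after multiplying with any scheme. -/
theorem isSchemeTheoreticallyDominant_whiskerRight (i : G ⟶ M) [QuasiCompact i.left]
    [IsSchemeTheoreticallyDominant i.left] (T : Over (Spec (CommRingCat.of k))) :
    IsSchemeTheoreticallyDominant (i ▷ T).left := by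
  have : Flat T.hom := inferInstance
  have : Flat (fst M T).left := inferInstanceAs (Flat (pullback.fst M.hom T.hom))
  exact IsSchemeTheoreticallyDominant.of_isPullback (isPullback_whiskerRight_left T i).flip

end OverScheme

end Groth.Agent.MagnetHom

namespace Groth.Agent.MagnetHom

section OpenPart

variable {S : Scheme.{u}} {A : Over S} [MonObj A] {B X : Over S}

/-- An equivariant open immersion has image stable under the action. -/
theorem snd_preimage_opensRange_le {U : Over S} (j : U ⟶ X) [IsOpenImmersion j.left] {aU : Magnet.MonAct A U}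
    {aX : Magnet.MonAct A X} (hj : Magnet.MonAct.IsEquivariant aU aX j) :
    (snd A X).left ⁻¹ᵁ j.left.opensRange ≤ aX.act.left ⁻¹ᵁ j.left.opensRange := by
  intro p hp
  obtain ⟨u, hu⟩ : ∃ u, j.left u = (snd A X).left p := hp
  obtain ⟨q, hq, -⟩ := Scheme.exists_preimage_of_isPullback (isPullback_whiskerLeft_left A j) p u hu.symm
  refine ⟨aU.act.left q, ?_⟩
  change (aU.act.left ≫ j.left) q = aX.act.left p
  rw [← hq]
  change _ = ((A ◁ j).left ≫ aX.act.left) q
  rw [← Over.comp_left, ← Over.comp_left, hj]

/-- If over fields the only stable open neighbourhood of the section `o` is everything, then an equivariant map sending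
the section `o` into a stable open maps everything into it. -/
theorem preimage_eq_top_of_evalAt (ρ : Magnet.MonAct A B) (o : 𝟙_ (Over S) ⟶ B)
    (hB : ∀ (T : Over S) (K : Type u) [Field K] (_ : T.left ≅ Spec (CommRingCat.of K)) (W : (B ⊗ T).left.Opens),
      (snd A (B ⊗ T)).left ⁻¹ᵁ W ≤ (ρ.prod (Magnet.MonAct.trivial A T)).act.left ⁻¹ᵁ W →
      (CartesianMonoidalCategory.lift (toUnit T ≫ o) (𝟙 T)).left ⁻¹ᵁ W = ⊤ → W = ⊤)
    (a : Magnet.MonAct A X) (U : X.left.Opens) (hU : (snd A X).left ⁻¹ᵁ U ≤ a.act.left ⁻¹ᵁ U)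
    {T : Over S} (φ : (Magnet.MonAct.eqvHom ρ a).obj (op T))
    (hφ : ((Magnet.MonAct.eqvHom.evalAt ρ a o).app (op T) φ).left ⁻¹ᵁ U = ⊤) :
    φ.1.left ⁻¹ᵁ U = ⊤ := by
  refine top_le_iff.mp fun q _ => ?_
  let y := (snd B T).left q
  let t : Over.mk (T.left.fromSpecResidueField y ≫ T.hom) ⟶ T := Over.homMk (T.left.fromSpecResidueField y)
  let φ' := (Magnet.MonAct.eqvHom ρ a).map t.op φ
  have h0 : ((Magnet.MonAct.eqvHom.evalAt ρ a o).app (op (Over.mk (T.left.fromSpecResidueField y ≫ T.hom))) φ').left ⁻¹ᵁ U
      = ⊤ := by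
    have e := ConcreteCategory.congr_hom ((Magnet.MonAct.eqvHom.evalAt ρ a o).naturality t.op) φ
    rw [show (Magnet.MonAct.eqvHom.evalAt ρ a o).app (op (Over.mk (T.left.fromSpecResidueField y ≫ T.hom))) φ' =
      t ≫ (Magnet.MonAct.eqvHom.evalAt ρ a o).app (op T) φ from e, Over.comp_left, Scheme.Hom.comp_preimage, hφ]
    rfl
  have h1 : φ'.1.left ⁻¹ᵁ U = ⊤ := by
    refine hB _ _ (Iso.refl (Spec (T.left.residueField y))) _ ?_ ?_
    · intro p hp
      have e := congrArg (fun f => f.left p) (φ'.2 :
        (ρ.prod (Magnet.MonAct.trivial A (Over.mk (T.left.fromSpecResidueField y ≫ T.hom)))).act ≫ φ'.1 = (A ◁ φ'.1) ≫ a.act)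
      simp only [Over.comp_left, Scheme.Hom.comp_apply] at e
      change φ'.1.left _ ∈ U
      rw [e]
      refine hU ?_
      change (snd A X).left ((A ◁ φ'.1).left p) ∈ U
      rw [← Scheme.Hom.comp_apply, ← Over.comp_left, whiskerLeft_snd, Over.comp_left, Scheme.Hom.comp_apply]
      exact hp
    · rw [← Scheme.Hom.comp_preimage, ← Over.comp_left]
      exact h0
  obtain ⟨z, hz⟩ : y ∈ Set.range (T.left.fromSpecResidueField y) := by simp
  obtain ⟨q', hq', -⟩ := Scheme.exists_preimage_of_isPullback (isPullback_whiskerLeft_left B t) q z hz.symm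
  have h2 : φ'.1.left q' ∈ U := h1.ge (Set.mem_univ q')
  change φ.1.left q ∈ U
  rw [← hq']
  exact h2

end OpenPart

end Groth.Agent.MagnetHom
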