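import Mathlib
import Groth.Prelude.Def_Magnet2
import Groth.Agent.MagnetHom.Units

/-! For an affine monoid scheme over a field with dense units `G`, the extension of orbit maps to the monoid is
representable by a closed subscheme. -/

set_option autoImplicit false
set_option backward.isDefEq.respectTransparency false
set_option backward.isDefEq.respectTransparency.types false
universe u

open CategoryTheory CategoryTheory.Limits MonoidalCategory CartesianMonoidalCategory MonObj AlgebraicGeometry Opposite TensorProduct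

namespace Groth.Agent.MagnetHom

noncomputable section

theorem mem_range_rTensor_iff {k B C R : Type u} [Field k] [AddCommGroup B] [Module k B] [AddCommGroup C] [Module k C]
    [AddCommGroup R] [Module k R] (f : B →ₗ[k] C) (v : C ⊗[k] R) :
    v ∈ LinearMap.range (f.rTensor R) ↔
      ∀ l : C →ₗ[k] k, l ∘ₗ f = 0 → TensorProduct.lid k R (l.rTensor R v) = 0 := by
  constructor
  · rintro ⟨w, rfl⟩ l hl
    rw [← LinearMap.rTensor_comp_apply, hl, LinearMap.rTensor_zero]
    simp
  · intro h
    have hex : Function.Exact f (LinearMap.range f).mkQ := LinearMap.exact_map_mkQ_range f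
    refine (rTensor_exact R hex (Submodule.mkQ_surjective _) v).mp ?_
    let b := Module.Free.chooseBasis k (C ⧸ LinearMap.range f)
    refine (TensorProduct.equivFinsuppOfBasisLeft b).injective (Finsupp.ext fun n => ?_)
    rw [map_zero, Finsupp.zero_apply, ← h ((b.coord n) ∘ₗ (LinearMap.range f).mkQ) (LinearMap.ext fun x => by
      simp [(Submodule.Quotient.mk_eq_zero (LinearMap.range f)).mpr (LinearMap.mem_range_self f x)])]
    clear h
    induction v with
    | zero => simp
    | tmul c r => simp [TensorProduct.equivFinsuppOfBasisLeft_apply_tmul_apply]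
    | add p q hp hq => simp only [map_add, Finsupp.add_apply, hp, hq]

variable {k : Type u} [Field k]

/-- Global functions on a `k`-scheme. -/
def O (W : Over (Spec (CommRingCat.of k))) : Type u := Γ(W.left, ⊤)

instance (W : Over (Spec (CommRingCat.of k))) : CommRing (O W) := inferInstanceAs (CommRing Γ(W.left, ⊤))

instance (W : Over (Spec (CommRingCat.of k))) : Algebra k (O W) :=
  ((Scheme.ΓSpecIso (CommRingCat.of k)).inv ≫ W.hom.appTop).hom.toAlgebra

def appT {W' W : Over (Spec (CommRingCat.of k))} (f : W' ⟶ W) : O W →ₐ[k] O W' :=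
  { f.left.appTop.hom with
    commutes' := fun r => by
      change (W.hom.appTop ≫ f.left.appTop).hom ((Scheme.ΓSpecIso (CommRingCat.of k)).inv.hom r) =
        W'.hom.appTop.hom ((Scheme.ΓSpecIso (CommRingCat.of k)).inv.hom r)
      rw [← Scheme.Hom.comp_appTop, Over.w f] }

theorem appT_comp {W'' W' W : Over (Spec (CommRingCat.of k))} (f : W'' ⟶ W') (g : W' ⟶ W) (a : O W) :
    appT (f ≫ g) a = appT f (appT g a) := rfl

theorem ext_appT {W X : Over (Spec (CommRingCat.of k))} [IsAffine X.left] {f g : W ⟶ X} (h : appT f = appT g) :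
    f = g :=
  Over.OverMorphism.ext (ext_of_isAffine (CommRingCat.hom_ext (RingHom.ext fun a => AlgHom.congr_fun h a)))

theorem isoSpec_inv_appTop (X : Scheme.{u}) [IsAffine X] :
    X.isoSpec.inv.appTop = (Scheme.ΓSpecIso Γ(X, ⊤)).inv := by
  rw [← cancel_mono X.isoSpec.hom.appTop, ← Scheme.Hom.comp_appTop, Iso.hom_inv_id]
  change _ = _ ≫ X.toSpecΓ.appTop
  rw [Scheme.toSpecΓ_appTop, Iso.inv_hom_id]
  rfl

theorem exists_appT_eq {W X : Over (Spec (CommRingCat.of k))} [IsAffine X.left] (f : O X →ₐ[k] O W) :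
    ∃ g : W ⟶ X, appT g = f := by
  let φ : Γ(X.left, ⊤) ⟶ Γ(W.left, ⊤) := CommRingCat.ofHom f.toRingHom
  have happ : (W.left.toSpecΓ ≫ Spec.map φ ≫ X.left.isoSpec.inv).appTop = φ := by
    rw [Scheme.Hom.comp_appTop, Scheme.Hom.comp_appTop, isoSpec_inv_appTop, Scheme.toSpecΓ_appTop, Category.assoc,
      Scheme.ΓSpecIso_naturality]
    simp
  refine ⟨Over.homMk (W.left.toSpecΓ ≫ Spec.map φ ≫ X.left.isoSpec.inv) (ext_of_isAffine ?_), ?_⟩
  · rw [Scheme.Hom.comp_appTop, happ, ← cancel_epi (Scheme.ΓSpecIso (CommRingCat.of k)).inv]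
    exact CommRingCat.hom_ext (RingHom.ext fun r => f.commutes r)
  · exact AlgHom.ext fun a => congrArg (fun ψ : Γ(X.left, ⊤) ⟶ Γ(W.left, ⊤) => ψ.hom a) happ

def mu (W T : Over (Spec (CommRingCat.of k))) : O W ⊗[k] O T →ₐ[k] O (W ⊗ T) :=
  Algebra.TensorProduct.productMap (appT (fst W T)) (appT (snd W T))

theorem mu_bijective (W T : Over (Spec (CommRingCat.of k))) [IsAffine W.left] [IsAffine T.left] :
    Function.Bijective (mu W T) := by
  have P := isPushout_appTop_of_isPullback (IsPullback.of_hasPullback W.hom T.hom)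
  have P' : IsPushout (CommRingCat.ofHom (algebraMap k (O W))) (CommRingCat.ofHom (algebraMap k (O T)))
      (CommRingCat.ofHom (appT (fst W T)).toRingHom) (CommRingCat.ofHom (appT (snd W T)).toRingHom) := by
    refine P.of_iso (Scheme.ΓSpecIso (CommRingCat.of k)) (Iso.refl _) (Iso.refl _) (Iso.refl _) ?_ ?_ ?_ ?_
    · apply (Iso.inv_comp_eq _).mp
      rfl
    · apply (Iso.inv_comp_eq _).mp
      rfl
    · rfl
    · rfl
  let e := (CommRingCat.isPushout_tensorProduct k (O W) (O T)).isoIsPushout _ _ P'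
  have he : CommRingCat.ofHom (mu W T).toRingHom = e.hom := by
    apply (CommRingCat.isPushout_tensorProduct k (O W) (O T)).hom_ext
    · rw [IsPushout.inl_isoIsPushout_hom]
      exact CommRingCat.hom_ext (RingHom.ext fun a => by
        change Algebra.TensorProduct.productMap _ _ (a ⊗ₜ[k] 1) = appT (fst W T) a
        simp)
    · rw [IsPushout.inr_isoIsPushout_hom]
      exact CommRingCat.hom_ext (RingHom.ext fun a => by
        change Algebra.TensorProduct.productMap _ _ ((1 : O W) ⊗ₜ[k] a) = appT (snd W T) a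
        simp)
  have : IsIso (CommRingCat.ofHom (mu W T).toRingHom) := he ▸ inferInstance
  exact ConcreteCategory.bijective_of_isIso (CommRingCat.ofHom (mu W T).toRingHom)

theorem mu_whiskerRight {W' W : Over (Spec (CommRingCat.of k))} (f : W' ⟶ W) (T : Over (Spec (CommRingCat.of k)))
    (v : O W ⊗[k] O T) : mu W' T ((appT f).toLinearMap.rTensor (O T) v) = appT (f ▷ T) (mu W T v) := by
  induction v with
  | zero => simp
  | tmul a b => simp [mu, ← appT_comp]
  | add p q hp hq => simp only [map_add, hp, hq]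

theorem mu_whiskerLeft (W : Over (Spec (CommRingCat.of k))) {T' T : Over (Spec (CommRingCat.of k))} (t : T' ⟶ T)
    (v : O W ⊗[k] O T) : mu W T' ((appT t).toLinearMap.lTensor (O W) v) = appT (W ◁ t) (mu W T v) := by
  induction v with
  | zero => simp
  | tmul a b => simp [mu, ← appT_comp]
  | add p q hp hq => simp only [map_add, hp, hq]

theorem lid_rTensor_lTensor {C A R : Type u} [AddCommGroup C] [Module k C] [AddCommGroup A] [Module k A]
    [AddCommGroup R] [Module k R] (y : A →ₗ[k] R) (l : C →ₗ[k] k) (v : C ⊗[k] A) :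
    TensorProduct.lid k R (l.rTensor R (y.lTensor C v)) = y (TensorProduct.lid k A (l.rTensor A v)) := by
  induction v with
  | zero => simp
  | tmul a b => simp
  | add p q hp hq => simp only [map_add, hp, hq]

variable {G M X : Over (Spec (CommRingCat.of k))} (i : G ⟶ M)

/-- The ideal cutting out the points whose orbit map extends to `M`. -/
def extIdeal [IsAffine G.left] [IsAffine X.left] (act : G ⊗ X ⟶ X) : Ideal (O X) :=
  Ideal.span {c | ∃ (l : O G →ₗ[k] k) (a : O X), l ∘ₗ (appT i).toLinearMap = 0 ∧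
    c = TensorProduct.lid k (O X) (l.rTensor (O X) ((AlgEquiv.ofBijective (mu G X) (mu_bijective G X)).symm (appT act a)))}

theorem appT_whiskerRight_injective [QuasiCompact i.left] [IsSchemeTheoreticallyDominant i.left]
    (T : Over (Spec (CommRingCat.of k))) : Function.Injective (appT (i ▷ T)) := by
  have := isSchemeTheoreticallyDominant_whiskerRight i T
  have : QuasiCompact (i ▷ T).left :=
    MorphismProperty.of_isPullback (isPullback_whiskerRight_left T i).flip ‹QuasiCompact i.left›
  exact Scheme.Hom.app_injective (i ▷ T).left ⊤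

variable [IsAffine M.left] [IsAffine G.left] [IsAffine X.left]

theorem exists_extend_iff [QuasiCompact i.left] [IsSchemeTheoreticallyDominant i.left] (act : G ⊗ X ⟶ X)
    {T : Over (Spec (CommRingCat.of k))} [IsAffine T.left] (x : T ⟶ X) :
    (∃ m : M ⊗ T ⟶ X, (i ▷ T) ≫ m = (G ◁ x) ≫ act) ↔ extIdeal i act ≤ RingHom.ker (appT x) := by
  let e := AlgEquiv.ofBijective (mu G X) (mu_bijective G X)
  have key : ∀ a : O X, appT ((G ◁ x) ≫ act) a =
      mu G T ((appT x).toLinearMap.lTensor (O G) (e.symm (appT act a))) := by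
    intro a
    rw [mu_whiskerLeft, appT_comp]
    exact congrArg _ (e.apply_symm_apply _).symm
  have crit : (extIdeal i act ≤ RingHom.ker (appT x)) ↔
      ∀ a : O X, (appT x).toLinearMap.lTensor (O G) (e.symm (appT act a)) ∈
        LinearMap.range ((appT i).toLinearMap.rTensor (O T)) := by
    simp only [mem_range_rTensor_iff, lid_rTensor_lTensor]
    rw [extIdeal, Ideal.span_le]
    constructor
    · intro h a l hl
      exact h ⟨l, a, hl, rfl⟩
    · rintro h _ ⟨l, a, hl, rfl⟩
      exact h a l hl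
  rw [crit]
  constructor
  · rintro ⟨m, hm⟩ a
    obtain ⟨w, hw⟩ := (mu_bijective M T).2 (appT m a)
    refine ⟨w, (mu_bijective G T).1 ?_⟩
    rw [mu_whiskerRight, hw, ← key, ← appT_comp, hm]
  · intro h
    have hmem : ∀ a, appT ((G ◁ x) ≫ act) a ∈ (appT (i ▷ T)).range := fun a => by
      obtain ⟨w, hw⟩ := h a
      exact ⟨mu M T w, by rw [key, ← hw, mu_whiskerRight]; rfl⟩
    obtain ⟨m, hm⟩ := exists_appT_eq
      ((AlgEquiv.ofInjective _ (appT_whiskerRight_injective i T)).symm.toAlgHom.comp
        ((appT ((G ◁ x) ≫ act)).codRestrict _ hmem))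
    refine ⟨m, ext_appT (AlgHom.ext fun a => ?_)⟩
    rw [appT_comp, hm]
    exact congrArg Subtype.val ((AlgEquiv.ofInjective (appT (i ▷ T)) (appT_whiskerRight_injective i T)).apply_symm_apply _)

theorem exists_factor_iff (I : Ideal (O X)) :
    ∃ (Z : Over (Spec (CommRingCat.of k))) (j : Z ⟶ X), IsAffine Z.left ∧ IsClosedImmersion j.left ∧
      I ≤ RingHom.ker (appT j) ∧
      ∀ (T : Over (Spec (CommRingCat.of k))) (x : T ⟶ X), I ≤ RingHom.ker (appT x) → ∃ z : T ⟶ Z, z ≫ j = x := by
  let q : Γ(X.left, ⊤) ⟶ CommRingCat.of (O X ⧸ I) := CommRingCat.ofHom (R := O X) (Ideal.Quotient.mk I)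
  let jl := Spec.map q ≫ X.left.isoSpec.inv
  have : IsClosedImmersion (Spec.map q) := IsClosedImmersion.spec_of_surjective q Ideal.Quotient.mk_surjective
  let j : Over.mk (jl ≫ X.hom) ⟶ X := Over.homMk jl
  refine ⟨Over.mk (jl ≫ X.hom), j, inferInstanceAs (IsAffine (Spec (CommRingCat.of (O X ⧸ I)))), inferInstanceAs (IsClosedImmersion jl), ?_, ?_⟩
  · intro a ha
    change jl.appTop.hom a = 0
    rw [Scheme.Hom.comp_appTop, isoSpec_inv_appTop, ← Scheme.ΓSpecIso_inv_naturality]
    change (Scheme.ΓSpecIso (CommRingCat.of (O X ⧸ I))).inv.hom (Ideal.Quotient.mk I a) = 0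
    rw [Ideal.Quotient.eq_zero_iff_mem.mpr ha, map_zero]
  · intro T x hx
    let l : CommRingCat.of (O X ⧸ I) ⟶ Γ(T.left, ⊤) :=
      CommRingCat.ofHom (Ideal.Quotient.lift I (appT x).toRingHom (fun a ha => hx ha))
    have hl : (T.left.toSpecΓ ≫ Spec.map l) ≫ jl = x.left := by
      have : q ≫ l = x.left.appTop := CommRingCat.hom_ext (Ideal.Quotient.lift_comp_mk I _ _)
      rw [Category.assoc, ← Spec.map_comp_assoc, this, ← Scheme.toSpecΓ_naturality_assoc]
      change x.left ≫ X.left.isoSpec.hom ≫ X.left.isoSpec.inv = x.left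
      simp
    exact ⟨Over.homMk (T.left.toSpecΓ ≫ Spec.map l) (by
      change (T.left.toSpecΓ ≫ Spec.map l) ≫ jl ≫ X.hom = T.hom
      rw [← Category.assoc, hl, Over.w x]), Over.OverMorphism.ext hl⟩

end

end Groth.Agent.MagnetHom
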