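import Mathlib
import Groth.Prelude.Def_Magnet2

/-! Affine charts of `A(N)_S ×_S T`. -/

set_option autoImplicit false
set_option backward.isDefEq.respectTransparency false
set_option backward.isDefEq.respectTransparency.types false
set_option synthInstance.maxHeartbeats 400000
set_option maxHeartbeats 1000000
universe u

open CategoryTheory CategoryTheory.Limits MonoidalCategory CartesianMonoidalCategory MonObj AlgebraicGeometry Opposite TensorProduct

namespace Groth.Agent.MagnetHom

noncomputable section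

abbrev Z0 : Type u := ULift.{u} ℤ

abbrev algZ (C : Type u) [CommRing C] : Algebra Z0.{u} C := ULift.algebra' ℤ C


attribute [local instance 50] algZ
attribute [local instance 10000] Algebra.toModule

abbrev MA (N : Type) [AddCommMonoid N] : Type u := MonoidAlgebra Z0.{u} (Multiplicative N)

variable {S : Scheme.{u}} {N M : Type} [AddCommMonoid N] [AddCommMonoid M]

/-- Projection `A(N)_S ×_S T ⟶ A(N)_ℤ`. -/
def pA (N : Type) [AddCommMonoid N] (T : Over S) :
    (Magnet.AMonS S N ⊗ T).left ⟶ (Magnet.AMon Z0.{u} N).left :=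
  (fst (Magnet.AMonS S N) T).left ≫ pullback.fst _ _

theorem isPullback_pA (N : Type) [AddCommMonoid N] (T : Over S) :
    IsPullback (pA N T) (snd (Magnet.AMonS S N) T).left (Magnet.AMon Z0.{u} N).hom
      (T.hom ≫ specULiftZIsTerminal.from S) :=
  IsPullback.paste_horiz (IsPullback.of_hasPullback (Magnet.AMonS S N).hom T.hom)
    (IsPullback.of_hasPullback (Magnet.AMon Z0.{u} N).hom (specULiftZIsTerminal.from S))

@[reassoc]
theorem whiskerRight_map_pA (f : N →+ M) (T : Over S) :
    (Magnet.AMonS.map S f ▷ T).left ≫ pA N T = pA M T ≫ (Magnet.AMon.map Z0.{u} f).left := by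
  rw [pA, pA, ← Category.assoc, ← Over.comp_left, whiskerRight_fst, Over.comp_left, Category.assoc, Category.assoc]
  congr 1
  exact pullback.lift_fst _ _ _

@[reassoc]
theorem whiskerLeft_pA (N : Type) [AddCommMonoid N] {T T' : Over S} (t : T' ⟶ T) :
    (Magnet.AMonS S N ◁ t).left ≫ pA N T = pA N T' := by
  rw [pA, pA, ← Category.assoc, ← Over.comp_left, whiskerLeft_fst]

variable (C : Type u) [CommRing C] (str : Spec (CommRingCat.of C) ⟶ S)

theorem isPullback_spec (N : Type) [AddCommMonoid N] :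
    IsPullback (Spec.map (CommRingCat.ofHom (Algebra.TensorProduct.includeLeftRingHom : MA.{u} N →+* MA.{u} N ⊗[Z0.{u}] C)))
      (Spec.map (CommRingCat.ofHom (R := C) (S := MA.{u} N ⊗[Z0.{u}] C) (Algebra.TensorProduct.includeRight : C →ₐ[Z0.{u}] MA.{u} N ⊗[Z0.{u}] C).toRingHom))
      (Magnet.AMon Z0.{u} N).hom ((Over.mk str).hom ≫ specULiftZIsTerminal.from S) := by
  rw [specULiftZIsTerminal.hom_ext (_ ≫ specULiftZIsTerminal.from S)
    (Spec.map (CommRingCat.ofHom (algebraMap Z0.{u} C)))]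
  exact isPullback_SpecMap_of_isPushout _ _ _ _ (CommRingCat.isPushout_tensorProduct _ _ _)

/-- `A(N)_S ×_S Spec C = Spec (ℤ[N] ⊗ C)`. -/
def affIso (N : Type) [AddCommMonoid N] :
    (Magnet.AMonS S N ⊗ Over.mk str).left ≅ Spec (CommRingCat.of (MA.{u} N ⊗[Z0.{u}] C)) :=
  (isPullback_pA N (Over.mk str)).isoIsPullback _ _ (isPullback_spec C str N)

@[reassoc]
theorem affIso_inv_pA (N : Type) [AddCommMonoid N] : (affIso C str N).inv ≫ pA N (Over.mk str) =
    Spec.map (CommRingCat.ofHom (Algebra.TensorProduct.includeLeftRingHom : MA.{u} N →+* MA.{u} N ⊗[Z0.{u}] C)) :=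
  IsPullback.isoIsPullback_inv_fst _ _ _ _

@[reassoc]
theorem affIso_inv_snd (N : Type) [AddCommMonoid N] : (affIso C str N).inv ≫ (snd (Magnet.AMonS S N) (Over.mk str)).left =
    Spec.map (CommRingCat.ofHom (R := C) (S := MA.{u} N ⊗[Z0.{u}] C) (Algebra.TensorProduct.includeRight : C →ₐ[Z0.{u}] MA.{u} N ⊗[Z0.{u}] C).toRingHom) :=
  IsPullback.isoIsPullback_inv_snd _ _ _ _

/-- The ring map inducing `A(M)_C ⟶ A(N)_C`. -/
def mapT (f : N →+ M) : MA.{u} N ⊗[Z0.{u}] C →ₐ[Z0.{u}] MA.{u} M ⊗[Z0.{u}] C :=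
  Algebra.TensorProduct.map (MonoidAlgebra.mapDomainAlgHom _ _ (AddMonoidHom.toMultiplicative f)) (AlgHom.id _ C)

@[reassoc]
theorem affIso_inv_whiskerRight (f : N →+ M) :
    (affIso C str M).inv ≫ (Magnet.AMonS.map S f ▷ Over.mk str).left =
      Spec.map (CommRingCat.ofHom (mapT C f).toRingHom) ≫ (affIso C str N).inv := by
  apply (isPullback_pA N (Over.mk str)).hom_ext
  · rw [Category.assoc, whiskerRight_map_pA, affIso_inv_pA_assoc, Category.assoc, affIso_inv_pA,
      Magnet.AMon.map_left]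
    simp only [← Spec.map_comp]
    congr 1
  · rw [Category.assoc, ← Over.comp_left, whiskerRight_snd, affIso_inv_snd, Category.assoc, affIso_inv_snd]
    simp only [← Spec.map_comp]
    congr 1
    ext x
    simp [mapT, MonoidAlgebra.one_def]

theorem mapT_injective (f : N →+ M) (hf : Function.Injective f) : Function.Injective (mapT C f) := by
  classical
  let g : Multiplicative N → Multiplicative M := AddMonoidHom.toMultiplicative f
  have hg : Function.Injective g := fun a b h => Multiplicative.toAdd.injective (hf (congrArg Multiplicative.toAdd h))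
  let r : MA.{u} M →ₗ[Z0.{u}] MA.{u} N :=
    (MonoidAlgebra.coeffLinearEquiv Z0.{u}).symm.toLinearMap ∘ₗ Finsupp.lcomapDomain g hg ∘ₗ
      (MonoidAlgebra.coeffLinearEquiv Z0.{u}).toLinearMap
  let φ := MonoidAlgebra.mapDomainAlgHom Z0.{u} Z0.{u} (AddMonoidHom.toMultiplicative f)
  have h : r ∘ₗ φ.toLinearMap = LinearMap.id := by
    refine LinearMap.ext fun x => MonoidAlgebra.coeff_inj.mp ?_
    change Finsupp.comapDomain g (Finsupp.mapDomain g x.coeff) _ = x.coeff
    exact Finsupp.comapDomain_mapDomain g hg x.coeff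
  intro x y e
  have e' := congrArg (TensorProduct.map r (LinearMap.id (R := Z0.{u}) (M := C))) e
  have k : ∀ z, TensorProduct.map r LinearMap.id ((mapT C f) z) = z := by
    intro z
    change (TensorProduct.map r LinearMap.id ∘ₗ TensorProduct.map φ.toLinearMap LinearMap.id) z = z
    rw [← TensorProduct.map_comp, h, LinearMap.id_comp, TensorProduct.map_id, LinearMap.id_apply]
  rwa [k, k] at e'

omit [AddCommMonoid N] [AddCommMonoid M] in
theorem injective_appTop {A B : CommRingCat.{u}} (φ : A ⟶ B) (hφ : Function.Injective φ) :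
    Function.Injective (Spec.map φ).appTop := by
  have h := Scheme.ΓSpecIso_inv_naturality φ
  have : (Spec.map φ).appTop = (Scheme.ΓSpecIso A).hom ≫ φ ≫ (Scheme.ΓSpecIso B).inv := by
    rw [h, Iso.hom_inv_id_assoc]
  rw [this]
  exact (ConcreteCategory.bijective_of_isIso (Scheme.ΓSpecIso B).inv).1.comp
    (hφ.comp (ConcreteCategory.bijective_of_isIso (Scheme.ΓSpecIso A).hom).1)

/-- An injective ring map is an epimorphism for morphisms to separated schemes. -/
theorem Spec_ext_of_injective {A B : CommRingCat.{u}} (φ : A ⟶ B) (hφ : Function.Injective φ) {X Y : Scheme.{u}}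
    (q : X ⟶ Y) [IsSeparated q] {g h : Spec A ⟶ X} (hq : g ≫ q = h ≫ q)
    (e : Spec.map φ ≫ g = Spec.map φ ≫ h) : g = h := by
  let A' : Over Y := Over.mk (g ≫ q)
  let X' : Over Y := Over.mk q
  let g' : A' ⟶ X' := Over.homMk g
  let h' : A' ⟶ X' := Over.homMk h hq.symm
  let B' : Over Y := Over.mk (Spec.map φ ≫ g ≫ q)
  let ι' : B' ⟶ A' := Over.homMk (Spec.map φ)
  have : IsSeparated X'.hom := ‹_›
  let l := (equalizer.lift ι' (by ext1; exact e) : B' ⟶ equalizer g' h').left
  have hl : l ≫ (equalizer.ι g' h').left = Spec.map φ := by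
    rw [← Over.comp_left, equalizer.lift_ι]; rfl
  haveI : IsClosedImmersion (equalizer.ι g' h').left := inferInstance
  haveI : IsAffine A'.left := inferInstanceAs (IsAffine (Spec A))
  have : IsIso (equalizer.ι g' h').left := by
    refine IsClosedImmersion.isIso_iff_ker_eq_bot.mpr (le_bot_iff.mp ?_)
    refine (Scheme.Hom.le_ker_comp l _).trans ?_
    rw [hl]
    have hk : (Spec.map φ).ker = ⊥ := Scheme.IdealSheafData.ext_of_isAffine (by
      rw [Scheme.Hom.ker_apply _ ⟨⊤, isAffineOpen_top _⟩]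
      simp only [Scheme.IdealSheafData.ideal_bot, Pi.bot_apply]
      rw [← RingHom.injective_iff_ker_eq_bot]
      exact injective_appTop φ hφ)
    exact hk.le
  rw [← cancel_epi (equalizer.ι g' h').left]
  exact congr($(equalizer.condition g' h').left)

theorem affCharts_jointly_epi (N : Type) [AddCommMonoid N] (T : Over S) {X : Scheme.{u}}
    {g h : (Magnet.AMonS S N ⊗ T).left ⟶ X}
    (e : ∀ (C : CommRingCat.{u}) (j : Spec C ⟶ T.left), IsOpenImmersion j →
      (Magnet.AMonS S N ◁ (Over.homMk j : Over.mk (j ≫ T.hom) ⟶ T)).left ≫ g =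
      (Magnet.AMonS S N ◁ (Over.homMk j : Over.mk (j ≫ T.hom) ⟶ T)).left ≫ h) : g = h := by
  let 𝒰 := T.left.affineCover
  refine Scheme.Cover.hom_ext (𝒰.pullback₁ (snd (Magnet.AMonS S N) T).left) _ _ fun i => ?_
  have hi := e _ (𝒰.f i) inferInstance
  have hb : IsPullback (Magnet.AMonS S N ◁ (Over.homMk (𝒰.f i) : Over.mk (𝒰.f i ≫ T.hom) ⟶ T)).left
      (snd (Magnet.AMonS S N) (Over.mk (𝒰.f i ≫ T.hom))).left (snd (Magnet.AMonS S N) T).left (𝒰.f i) := by
    refine IsPullback.of_right (h₁₂ := pA N T) (v₁₃ := (Magnet.AMon Z0.{u} N).hom) (h₂₂ := T.hom ≫ specULiftZIsTerminal.from S) ?_ ?_ (isPullback_pA N T)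
    · rw [whiskerLeft_pA, ← Category.assoc]
      exact isPullback_pA N (Over.mk (𝒰.f i ≫ T.hom))
    · rw [← Over.comp_left, whiskerLeft_snd]; rfl
  rw [← cancel_epi hb.isoPullback.hom]
  change hb.isoPullback.hom ≫ pullback.fst _ _ ≫ g = hb.isoPullback.hom ≫ pullback.fst _ _ ≫ h
  rw [IsPullback.isoPullback_hom_fst_assoc, IsPullback.isoPullback_hom_fst_assoc]
  exact hi

/-- `A(M)_T ⟶ A(N)_T` is an epimorphism for maps to separated schemes when `N ⟶ M` is injective. -/
theorem ext_of_map {X : Over S} [IsSeparated X.hom] (f : N →+ M) (hf : Function.Injective f) {T : Over S}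
    {g h : Magnet.AMonS S N ⊗ T ⟶ X}
    (e : (Magnet.AMonS.map S f ▷ T) ≫ g = (Magnet.AMonS.map S f ▷ T) ≫ h) : g = h := by
  ext1
  refine affCharts_jointly_epi N T fun C j hj => ?_
  let := algZ (C : Type u)
  let t : Over.mk (j ≫ T.hom) ⟶ T := Over.homMk j
  change (Magnet.AMonS S N ◁ t).left ≫ g.left = (Magnet.AMonS S N ◁ t).left ≫ h.left
  rw [← cancel_epi (affIso C (j ≫ T.hom) N).inv]
  refine Spec_ext_of_injective (CommRingCat.ofHom (R := MA.{u} N ⊗[Z0.{u}] (C : Type u)) (S := MA.{u} M ⊗[Z0.{u}] (C : Type u)) (mapT C f).toRingHom) (mapT_injective C f hf) X.hom ?_ ?_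
  · simp only [Category.assoc, Over.w g, Over.w h]
  · rw [← affIso_inv_whiskerRight_assoc, ← affIso_inv_whiskerRight_assoc, ← Over.comp_left_assoc, ← Over.comp_left_assoc,
      ← whisker_exchange, Over.comp_left_assoc, Over.comp_left_assoc, ← Over.comp_left, e, Over.comp_left]

end

end Groth.Agent.MagnetHom
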