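import Mathlib
import Groth.Prelude.Def_Magnet3
import Groth.Agent.MagnetHom.Aff

/-! Points of `A(N)_S` with values in affine schemes are multiplicative maps `N → C`. -/

set_option autoImplicit false
set_option backward.isDefEq.respectTransparency false
set_option backward.isDefEq.respectTransparency.types false
set_option synthInstance.maxHeartbeats 400000
set_option maxHeartbeats 1000000
universe u

open CategoryTheory CategoryTheory.Limits MonoidalCategory CartesianMonoidalCategory MonObj AlgebraicGeometry Opposite TensorProduct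

namespace Groth.Agent.MagnetHom

noncomputable section

attribute [local instance 50] algZ
attribute [local instance 10000] Algebra.toModule

variable {S : Scheme.{u}} {N M : Type} [AddCommMonoid N] [AddCommMonoid M]
  (C : Type u) [CommRing C] (str : Spec (CommRingCat.of C) ⟶ S)

abbrev bang (S : Scheme.{u}) : S ⟶ Spec (CommRingCat.of Z0.{u}) := specULiftZIsTerminal.from S

theorem str_bang : str ≫ bang S = Spec.map (CommRingCat.ofHom (algebraMap Z0.{u} C)) :=
  specULiftZIsTerminal.hom_ext _ _

/-- `Spec C`, over `ℤ` through `str`, is the canonical one. -/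
def canonIso : (Over.map (bang S)).obj (Over.mk str) ⟶
    (Spec (CommRingCat.of C)).asOver (Spec (CommRingCat.of Z0.{u})) :=
  Over.homMk (𝟙 _) ((Category.id_comp _).trans (str_bang C str).symm)

/-- The `C`-point of `A(N)_S` given by a multiplicative map. -/
def pt (p : Multiplicative N →* C) : Over.mk str ⟶ Magnet.AMonS S N :=
  (Over.mapPullbackAdj (bang S)).homEquiv _ _
    (canonIso C str ≫ Spec.mapMulEquiv ⟨MonoidAlgebra.lift Z0.{u} C (Multiplicative N) p⟩)

@[reassoc]
theorem pt_left_fst (p : Multiplicative N →* C) : (pt C str p).left ≫ pullback.fst _ _ =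
    Spec.map (CommRingCat.ofHom (MonoidAlgebra.lift Z0.{u} C (Multiplicative N) p).toRingHom) := by
  simp [pt, Adjunction.homEquiv_unit, canonIso, Spec.mapMulEquiv]
  exact Category.id_comp _

theorem homEquiv_mul {A : Over (Spec (CommRingCat.of Z0.{u}))} [MonObj A] {T : Over S}
    (g h : (Over.map (bang S)).obj T ⟶ A) :
    (Over.mapPullbackAdj (bang S)).homEquiv T A (g * h) =
      ((Over.mapPullbackAdj (bang S)).homEquiv T A g : T ⟶ Red.bc (bang S) A) *
        (Over.mapPullbackAdj (bang S)).homEquiv T A h := by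
  have := Magnet.MonAct.lift_homEquiv_bc_act (bang S) (Magnet.MonAct.regular A) g h
  rw [Magnet.MonAct.bc_regular, Magnet.MonAct.lift_regular_act, Magnet.MonAct.lift_regular_act] at this
  exact this.symm

theorem lift_convMul (p q : Multiplicative N →* C) :
    (⟨MonoidAlgebra.lift Z0.{u} C (Multiplicative N) (p * q)⟩ : WithConv (MA.{u} N →ₐ[Z0.{u}] C)) =
      ⟨MonoidAlgebra.lift Z0.{u} C (Multiplicative N) p⟩ * ⟨MonoidAlgebra.lift Z0.{u} C (Multiplicative N) q⟩ := by
  apply WithConv.ofConv_injective
  refine MonoidAlgebra.algHom_ext (fun n => ?_) (Subsingleton.elim _ _)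
  simp [AlgHom.convMul_apply]

theorem pt_mul (p q : Multiplicative N →* C) : pt C str (p * q) = pt C str p * pt C str q := by
  rw [pt, pt, pt, lift_convMul, map_mul]
  refine Eq.trans ?_ (homEquiv_mul _ _)
  congr 1

theorem exists_eq_pt (x : Over.mk str ⟶ Magnet.AMonS S N) : ∃ p, x = pt C str p := by
  have hc : IsIso (canonIso C str) :=
    ⟨Over.homMk (𝟙 _) ((Category.id_comp _).trans (str_bang C str)), Over.OverMorphism.ext (Category.id_comp _), Over.OverMorphism.ext (Category.id_comp _)⟩
  obtain ⟨y, rfl⟩ := ((Over.mapPullbackAdj (bang S)).homEquiv _ _).surjective x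
  obtain ⟨φ, hφ⟩ := (Spec.mapMulEquiv (R := Z0.{u}) (S := MA.{u} N) (T := C)).surjective (inv (canonIso C str) ≫ y)
  obtain ⟨p, hp⟩ := (MonoidAlgebra.lift Z0.{u} C (Multiplicative N)).surjective φ.ofConv
  refine ⟨p, ?_⟩
  rw [pt, hp]
  rw [show (⟨φ.ofConv⟩ : WithConv _) = φ from rfl, hφ, IsIso.hom_inv_id_assoc]

theorem pt_map (f : N →+ M) (p : Multiplicative M →* C) :
    pt C str p ≫ Magnet.AMonS.map S f = pt C str (p.comp (AddMonoidHom.toMultiplicative f)) := by
  ext1
  apply pullback.hom_ext
  · rw [Over.comp_left, Category.assoc]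
    have h : (Magnet.AMonS.map S f).left ≫ pullback.fst _ _ = pullback.fst _ _ ≫ (Magnet.AMon.map Z0.{u} f).left :=
      pullback.lift_fst _ _ _
    rw [h, pt_left_fst_assoc, pt_left_fst, Magnet.AMon.map_left]
    change Spec.map _ ≫ Spec.map _ = Spec.map _
    rw [← Spec.map_comp]
    congr 1
    apply CommRingCat.hom_ext
    apply MonoidAlgebra.ringHom_ext
    · intro r
      simp
    · intro m
      simp
  · exact (Over.w (pt C str p ≫ Magnet.AMonS.map S f)).trans (Over.w (pt C str _)).symm

variable (D : Type u) [CommRing D] (φ : C →+* D)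

/-- Change of ring. -/
abbrev chg : Over.mk (Spec.map (CommRingCat.ofHom φ) ≫ str) ⟶ Over.mk str :=
  Over.homMk (Spec.map (CommRingCat.ofHom φ)) rfl

theorem chg_pt (p : Multiplicative N →* C) :
    chg C str D φ ≫ pt C str p = pt D (Spec.map (CommRingCat.ofHom φ) ≫ str) (φ.toMonoidHom.comp p) := by
  ext1
  apply pullback.hom_ext
  · rw [Over.comp_left, Category.assoc, pt_left_fst, pt_left_fst]
    change Spec.map _ ≫ Spec.map _ = Spec.map _
    rw [← Spec.map_comp]
    congr 1
    apply CommRingCat.hom_ext
    apply MonoidAlgebra.ringHom_ext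
    · intro r
      simp [ULift.algebraMap_apply']
    · intro m
      simp
  · exact (Over.w (chg C str D φ ≫ pt C str p)).trans (Over.w (pt D _ _)).symm

variable {C} in
/-- The ring map of the point `(p, id)` of `A(N)_S ×_S Spec C`. -/
def ptHom (p : Multiplicative N →* C) : MA.{u} N ⊗[Z0.{u}] C →ₐ[Z0.{u}] C :=
  Algebra.TensorProduct.productMap (MonoidAlgebra.lift Z0.{u} C (Multiplicative N) p) (AlgHom.id _ C)

theorem lift_pt_left (p : Multiplicative N →* C) :
    (lift (pt C str p) (𝟙 (Over.mk str))).left =
      Spec.map (CommRingCat.ofHom (R := MA.{u} N ⊗[Z0.{u}] C) (S := C) (ptHom p).toRingHom) ≫ (affIso C str N).inv := by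
  apply (isPullback_pA N (Over.mk str)).hom_ext
  · rw [Category.assoc, affIso_inv_pA, pA, ← Over.comp_left_assoc, lift_fst, pt_left_fst]
    simp only [← Spec.map_comp]
    congr 1
    apply CommRingCat.hom_ext
    apply MonoidAlgebra.ringHom_ext
    · intro r
      simp [ptHom]
    · intro m
      simp [ptHom]
  · rw [Category.assoc, affIso_inv_snd, ← Over.comp_left, lift_snd, ← Spec.map_comp]
    refine (Spec.map_id _).symm.trans ?_
    congr 1
    ext x
    simp [ptHom]

end

end Groth.Agent.MagnetHom
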