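import Mathlib
import Groth.Prelude.Def_Magnet3
import Groth.Agent.MagnetHom.Aff
import Groth.Agent.MagnetHom.Points

/-! `A(N)_S ×_S Spec C = Spec C[N]` and points with values in affine schemes. -/

set_option autoImplicit false
set_option backward.isDefEq.respectTransparency false
set_option backward.isDefEq.respectTransparency.types false
set_option synthInstance.maxHeartbeats 400000
set_option maxHeartbeats 1000000
universe u

open CategoryTheory CategoryTheory.Limits MonoidalCategory CartesianMonoidalCategory MonObj AlgebraicGeometry Opposite TensorProduct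

namespace Groth.Agent.MagnetHom

noncomputable section

attribute [local instance 50] algZ
attribute [local instance 10000] Algebra.toModule

/-- `C[N]`. -/
abbrev GA (C : Type u) [CommRing C] (N : Type) [AddCommMonoid N] : Type u := MonoidAlgebra C (Multiplicative N)

variable {S : Scheme.{u}} {N M : Type} [AddCommMonoid N] [AddCommMonoid M]
  (C : Type u) [CommRing C]

theorem ringHom_Z0_ext {R : Type u} [NonAssocSemiring R] (f g : Z0.{u} →+* R) : f = g := by
  ext x
  obtain ⟨x⟩ := x
  exact RingHom.congr_fun (Subsingleton.elim (f.comp ULift.ringEquiv.symm.toRingHom) (g.comp ULift.ringEquiv.symm.toRingHom)) x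

/-- `ℤ[N] ⊗ C → C[N]`. -/
def toGA (N : Type) [AddCommMonoid N] : MA.{u} N ⊗[Z0.{u}] C →ₐ[Z0.{u}] GA C N :=
  Algebra.TensorProduct.productMap (MonoidAlgebra.lift Z0.{u} (GA C N) (Multiplicative N) (MonoidAlgebra.of C (Multiplicative N)))
    { (MonoidAlgebra.singleOneRingHom : C →+* GA C N) with
      commutes' := fun r => RingHom.congr_fun (ringHom_Z0_ext ((MonoidAlgebra.singleOneRingHom : C →+* GA C N).comp (algebraMap Z0.{u} C)) _) r }

/-- `C[N] → ℤ[N] ⊗ C`. -/
def ofGA (N : Type) [AddCommMonoid N] : GA C N →+* MA.{u} N ⊗[Z0.{u}] C :=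
  MonoidAlgebra.liftNCRingHom (Algebra.TensorProduct.includeRight : C →ₐ[Z0.{u}] MA.{u} N ⊗[Z0.{u}] C).toRingHom
    (((Algebra.TensorProduct.includeLeftRingHom : MA.{u} N →+* MA.{u} N ⊗[Z0.{u}] C) : MA.{u} N →* MA.{u} N ⊗[Z0.{u}] C).comp
      (MonoidAlgebra.of Z0.{u} (Multiplicative N))) (fun _ _ => mul_comm (G := MA.{u} N ⊗[Z0.{u}] C) _ _)

theorem toGA_tmul_single (n : Multiplicative N) (c : C) :
    toGA C N (MonoidAlgebra.single n 1 ⊗ₜ c) = MonoidAlgebra.single n c := by
  simp [toGA, MonoidAlgebra.single_mul_single]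

theorem ofGA_single (n : Multiplicative N) (c : C) :
    ofGA C N (MonoidAlgebra.single n c) = MonoidAlgebra.single n 1 ⊗ₜ c := by
  simp [ofGA]

theorem toGA_comp_ofGA : (toGA C N).toRingHom.comp (ofGA C N) = RingHom.id _ := by
  refine MonoidAlgebra.ringHom_ext (fun c => ?_) (fun n => ?_)
  · rw [RingHom.comp_apply, ofGA_single, RingHom.id_apply]; exact toGA_tmul_single C _ c
  · rw [RingHom.comp_apply, ofGA_single, RingHom.id_apply]; exact toGA_tmul_single C n 1

theorem ofGA_comp_toGA : (ofGA C N).comp (toGA C N).toRingHom = RingHom.id _ := by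
  refine Algebra.TensorProduct.ringHom_ext ?_ ?_
  · refine MonoidAlgebra.ringHom_ext (fun r => ?_) (fun n => ?_)
    · exact RingHom.congr_fun (ringHom_Z0_ext (((((ofGA C N).comp (toGA C N).toRingHom)).comp
        (Algebra.TensorProduct.includeLeftRingHom (R := Z0.{u}) (A := MA.{u} N) (B := C))).comp MonoidAlgebra.singleOneRingHom)
        (((RingHom.id _).comp (Algebra.TensorProduct.includeLeftRingHom (R := Z0.{u}) (A := MA.{u} N) (B := C))).comp MonoidAlgebra.singleOneRingHom)) r
    · change ofGA C N (toGA C N (MonoidAlgebra.single n 1 ⊗ₜ (1 : C))) = _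
      rw [toGA_tmul_single, ofGA_single]; rfl
  · ext c
    change ofGA C N (toGA C N ((1 : MA.{u} N) ⊗ₜ c)) = _
    rw [MonoidAlgebra.one_def, toGA_tmul_single, ofGA_single]; rfl

/-- `ℤ[N] ⊗ C ≅ C[N]`. -/
def gaIso (N : Type) [AddCommMonoid N] : CommRingCat.of (GA C N) ≅ CommRingCat.of (MA.{u} N ⊗[Z0.{u}] C) where
  hom := CommRingCat.ofHom (ofGA C N)
  inv := CommRingCat.ofHom (toGA C N).toRingHom
  hom_inv_id := CommRingCat.hom_ext (toGA_comp_ofGA C)
  inv_hom_id := CommRingCat.hom_ext (ofGA_comp_toGA C)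

variable (str : Spec (CommRingCat.of C) ⟶ S)

/-- `Spec C[N] ≅ A(N)_S ×_S Spec C`. -/
def gaff (N : Type) [AddCommMonoid N] :
    Spec (CommRingCat.of (GA C N)) ≅ (Magnet.AMonS S N ⊗ Over.mk str).left :=
  Scheme.Spec.mapIso (gaIso C N).symm.op ≪≫ (affIso C str N).symm

theorem gaff_hom (N : Type) [AddCommMonoid N] :
    (gaff C str N).hom = Spec.map (CommRingCat.ofHom (toGA C N).toRingHom) ≫ (affIso C str N).inv := rfl

@[reassoc]
theorem gaff_hom_snd (N : Type) [AddCommMonoid N] :
    (gaff C str N).hom ≫ (snd (Magnet.AMonS S N) (Over.mk str)).left =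
      Spec.map (CommRingCat.ofHom (MonoidAlgebra.singleOneRingHom : C →+* GA C N)) := by
  rw [gaff_hom, Category.assoc, affIso_inv_snd, ← Spec.map_comp]
  congr 1
  apply CommRingCat.hom_ext
  refine RingHom.ext fun c => ?_
  exact (congrArg (toGA C N) (by rw [← MonoidAlgebra.one_def])).trans (toGA_tmul_single C 1 c)

@[reassoc]
theorem gaff_hom_pA (N : Type) [AddCommMonoid N] :
    (gaff C str N).hom ≫ pA N (Over.mk str) =
      Spec.map (CommRingCat.ofHom (MonoidAlgebra.mapRingHom (Multiplicative N) (algebraMap Z0.{u} C) : MA.{u} N →+* GA C N)) := by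
  rw [gaff_hom, Category.assoc, affIso_inv_pA, ← Spec.map_comp]
  congr 1
  apply CommRingCat.hom_ext
  refine MonoidAlgebra.ringHom_ext (fun r => ?_) (fun n => ?_)
  · exact RingHom.congr_fun (ringHom_Z0_ext ((((toGA C N).toRingHom).comp
        (Algebra.TensorProduct.includeLeftRingHom (R := Z0.{u}) (A := MA.{u} N) (B := C))).comp MonoidAlgebra.singleOneRingHom)
        ((MonoidAlgebra.mapRingHom (Multiplicative N) (algebraMap Z0.{u} C)).comp MonoidAlgebra.singleOneRingHom)) r
  · simp
    exact toGA_tmul_single C n 1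

@[reassoc]
theorem gaff_whiskerRight (f : N →+ M) :
    (gaff C str M).hom ≫ (Magnet.AMonS.map S f ▷ Over.mk str).left =
      Spec.map (CommRingCat.ofHom (MonoidAlgebra.mapDomainRingHom C (AddMonoidHom.toMultiplicative f) : GA C N →+* GA C M)) ≫
        (gaff C str N).hom := by
  apply (isPullback_pA N (Over.mk str)).hom_ext
  · rw [Category.assoc, whiskerRight_map_pA, gaff_hom_pA_assoc, Category.assoc, gaff_hom_pA, Magnet.AMon.map_left]
    simp only [← Spec.map_comp]
    congr 1
    apply CommRingCat.hom_ext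
    refine MonoidAlgebra.ringHom_ext (fun r => ?_) (fun n => ?_) <;> simp
  · rw [Category.assoc, ← Over.comp_left, whiskerRight_snd, gaff_hom_snd, Category.assoc, gaff_hom_snd]
    simp only [← Spec.map_comp]
    congr 1
    ext c
    simp

variable {C str} {D : Type u} [CommRing D] {str' : Spec (CommRingCat.of D) ⟶ S}

@[reassoc]
theorem gaff_whiskerLeft (t : Over.mk str' ⟶ Over.mk str) (φ : C →+* D)
    (hφ : t.left = Spec.map (CommRingCat.ofHom φ)) (N : Type) [AddCommMonoid N] :
    (gaff D str' N).hom ≫ (Magnet.AMonS S N ◁ t).left =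
      Spec.map (CommRingCat.ofHom (MonoidAlgebra.mapRingHom (Multiplicative N) φ)) ≫ (gaff C str N).hom := by
  apply (isPullback_pA N (Over.mk str)).hom_ext
  · rw [Category.assoc, whiskerLeft_pA, gaff_hom_pA, Category.assoc, gaff_hom_pA]
    simp only [← Spec.map_comp]
    congr 1
    apply CommRingCat.hom_ext
    refine MonoidAlgebra.ringHom_ext (fun r => ?_) (fun n => ?_)
    · exact RingHom.congr_fun (ringHom_Z0_ext ((MonoidAlgebra.mapRingHom (Multiplicative N) (algebraMap Z0.{u} D)).comp MonoidAlgebra.singleOneRingHom)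
        (((MonoidAlgebra.mapRingHom (Multiplicative N) φ).comp (MonoidAlgebra.mapRingHom (Multiplicative N) (algebraMap Z0.{u} C))).comp MonoidAlgebra.singleOneRingHom)) r
    · simp
  · rw [Category.assoc, ← Over.comp_left, whiskerLeft_snd, Over.comp_left, gaff_hom_snd_assoc, Category.assoc, gaff_hom_snd, hφ]
    simp only [← Spec.map_comp]
    congr 1
    ext c
    simp

variable (C str)

/-- The section of `A(N)_S × Spec C` given by a point. -/
theorem lift_pt_left' (p : Multiplicative N →* C) :
    (CartesianMonoidalCategory.lift (pt C str p) (𝟙 (Over.mk str))).left =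
      Spec.map (CommRingCat.ofHom (MonoidAlgebra.liftNCRingHom (RingHom.id C) p (fun _ _ => Commute.all _ _) : GA C N →+* C)) ≫
        (gaff C str N).hom := by
  rw [lift_pt_left, gaff_hom, ← Category.assoc]
  congr 1
  rw [← Spec.map_comp]
  congr 1
  apply CommRingCat.hom_ext
  refine Algebra.TensorProduct.ringHom_ext ?_ ?_
  · refine MonoidAlgebra.ringHom_ext (fun r => ?_) (fun n => ?_)
    · exact RingHom.congr_fun (ringHom_Z0_ext ((((ptHom p).toRingHom).comp
        (Algebra.TensorProduct.includeLeftRingHom (R := Z0.{u}) (A := MA.{u} N) (B := C))).comp MonoidAlgebra.singleOneRingHom)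
        (((((MonoidAlgebra.liftNCRingHom (RingHom.id C) p (fun _ _ => Commute.all _ _) : GA C N →+* C).comp (toGA C N).toRingHom)).comp
        (Algebra.TensorProduct.includeLeftRingHom (R := Z0.{u}) (A := MA.{u} N) (B := C))).comp MonoidAlgebra.singleOneRingHom)) r
    · change ptHom p (MonoidAlgebra.single n 1 ⊗ₜ (1 : C)) = MonoidAlgebra.liftNCRingHom (RingHom.id C) p (fun _ _ => Commute.all _ _) (toGA C N (MonoidAlgebra.single n 1 ⊗ₜ (1 : C)))
      rw [toGA_tmul_single]
      simp [ptHom]
  · refine RingHom.ext fun c => ?_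
    change ptHom p ((1 : MA.{u} N) ⊗ₜ c) = MonoidAlgebra.liftNCRingHom (RingHom.id C) p (fun _ _ => Commute.all _ _) (toGA C N ((1 : MA.{u} N) ⊗ₜ c))
    rw [MonoidAlgebra.one_def, toGA_tmul_single]
    simp [ptHom]

/-- Two points of `A(N)_S` commute. -/
theorem AMonS_mul_comm {T : Over S} (g h : T ⟶ Magnet.AMonS S N) : g * h = h * g := by
  ext1
  refine Scheme.Cover.hom_ext T.left.affineCover _ _ fun i => ?_
  let C : Type u := (T.left.affineOpenCover.X i : CommRingCat.{u})
  let t : Over.mk (T.left.affineCover.f i ≫ T.hom) ⟶ T := Over.homMk (T.left.affineCover.f i)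
  obtain ⟨p, hp⟩ := exists_eq_pt C (T.left.affineCover.f i ≫ T.hom) (t ≫ g)
  obtain ⟨q, hq⟩ := exists_eq_pt C (T.left.affineCover.f i ≫ T.hom) (t ≫ h)
  have : t ≫ (g * h) = t ≫ (h * g) := by
    rw [MonObj.comp_mul, MonObj.comp_mul, hp, hq]
    exact (pt_mul C _ p q).symm.trans ((congrArg (pt C _) (mul_comm p q)).trans (pt_mul C _ q p))
  exact congrArg CommaMorphism.left this

end

end Groth.Agent.MagnetHom
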