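import Mathlib
import Groth.Agent.MagnetHom.Aff

/-! Infinitesimal thickenings of `A(N)_S ×_S T`. -/

set_option autoImplicit false
set_option backward.isDefEq.respectTransparency false
set_option backward.isDefEq.respectTransparency.types false
set_option synthInstance.maxHeartbeats 400000
set_option maxHeartbeats 1000000
universe u

open CategoryTheory CategoryTheory.Limits MonoidalCategory CartesianMonoidalCategory AlgebraicGeometry Opposite TensorProduct

namespace Groth.Agent.MagnetHom

noncomputable section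

attribute [local instance 50] algZ
attribute [local instance 10000] Algebra.toModule

theorem algZ_commutes {C D : Type u} [CommRing C] [CommRing D] (φ : C →+* D) (r : Z0.{u}) :
    φ (algebraMap Z0.{u} C r) = algebraMap Z0.{u} D r := by
  rw [ULift.algebraMap_apply', ULift.algebraMap_apply']
  simp

theorem ker_pow_two_eq_bot {A B : CommRingCat.{u}} (φ : A ⟶ B) (h' : ∀ x y, φ x = 0 → φ y = 0 → x * y = 0) :
    IsNilpotent (Spec.map φ).ker := by
  have h : RingHom.ker φ.hom ^ 2 = ⊥ := by
    rw [sq]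
    refine le_bot_iff.mp (Ideal.mul_le.mpr fun x hx y hy => ?_)
    exact (Ideal.mem_bot).mpr (h' x y hx hy)
  refine ⟨2, Scheme.IdealSheafData.ext_of_isAffine ?_⟩
  rw [Scheme.IdealSheafData.ideal_pow, Pi.pow_apply, Scheme.Hom.ker_apply]
  simp only [Scheme.IdealSheafData.zero_eq_bot, Scheme.IdealSheafData.ideal_bot, Pi.bot_apply]
  have e : (Spec.map φ).appTop = (Scheme.ΓSpecIso A).hom ≫ φ ≫ (Scheme.ΓSpecIso B).inv := by
    rw [Scheme.ΓSpecIso_inv_naturality φ, Iso.hom_inv_id_assoc]
  change RingHom.ker (Spec.map φ).appTop.hom ^ 2 = ⊥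
  rw [e, CommRingCat.hom_comp, CommRingCat.hom_comp, RingHom.comp_assoc,
    RingHom.ker_comp_of_injective _ (ConcreteCategory.bijective_of_isIso (Scheme.ΓSpecIso B).inv).1, ← RingHom.comap_ker]
  let e' := (Scheme.ΓSpecIso A).commRingCatIsoToRingEquiv
  change (Ideal.comap e'.toRingHom _) ^ 2 = ⊥
  refine le_bot_iff.mp ((Ideal.le_comap_pow _ 2).trans ?_)
  rw [h, ← RingHom.ker_eq_comap_bot, (RingHom.injective_iff_ker_eq_bot e'.toRingHom).mp e'.injective]

variable {S : Scheme.{u}} (A : Type u) [CommRing A] (str : Spec (CommRingCat.of A) ⟶ S)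
  (D : Type u) [CommRing D] (q : A →+* D)

/-- `q` as a map of `ℤ`-algebras. -/
def qZ : A →ₐ[Z0.{u}] D := { q with commutes' := algZ_commutes q }

abbrev thickT : Over.mk (Spec.map (CommRingCat.ofHom q) ≫ str) ⟶ Over.mk str :=
  Over.homMk (Spec.map (CommRingCat.ofHom q)) rfl

@[reassoc]
theorem affIso_inv_whiskerLeft (N : Type) [AddCommMonoid N] :
    (affIso D (Spec.map (CommRingCat.ofHom q) ≫ str) N).inv ≫ (Magnet.AMonS S N ◁ thickT A str D q).left =
      Spec.map (CommRingCat.ofHom (R := MA.{u} N ⊗[Z0.{u}] A) (S := MA.{u} N ⊗[Z0.{u}] D)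
        (Algebra.TensorProduct.map (AlgHom.id Z0.{u} (MA.{u} N)) (qZ A D q)).toRingHom) ≫ (affIso A str N).inv := by
  apply (isPullback_pA N (Over.mk str)).hom_ext
  · rw [Category.assoc, whiskerLeft_pA, affIso_inv_pA, Category.assoc, affIso_inv_pA]
    simp only [← Spec.map_comp]
    congr 1
    refine CommRingCat.hom_ext (RingHom.ext fun x => ?_)
    change x ⊗ₜ[Z0.{u}] (1 : D) = x ⊗ₜ (qZ A D q) 1
    rw [map_one]
  · rw [Category.assoc, ← Over.comp_left, whiskerLeft_snd, Over.comp_left, affIso_inv_snd_assoc, Category.assoc, affIso_inv_snd]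
    change Spec.map _ ≫ Spec.map _ = Spec.map _ ≫ Spec.map _
    simp only [← Spec.map_comp]
    congr 1

/-- Maps out of `A(N)_S ×_S Spec A` agreeing on a square-zero thickening are equal. -/
theorem hom_ext_of_formallyUnramified (hq : Function.Surjective q) (h2 : RingHom.ker q ^ 2 = ⊥)
    (N : Type) [AddCommMonoid N] {X Y : Over S} (f : X ⟶ Y) [FormallyUnramified f.left]
    {g₁ g₂ : Magnet.AMonS S N ⊗ Over.mk str ⟶ X}
    (htop : (Magnet.AMonS S N ◁ thickT A str D q) ≫ g₁ = (Magnet.AMonS S N ◁ thickT A str D q) ≫ g₂)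
    (hbot : g₁ ≫ f = g₂ ≫ f) : g₁ = g₂ := by
  ext1
  rw [← cancel_epi (affIso A str N).inv]
  let ψ := Algebra.TensorProduct.map (AlgHom.id Z0.{u} (MA.{u} N)) (qZ A D q)
  have hψ : Function.Surjective ψ := Algebra.TensorProduct.map_surjective _ _ Function.surjective_id hq
  have hk : ∀ x y, ψ x = 0 → ψ y = 0 → x * y = 0 := by
    have hm : RingHom.ker ψ = (RingHom.ker (qZ A D q)).map (Algebra.TensorProduct.includeRight : A →ₐ[Z0.{u}] MA.{u} N ⊗[Z0.{u}] A) :=
      Algebra.TensorProduct.lTensor_ker (A := MA.{u} N) (qZ A D q) hq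
    have key : ∀ x ∈ RingHom.ker q, ∀ y ∈ RingHom.ker q, x * y = 0 := fun x hx y hy => by
      have := Ideal.mul_mem_mul hx hy
      rwa [← sq, h2, Ideal.mem_bot] at this
    intro x y hx hy
    replace hx : x ∈ RingHom.ker ψ := hx
    replace hy : y ∈ RingHom.ker ψ := hy
    rw [hm] at hx hy
    induction hx using Submodule.span_induction with
    | mem x hx =>
      obtain ⟨a, ha, rfl⟩ := hx
      induction hy using Submodule.span_induction with
      | mem y hy =>
        obtain ⟨b, hb, rfl⟩ := hy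
        rw [← map_mul, key a ha b hb, map_zero]
      | zero => rw [mul_zero]
      | add y z _ _ e₁ e₂ => rw [mul_add, e₁, e₂, add_zero]
      | smul c y _ e => exact (mul_left_comm (Algebra.TensorProduct.includeRight a : MA.{u} N ⊗[Z0.{u}] A) c y).trans ((congrArg (c * ·) e).trans (mul_zero c))
    | zero => rw [zero_mul]
    | add y z _ _ e₁ e₂ => rw [add_mul, e₁, e₂, add_zero]
    | smul c z _ e => exact (mul_assoc c z y).trans ((congrArg (c * ·) e).trans (mul_zero c))
  let φ := CommRingCat.ofHom (R := MA.{u} N ⊗[Z0.{u}] A) (S := MA.{u} N ⊗[Z0.{u}] D) ψ.toRingHom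
  have : IsClosedImmersion (Spec.map φ) := IsClosedImmersion.spec_of_surjective _ hψ
  refine FormallyUnramified.hom_ext (Spec.map φ) (ker_pow_two_eq_bot φ hk) f.left ?_ ?_
  · have h := congrArg CommaMorphism.left htop
    simp only [Over.comp_left] at h
    rw [← affIso_inv_whiskerLeft_assoc, ← affIso_inv_whiskerLeft_assoc, h]
  · have h := congrArg CommaMorphism.left hbot
    simp only [Over.comp_left] at h
    rw [Category.assoc, Category.assoc, h]

end

end Groth.Agent.MagnetHom
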