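import Mathlib
import Groth.Prelude.Def_Magnet3
import Groth.Agent.MagnetHom.Points
import Groth.Agent.MagnetHom.Thick

/-! The vertex section of `A(N)`, and its presence in orbit closures. -/

set_option autoImplicit false
set_option backward.isDefEq.respectTransparency false
set_option backward.isDefEq.respectTransparency.types false
set_option synthInstance.maxHeartbeats 400000
set_option maxHeartbeats 1000000
universe u

open CategoryTheory CategoryTheory.Limits MonoidalCategory CartesianMonoidalCategory MonObj AlgebraicGeometry Opposite TensorProduct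

namespace Groth.Agent.MagnetHom

noncomputable section

attribute [local instance 50] algZ
attribute [local instance 10000] Algebra.toModule
attribute [-instance] AlgebraicGeometry.instGrpObjSpecAsOverSpec AlgebraicGeometry.instCommGrpObjSpecAsOverSpec

variable {S : Scheme.{u}} {M : Type} [AddCommGroup M] (N : AddSubmonoid M)

/-- `1` on units of `N`, `0` elsewhere. -/
def vertexChar (C : Type u) [CommRing C] : Multiplicative N →* C :=
  haveI := Classical.decPred fun n : N => -(n : M) ∈ N
  { toFun := fun n => if -(n.toAdd : M) ∈ N then 1 else 0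
    map_one' := by simp
    map_mul' := fun a b => by
      have : -((a.toAdd : M) + b.toAdd) ∈ N ↔ -(a.toAdd : M) ∈ N ∧ -(b.toAdd : M) ∈ N := by
        refine ⟨fun h => ⟨?_, ?_⟩, fun h => by rw [neg_add]; exact N.add_mem h.1 h.2⟩
        · simpa using N.add_mem h b.toAdd.2
        · simpa using N.add_mem h a.toAdd.2
      simp only [toAdd_mul, AddSubmonoid.coe_add, this, ite_and]
      split_ifs <;> simp }

theorem vertexChar_apply_unit (C : Type u) [CommRing C] (n : N) (h : -(n : M) ∈ N) :
    vertexChar N C (Multiplicative.ofAdd n) = 1 := by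
  simp [vertexChar, h]

theorem vertexChar_apply_nonunit (C : Type u) [CommRing C] (n : N) (h : -(n : M) ∉ N) :
    vertexChar N C (Multiplicative.ofAdd n) = 0 := by
  simp [vertexChar, h]

/-- The vertex `S ⟶ A(N)_S`. -/
def vertex (S : Scheme.{u}) : 𝟙_ (Over S) ⟶ Magnet.AMonS S N :=
  Over.homMk (pullback.lift (bang S ≫ Spec.map (CommRingCat.ofHom
      (MonoidAlgebra.lift Z0.{u} Z0.{u} (Multiplicative N) (vertexChar N Z0.{u})).toRingHom)) (𝟙 S)
    (specULiftZIsTerminal.hom_ext _ _)) (pullback.lift_snd _ _ _)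

theorem toUnit_vertex (C : Type u) [CommRing C] (str : Spec (CommRingCat.of C) ⟶ S) :
    toUnit (Over.mk str) ≫ vertex N S = pt C str (vertexChar N C) := by
  ext1
  apply pullback.hom_ext
  · rw [Over.comp_left, Category.assoc, pt_left_fst]
    simp only [vertex, Over.homMk_left, pullback.lift_fst]
    change str ≫ bang S ≫ Spec.map _ = _
    rw [← Category.assoc, str_bang, ← Spec.map_comp]
    congr 1
    apply CommRingCat.hom_ext
    apply MonoidAlgebra.ringHom_ext
    · intro r
      simp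
    · intro m
      simp only [CommRingCat.hom_comp, CommRingCat.hom_ofHom, RingHom.comp_apply]
      change algebraMap Z0.{u} C (MonoidAlgebra.lift _ _ _ (vertexChar N Z0.{u}) _) = MonoidAlgebra.lift _ _ _ _ _
      rw [MonoidAlgebra.lift_single, MonoidAlgebra.lift_single, one_smul, one_smul]
      by_cases h : -(m.toAdd : M) ∈ N
      · simp [vertexChar, h]
      · simp [vertexChar, h]
  · exact (Over.w (toUnit (Over.mk str) ≫ vertex N S)).trans (Over.w (pt C str _)).symm

omit [AddCommGroup M] in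
theorem mem_closure_range_SpecMap {A B C : CommRingCat.{u}} (φ : A ⟶ B) (ψ : A ⟶ C) (h : ∀ z, φ z = 0 → ψ z = 0)
    {Z : Scheme.{u}} (e : Spec A ⟶ Z) (s₀ : Spec C) :
    (Spec.map ψ ≫ e) s₀ ∈ closure (Set.range (Spec.map φ ≫ e)) := by
  rw [Scheme.Hom.comp_apply, Scheme.Hom.comp_base, TopCat.coe_comp, Set.range_comp]
  refine image_closure_subset_closure_image (Scheme.Hom.continuous _) (Set.mem_image_of_mem _ ?_)
  change PrimeSpectrum.comap ψ.hom s₀ ∈ closure (Set.range (PrimeSpectrum.comap φ.hom))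
  rw [PrimeSpectrum.closure_range_comap, PrimeSpectrum.mem_zeroLocus]
  intro z hz
  rw [SetLike.mem_coe, PrimeSpectrum.comap_asIdeal, Ideal.mem_comap, show ψ.hom z = 0 from h z hz]
  exact zero_mem _

theorem pt_one {L : Type} [AddCommMonoid L] (C : Type u) [CommRing C] (str : Spec (CommRingCat.of C) ⟶ S) :
    pt C str (1 : Multiplicative L →* C) = 1 := by
  obtain ⟨q, hq⟩ := exists_eq_pt C str (1 : Over.mk str ⟶ Magnet.AMonS S L)
  have := pt_mul C str (1 : Multiplicative L →* C) q
  rw [← hq, _root_.mul_one, _root_.one_mul] at this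
  exact this.symm.trans hq.symm

/-- An open immersion stable under a group: translates of points outside stay outside. -/
theorem act_not_mem_range {G X Y : Over S} [MonObj G] (aX : Magnet.MonAct G X) (aY : Magnet.MonAct G Y) (f : X ⟶ Y)
    [IsOpenImmersion f.left] (hf : Magnet.MonAct.IsEquivariant aX aY f) {W : Over S} (g gi : W ⟶ G) (hgi : gi * g = 1) (z : W ⟶ Y)
    (hz : ∀ w, z.left w ∉ Set.range f.left) (w : W.left) : (lift g z ≫ aY.act).left w ∉ Set.range f.left := by
  intro hw
  let P : Over S := Over.mk (pullback.fst (lift g z ≫ aY.act).left f.left ≫ W.hom)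
  let j₀ : P ⟶ W := Over.homMk (pullback.fst _ _) rfl
  let x : P ⟶ X := Over.homMk (pullback.snd _ _) (by
    change pullback.snd _ _ ≫ X.hom = pullback.fst _ _ ≫ W.hom
    rw [← Over.w f, ← pullback.condition_assoc, Over.w])
  have hx : j₀ ≫ lift g z ≫ aY.act = x ≫ f := Over.OverMorphism.ext pullback.condition
  obtain ⟨p, hp⟩ : w ∈ Set.range j₀.left := by
    change w ∈ Set.range (pullback.fst (lift g z ≫ aY.act).left f.left)
    rw [Scheme.Pullback.range_fst]
    exact hw
  have key : j₀ ≫ z = (lift (j₀ ≫ gi) x ≫ aX.act) ≫ f := by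
    have he := (Magnet.MonAct.isEquivariant_iff _ _ _).mp hf P (j₀ ≫ gi) x
    rw [Category.assoc, he, ← hx, ← Category.assoc j₀, comp_lift, ← aY.lift_mul_act, ← MonObj.comp_mul, hgi, MonObj.comp_one, aY.lift_one_act]
  refine hz w ⟨(lift (j₀ ≫ gi) x ≫ aX.act).left p, ?_⟩
  rw [← hp, ← Scheme.Hom.comp_apply, ← Over.comp_left, ← key, Over.comp_left, Scheme.Hom.comp_apply]

section Orbit

variable (K : Type u) [CommRing K] (p : Multiplicative N →* K) (D : Type u) [CommRing D]
  (uc : Multiplicative M →* D) (i : K →+* D)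

/-- The orbit of `p` as a point of `A(N)`. -/
def orbChar : Multiplicative N →* D :=
  uc.comp (AddMonoidHom.toMultiplicative N.subtype) * i.toMonoidHom.comp p

/-- The ring map of the orbit of `p`. -/
def orbHom : MA.{u} N ⊗[Z0.{u}] K →ₐ[Z0.{u}] D :=
  Algebra.TensorProduct.productMap (MonoidAlgebra.lift Z0.{u} D (Multiplicative N) (orbChar N K p D uc i)) (qZ K D i)

theorem orbHom_single (n : N) (k : Z0.{u}) (c : K) :
    orbHom N K p D uc i (MonoidAlgebra.single (Multiplicative.ofAdd n) k ⊗ₜ c) =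
      algebraMap Z0.{u} D k * (uc (Multiplicative.ofAdd (n : M)) * i (p (Multiplicative.ofAdd n) * c)) := by
  simp [orbHom, orbChar, qZ, Algebra.smul_def]
  ring

theorem ker_orbHom_le (r : D →+ K)
    (hr : ∀ (n : N) (k : Z0.{u}) (c : K), r (algebraMap Z0.{u} D k * (uc (Multiplicative.ofAdd (n : M)) * i (p (Multiplicative.ofAdd n) * c))) =
      ptHom (vertexChar N K) (MonoidAlgebra.single (Multiplicative.ofAdd n) k ⊗ₜ c)) :
    ∀ z, orbHom N K p D uc i z = 0 → ptHom (vertexChar N K) z = 0 := by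
  suffices h : ∀ z, r (orbHom N K p D uc i z) = ptHom (vertexChar N K) z by
    intro z hz
    rw [← h, hz, map_zero]
  intro z
  induction z using TensorProduct.induction_on with
  | zero => simp
  | add a b ha hb => rw [map_add, map_add, map_add, ha, hb]
  | tmul a c =>
    induction a using MonoidAlgebra.induction_linear with
    | zero => simp
    | add a b ha hb => rw [add_tmul, map_add, map_add, map_add, ha, hb]
    | single n k =>
      obtain ⟨n, rfl⟩ := Multiplicative.ofAdd.surjective n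
      rw [orbHom_single, hr]

variable (str : Spec (CommRingCat.of K) ⟶ S)

/-- The orbit of `p`. -/
def orb : Over.mk (Spec.map (CommRingCat.ofHom i) ≫ str) ⟶ Magnet.AMonS S N ⊗ Over.mk str :=
  CartesianMonoidalCategory.lift (pt D _ (orbChar N K p D uc i)) (chg K str D i)

theorem orb_left : (orb N K p D uc i str).left =
    Spec.map (CommRingCat.ofHom (R := MA.{u} N ⊗[Z0.{u}] K) (S := D) (orbHom N K p D uc i).toRingHom) ≫
      (affIso K str N).inv := by
  apply (isPullback_pA N (Over.mk str)).hom_ext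
  · rw [Category.assoc, affIso_inv_pA, pA, orb, ← Over.comp_left_assoc, lift_fst, pt_left_fst]
    simp only [← Spec.map_comp]
    congr 1
    apply CommRingCat.hom_ext
    apply MonoidAlgebra.ringHom_ext
    · intro r
      simp [orbHom]
    · intro m
      simp [orbHom]
  · rw [Category.assoc, affIso_inv_snd, orb, ← Over.comp_left, lift_snd, ← Spec.map_comp]
    change Spec.map _ = _
    congr 1
    ext x
    simp [orbHom, qZ]

/-- The vertex is in the closure of the orbit. -/
theorem vertex_mem_closure (hk : ∀ z, orbHom N K p D uc i z = 0 → ptHom (vertexChar N K) z = 0) (s₀ : (Over.mk str).left) :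
    (lift (toUnit (Over.mk str) ≫ vertex N S) (𝟙 (Over.mk str))).left s₀ ∈
      closure (Set.range (orb N K p D uc i str).left) := by
  rw [toUnit_vertex, lift_pt_left, orb_left]
  refine mem_closure_range_SpecMap _ _ ?_ _ s₀
  exact hk

theorem orb_act {Y T : Over S} (aY : Magnet.MonAct (Magnet.AMonS S M) Y) (φ : (Magnet.attr aY N).obj (op T))
    (t₀ : Over.mk str ⟶ T) :
    orb N K p D uc i str ≫ (Magnet.AMonS S N ◁ t₀) ≫ φ.1 =
      CartesianMonoidalCategory.lift (pt D _ uc) (chg K str D i ≫ CartesianMonoidalCategory.lift (pt K str p) t₀ ≫ φ.1) ≫ aY.act := by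
  have hφ : Magnet.MonAct.IsEquivariant ((Magnet.subAct S M N).prod (Magnet.MonAct.trivial _ T)) aY φ.1 := φ.2
  have h := (Magnet.MonAct.mem_eqvHom_iff _).mp hφ _ (pt D _ uc)
    (pt D (Spec.map (CommRingCat.ofHom i) ≫ str) (i.toMonoidHom.comp p)) (chg K str D i ≫ t₀)
  change CartesianMonoidalCategory.lift (CartesianMonoidalCategory.lift _ _ ≫ ((Magnet.MonAct.regular _).restrict (Magnet.AMonS.map S N.subtype)).act) _ ≫ φ.1 = _ at h
  rw [Magnet.MonAct.lift_restrict_act, Magnet.MonAct.lift_regular_act, pt_map, ← pt_mul] at h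
  rw [orb, orbChar, lift_whiskerLeft_assoc, comp_lift_assoc, chg_pt]
  exact h

end Orbit

/-- A retraction witnessing that the vertex is in the closure of the orbit of `p`. -/
def orbRetr (K : Type u) [CommRing K] (p : Multiplicative N →* K) : MA.{u} M ⊗[Z0.{u}] K →ₗ[Z0.{u}] K :=
  haveI := Classical.decPred fun m : M => m ∈ N ∧ -m ∈ N
  LinearMap.mul' Z0.{u} K ∘ₗ TensorProduct.map
    (Finsupp.linearCombination Z0.{u} (fun m : Multiplicative M =>
        if hm : m.toAdd ∈ N ∧ -m.toAdd ∈ N then p (Multiplicative.ofAdd ⟨-m.toAdd, hm.2⟩) else 0) ∘ₗ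
      (MonoidAlgebra.coeffLinearEquiv Z0.{u}).toLinearMap) LinearMap.id

theorem orbRetr_single (K : Type u) [CommRing K] (p : Multiplicative N →* K) (n : N) (k : Z0.{u}) (c : K) :
    orbRetr N K p (MonoidAlgebra.single (Multiplicative.ofAdd (n : M)) k ⊗ₜ (p (Multiplicative.ofAdd n) * c)) =
      ptHom (vertexChar N K) (MonoidAlgebra.single (Multiplicative.ofAdd n) k ⊗ₜ c) := by
  by_cases hn : -(n : M) ∈ N
  · have h1 : p (Multiplicative.ofAdd ⟨-(n : M), hn⟩) * p (Multiplicative.ofAdd n) = 1 := by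
      rw [← map_mul, ← ofAdd_add]
      refine (congrArg p ?_).trans (map_one p)
      rw [← ofAdd_zero]
      congr 1
      ext
      simp
    simp [orbRetr, ptHom, vertexChar_apply_unit N K n hn, hn, Algebra.smul_def]
    linear_combination ((k.down : K) * c) * h1
  · simp [orbRetr, ptHom, vertexChar_apply_nonunit N K n hn, hn]

theorem orbRetr_spec (K : Type u) [CommRing K] (p : Multiplicative N →* K) (n : N) (k : Z0.{u}) (c : K) :
    (orbRetr N K p).toAddMonoidHom (algebraMap Z0.{u} (MA.{u} M ⊗[Z0.{u}] K) k *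
      ((Algebra.TensorProduct.includeLeftRingHom : MA.{u} M →+* MA.{u} M ⊗[Z0.{u}] K).toMonoidHom.comp (MonoidAlgebra.of _ _) (Multiplicative.ofAdd (n : M)) *
        (Algebra.TensorProduct.includeRight : K →ₐ[Z0.{u}] MA.{u} M ⊗[Z0.{u}] K).toRingHom (p (Multiplicative.ofAdd n) * c))) =
      ptHom (vertexChar N K) (MonoidAlgebra.single (Multiplicative.ofAdd n) k ⊗ₜ c) := by
  rw [← orbRetr_single N K p n k c]
  change orbRetr N K p _ = _
  refine congrArg (orbRetr N K p) ?_
  change (algebraMap Z0.{u} (MA.{u} M) k ⊗ₜ[Z0.{u}] (1 : K)) *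
    ((MonoidAlgebra.single (Multiplicative.ofAdd (n : M)) (1 : Z0.{u}) ⊗ₜ[Z0.{u}] (1 : K)) *
      ((1 : MA.{u} M) ⊗ₜ[Z0.{u}] (p (Multiplicative.ofAdd n) * c))) = _
  rw [Algebra.TensorProduct.tmul_mul_tmul, Algebra.TensorProduct.tmul_mul_tmul, _root_.mul_one, _root_.one_mul, _root_.one_mul,
    MonoidAlgebra.coe_algebraMap, Function.comp_apply, MonoidAlgebra.single_mul_single, _root_.one_mul, _root_.mul_one]
  rfl

/-- Points outside a stable open have their vertex outside. -/
theorem vertex_not_mem_range (K : Type u) [CommRing K] (str : Spec (CommRingCat.of K) ⟶ S) (p : Multiplicative N →* K)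
    (D : Type u) [CommRing D] (uc : Multiplicative M →* D) (i : K →+* D)
    (hk : ∀ z, orbHom N K p D uc i z = 0 → ptHom (vertexChar N K) z = 0)
    {X Y : Over S} (aX : Magnet.MonAct (Magnet.AMonS S M) X) (aY : Magnet.MonAct (Magnet.AMonS S M) Y) (f : X ⟶ Y)
    [IsOpenImmersion f.left] (hf : Magnet.MonAct.IsEquivariant aX aY f) {T : Over S}
    (φ : (Magnet.attr aY N).obj (op T)) (t₀ : Over.mk str ⟶ T)
    (hout : ∀ s, (CartesianMonoidalCategory.lift (pt K str p) t₀ ≫ φ.1).left s ∉ Set.range f.left) (s₀ : (Over.mk str).left) :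
    (CartesianMonoidalCategory.lift (toUnit T ≫ vertex N S) (𝟙 T) ≫ φ.1).left (t₀.left s₀) ∉ Set.range f.left := by
  have hall : ∀ w, (orb N K p D uc i str ≫ (Magnet.AMonS S N ◁ t₀) ≫ φ.1).left w ∉ Set.range f.left := by
    rw [orb_act]
    refine act_not_mem_range aX aY f hf _ (pt D _ (uc.comp (MonoidHom.mk' (fun m : Multiplicative M => Multiplicative.ofAdd (-m.toAdd))
      (fun a b => by rw [toAdd_mul, neg_add, ofAdd_add])))) ?_ _ fun w => ?_
    · rw [← pt_mul, ← pt_one]
      congr 1
      ext m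
      simp [← map_mul]
    rw [Over.comp_left, Scheme.Hom.comp_apply]
    exact hout _
  let Φ := ((Magnet.AMonS S N ◁ t₀) ≫ φ.1).left
  have hsub : closure (Set.range (orb N K p D uc i str).left) ⊆ Φ ⁻¹' (Set.range f.left)ᶜ :=
    closure_minimal (by rintro _ ⟨w, rfl⟩; exact hall w)
      (f.left.isOpenEmbedding.isOpen_range.isClosed_compl.preimage (Scheme.Hom.continuous _))
  have hv := hsub (vertex_mem_closure N K p D uc i str hk s₀)
  have e : t₀ ≫ CartesianMonoidalCategory.lift (toUnit T ≫ vertex N S) (𝟙 T) ≫ φ.1 =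
      CartesianMonoidalCategory.lift (toUnit (Over.mk str) ≫ vertex N S) (𝟙 (Over.mk str)) ≫ (Magnet.AMonS S N ◁ t₀) ≫ φ.1 := by
    simp [comp_lift_assoc, lift_whiskerLeft_assoc]
  rw [← Scheme.Hom.comp_apply, ← Over.comp_left, e, Over.comp_left, Scheme.Hom.comp_apply]
  exact hv

/-- If all vertices of an equivariant family land in a stable open, so does the whole family. -/
theorem range_subset_of_vertex {X Y : Over S} (aX : Magnet.MonAct (Magnet.AMonS S M) X)
    (aY : Magnet.MonAct (Magnet.AMonS S M) Y) (f : X ⟶ Y) [IsOpenImmersion f.left]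
    (hf : Magnet.MonAct.IsEquivariant aX aY f) {T : Over S} (φ : (Magnet.attr aY N).obj (op T))
    (hv : Set.range (CartesianMonoidalCategory.lift (toUnit T ≫ vertex N S) (𝟙 T) ≫ φ.1).left ⊆ Set.range f.left) :
    Set.range φ.1.left ⊆ Set.range f.left := by
  rintro _ ⟨x, rfl⟩
  by_contra hx
  obtain ⟨K, _, ι₀, s₀, hs₀⟩ : ∃ (K : Type u) (_ : CommRing K) (ι₀ : Spec (CommRingCat.of K) ⟶ (Magnet.AMonS S N ⊗ T).left)
      (s₀ : Spec (CommRingCat.of K)), ∀ s, ι₀ s = x :=
    ⟨(Magnet.AMonS S N ⊗ T).left.residueField x, inferInstance, (Magnet.AMonS S N ⊗ T).left.fromSpecResidueField x,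
      IsLocalRing.closedPoint _, fun s => Scheme.fromSpecResidueField_apply x s⟩
  let str : Spec (CommRingCat.of K) ⟶ S := ι₀ ≫ (Magnet.AMonS S N ⊗ T).hom
  let q₀ : Over.mk str ⟶ Magnet.AMonS S N ⊗ T := Over.homMk ι₀ rfl
  obtain ⟨p, hp⟩ := exists_eq_pt K str (q₀ ≫ fst (Magnet.AMonS S N) T)
  refine vertex_not_mem_range N K str p (MA.{u} M ⊗[Z0.{u}] K) _ _ (ker_orbHom_le N K p (MA.{u} M ⊗[Z0.{u}] K) _ _ (orbRetr N K p).toAddMonoidHom (orbRetr_spec N K p)) aX aY f hf φ
    (q₀ ≫ snd _ _) (fun s => ?_) s₀ (hv ⟨_, rfl⟩)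
  rw [← hp, lift_comp_fst_snd, Over.comp_left, Scheme.Hom.comp_apply]
  change φ.1.left (ι₀ s) ∉ _
  rw [hs₀]
  exact hx

end

end Groth.Agent.MagnetHom
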