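import Mathlib
import Groth.Prelude.Def_Magnet3
import Groth.Agent.MagnetHom.Points
import Groth.Agent.MagnetHom.Vertex
import Groth.Agent.MagnetHom.Coaction

/-! Identities between maps of diagonalizable monoid schemes, checked on points. -/

set_option autoImplicit false
set_option backward.isDefEq.respectTransparency false
set_option backward.isDefEq.respectTransparency.types false
universe u

open CategoryTheory CategoryTheory.Limits MonoidalCategory CartesianMonoidalCategory MonObj AlgebraicGeometry Opposite

namespace Groth.Agent.MagnetHom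

attribute [-instance] AlgebraicGeometry.instGrpObjSpecAsOverSpec AlgebraicGeometry.instCommGrpObjSpecAsOverSpec

variable {S : Scheme.{u}} {L L' : Type} [AddCommMonoid L] [AddCommMonoid L']

theorem hom_ext_pts {T : Over S} {X : Over S} {g h : T ⟶ X}
    (H : ∀ (C : Type u) [CommRing C] (str : Spec (CommRingCat.of C) ⟶ S) (t : Over.mk str ⟶ T), t ≫ g = t ≫ h) :
    g = h := by
  ext1
  refine Scheme.Cover.hom_ext T.left.affineOpenCover.openCover _ _ fun i => ?_
  exact congrArg CommaMorphism.left (H (T.left.affineOpenCover.X i) (T.left.affineOpenCover.f i ≫ T.hom)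
    (Over.homMk (T.left.affineOpenCover.f i)))

theorem pt_injective (C : Type u) [CommRing C] (str : Spec (CommRingCat.of C) ⟶ S) {p q : Multiplicative L →* C}
    (h : pt C str p = pt C str q) : p = q := by
  have e := pt_left_fst C str p
  rw [h, pt_left_fst] at e
  have e' := congrArg CommRingCat.Hom.hom (Spec.map_injective e)
  ext n
  have := RingHom.congr_fun e' (MonoidAlgebra.single n 1)
  simp at this
  exact this.symm

theorem AMonS_map_zero : Magnet.AMonS.map S (0 : L →+ L') = 1 := by
  refine hom_ext_pts fun C _ str t => ?_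
  obtain ⟨p, hp⟩ := exists_eq_pt C str t
  rw [hp, pt_map, MonObj.comp_one, ← pt_one]
  congr 1
  ext n
  simp

theorem AMonS_map_add (f g : L →+ L') :
    Magnet.AMonS.map S (f + g) = Magnet.AMonS.map S f * Magnet.AMonS.map S g := by
  refine hom_ext_pts fun C _ str t => ?_
  obtain ⟨p, hp⟩ := exists_eq_pt C str t
  rw [MonObj.comp_mul, hp, pt_map, pt_map, pt_map, ← pt_mul]
  congr 1
  ext n
  simp

theorem comp_map_comp {L'' : Type} [AddCommMonoid L''] {T : Over S} (x : T ⟶ Magnet.AMonS S L'') (f : L →+ L') (g : L' →+ L'')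
    {h : L →+ L''} (e : g.comp f = h) :
    (x ≫ Magnet.AMonS.map S g) ≫ Magnet.AMonS.map S f = x ≫ Magnet.AMonS.map S h := by
  rw [Category.assoc, ← Magnet.AMonS.map_comp, e]

theorem eq_of_map_surjective (f : L →+ L') (hf : Function.Surjective f) {T : Over S}
    {x y : T ⟶ Magnet.AMonS S L'} (h : x ≫ Magnet.AMonS.map S f = y ≫ Magnet.AMonS.map S f) : x = y := by
  refine hom_ext_pts fun C _ str t => ?_
  obtain ⟨p, hp⟩ := exists_eq_pt C str (t ≫ x)
  obtain ⟨q, hq⟩ := exists_eq_pt C str (t ≫ y)
  rw [hp, hq]
  have e := congrArg (t ≫ ·) h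
  simp only [← Category.assoc, hp, hq, pt_map] at e
  have e' := pt_injective C str e
  congr 1
  ext n
  obtain ⟨n, rfl⟩ := Multiplicative.ofAdd.surjective n
  obtain ⟨k, rfl⟩ := hf n
  exact DFunLike.congr_fun e' (Multiplicative.ofAdd k)

end Groth.Agent.MagnetHom
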