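import Mathlib
import Groth.Prelude.Def_Magnet4
import Groth.Agent.MagnetHom.Coaction
import Groth.Agent.FerrandPush.Cat

/-! The push-out of monoid schemes along a face, over an affine test scheme. -/

set_option autoImplicit false
set_option backward.isDefEq.respectTransparency false
set_option backward.isDefEq.respectTransparency.types false
set_option synthInstance.maxHeartbeats 400000
universe u

open CategoryTheory CategoryTheory.Limits MonoidalCategory CartesianMonoidalCategory MonObj AlgebraicGeometry Opposite

namespace Groth.Agent.MagnetHom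

noncomputable section

attribute [local instance 50] algZ
attribute [local instance 10000] Algebra.toModule

variable {S : Scheme.{u}} {M : Type} [AddCommMonoid M] (C : Type u) [CommRing C]
  (str : Spec (CommRingCat.of C) ⟶ S) {L' L : AddSubmonoid M}

theorem whiskerRight_faceMap_pA (hL : Magnet.IsFace L' L) (T : Over S) :
    (Magnet.AMonS.faceMap S hL ▷ T).left ≫ pA L' T =
      pA L T ≫ (Magnet.AMon.faceMap Z0.{u} hL).left := by
  rw [pA, pA, ← Category.assoc, ← Over.comp_left, whiskerRight_fst, Over.comp_left, Category.assoc, Category.assoc]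
  congr 1
  exact pullback.lift_fst _ _ _

/-- `C[L'] → C[L]`, the face projection. -/
abbrev faceGA (hL : Magnet.IsFace L' L) : GA C L' →+* GA C L := (Magnet.faceAlgHom C hL).toRingHom

theorem faceGA_single (hL : Magnet.IsFace L' L) (n : Multiplicative L') (r : C) [Decidable (((Multiplicative.toAdd n : L') : M) ∈ L)] :
    faceGA C hL (MonoidAlgebra.single n r) = if h : ((Multiplicative.toAdd n : L') : M) ∈ L then
      MonoidAlgebra.single (Multiplicative.ofAdd (⟨_, h⟩ : L)) r else 0 := by
  split_ifs with h
  · exact Magnet.faceAlgHom_single_of_mem C hL (Multiplicative.toAdd n) h r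
  · exact Magnet.faceAlgHom_single_of_not_mem C hL (Multiplicative.toAdd n) h r

@[reassoc]
theorem gaff_faceMap (hL : Magnet.IsFace L' L) :
    (gaff C str L).hom ≫ (Magnet.AMonS.faceMap S hL ▷ Over.mk str).left =
      Spec.map (CommRingCat.ofHom (faceGA C hL)) ≫ (gaff C str L').hom := by
  classical
  apply (isPullback_pA L' (Over.mk str)).hom_ext
  · rw [Category.assoc, whiskerRight_faceMap_pA, gaff_hom_pA_assoc, Category.assoc, gaff_hom_pA, Magnet.AMon.faceMap_left]
    simp only [← Spec.map_comp]
    congr 1
    apply CommRingCat.hom_ext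
    refine MonoidAlgebra.ringHom_ext (fun r => ?_) (fun n => ?_)
    · exact RingHom.congr_fun (ringHom_Z0_ext (((MonoidAlgebra.mapRingHom (Multiplicative L) (algebraMap Z0.{u} C)).comp
        (Magnet.faceAlgHom Z0.{u} hL).toRingHom).comp MonoidAlgebra.singleOneRingHom)
        (((faceGA C hL).comp (MonoidAlgebra.mapRingHom (Multiplicative L') (algebraMap Z0.{u} C))).comp MonoidAlgebra.singleOneRingHom)) r
    · change MonoidAlgebra.mapRingHom (Multiplicative L) (algebraMap Z0.{u} C) (faceGA Z0.{u} hL (MonoidAlgebra.single n 1)) =
        faceGA C hL (MonoidAlgebra.mapRingHom (Multiplicative L') (algebraMap Z0.{u} C) (MonoidAlgebra.single n 1))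
      rw [MonoidAlgebra.mapRingHom_single, faceGA_single, faceGA_single, map_one]
      split_ifs <;> simp
  · rw [Category.assoc, ← Over.comp_left, whiskerRight_snd, gaff_hom_snd, Category.assoc, gaff_hom_snd]
    simp only [← Spec.map_comp]
    congr 1
    apply CommRingCat.hom_ext
    refine RingHom.ext fun c => ?_
    change MonoidAlgebra.single 1 c = faceGA C hL (MonoidAlgebra.single 1 c)
    rw [faceGA_single, dif_pos (show (((Multiplicative.toAdd (1 : Multiplicative L')) : L') : M) ∈ L from L.zero_mem)]
    rfl

variable {N N' : AddSubmonoid M}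

theorem exists_cart (hNL : N ≤ L) (hN'L' : N' ≤ L') (hL : Magnet.IsFace L' L) (hN : Magnet.IsFace N' N)
    (hdiff : (N' : Set M) = (L' : Set M) \ ((L : Set M) \ (N : Set M))) :
    ∃ D : FerrandPush.Cart (GA C N') (GA C N) (GA C L') (GA C L), D.fst = faceGA C hN ∧
      D.snd = MonoidAlgebra.mapDomainRingHom C (AddMonoidHom.toMultiplicative (AddSubmonoid.inclusion hN'L')) ∧
      D.p = faceGA C hL ∧ D.q = MonoidAlgebra.mapDomainRingHom C (AddMonoidHom.toMultiplicative (AddSubmonoid.inclusion hNL)) := by
  classical
  let iN' : Multiplicative N' → Multiplicative L' := AddMonoidHom.toMultiplicative (AddSubmonoid.inclusion hN'L')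
  let iN : Multiplicative N → Multiplicative L := AddMonoidHom.toMultiplicative (AddSubmonoid.inclusion hNL)
  have hi' : Function.Injective iN' := fun _ _ e =>
    Multiplicative.toAdd.injective (AddSubmonoid.inclusion_injective hN'L' (congrArg Multiplicative.toAdd e))
  have hi : Function.Injective iN := fun _ _ e =>
    Multiplicative.toAdd.injective (AddSubmonoid.inclusion_injective hNL (congrArg Multiplicative.toAdd e))
  have hcoeff : ∀ (a : GA C L') (m : Multiplicative L),
      (faceGA C hL a).coeff m = a.coeff (Multiplicative.ofAdd (AddSubmonoid.inclusion hL.le (Multiplicative.toAdd m))) := by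
    intro a m
    induction a using MonoidAlgebra.induction_linear with
    | zero => simp
    | add p q hp hq => simp only [map_add, MonoidAlgebra.coeff_add, Finsupp.add_apply, hp, hq]
    | single n r =>
      rw [faceGA_single]
      split_ifs with h
      · simp only [MonoidAlgebra.coeff_single, Finsupp.single_apply]
        by_cases hm : ((Multiplicative.toAdd n : L') : M) = ((Multiplicative.toAdd m : L) : M)
        · rw [if_pos, if_pos]
          · exact Multiplicative.toAdd.injective (Subtype.ext hm)
          · exact Multiplicative.toAdd.injective (Subtype.ext hm)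
        · rw [if_neg, if_neg]
          · exact fun e => hm (congrArg (fun z => ((Multiplicative.toAdd z : L') : M)) e)
          · exact fun e => hm (congrArg (fun z => ((Multiplicative.toAdd z : L) : M)) e)
      · simp only [MonoidAlgebra.coeff_single, MonoidAlgebra.coeff_zero, Finsupp.zero_apply, Finsupp.single_apply]
        rw [if_neg]
        intro e
        exact h ((congrArg (fun z => ((Multiplicative.toAdd z : L') : M)) e) ▸ (Multiplicative.toAdd m).2)
  have hw : ∀ c : GA C N', MonoidAlgebra.mapDomainRingHom C (AddMonoidHom.toMultiplicative (AddSubmonoid.inclusion hNL))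
      (faceGA C hN c) = faceGA C hL (MonoidAlgebra.mapDomainRingHom C (AddMonoidHom.toMultiplicative (AddSubmonoid.inclusion hN'L')) c) := by
    intro c
    induction c using MonoidAlgebra.induction_linear with
    | zero => simp
    | add p q hp hq => simp only [map_add, hp, hq]
    | single n r =>
      simp only [MonoidAlgebra.mapDomainRingHom_apply, MonoidAlgebra.mapDomain_single, faceGA_single]
      have hn : ((Multiplicative.toAdd n : N') : M) ∈ (L' : Set M) \ ((L : Set M) \ (N : Set M)) := hdiff.le (Multiplicative.toAdd n).2
      split_ifs with h₁ h₂ h₂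
      · simp only [MonoidAlgebra.mapDomain_single]; rfl
      · exact absurd (hNL h₁) h₂
      · exact absurd (Classical.byContradiction fun hh => hn.2 ⟨h₂, hh⟩) h₁
      · simp
  refine ⟨⟨faceGA C hN, MonoidAlgebra.mapDomainRingHom C (AddMonoidHom.toMultiplicative (AddSubmonoid.inclusion hN'L')),
    faceGA C hL, MonoidAlgebra.mapDomainRingHom C (AddMonoidHom.toMultiplicative (AddSubmonoid.inclusion hNL)),
    ?_, hw, fun x y _ e => MonoidAlgebra.mapDomain_injective hi' e, ?_⟩, rfl, rfl, rfl, rfl⟩
  · exact fun b => ⟨MonoidAlgebra.mapDomainRingHom C (AddMonoidHom.toMultiplicative (AddSubmonoid.inclusion hL.le)) b, by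
      induction b using MonoidAlgebra.induction_linear with
      | zero => simp
      | add p q hp hq => simp only [map_add, hp, hq]
      | single n r =>
        simp only [MonoidAlgebra.mapDomainRingHom_apply, MonoidAlgebra.mapDomain_single, faceGA_single]
        rw [dif_pos (show ((Multiplicative.toAdd ((AddMonoidHom.toMultiplicative (AddSubmonoid.inclusion hL.le)) n) : L') : M) ∈ L from
          (Multiplicative.toAdd n).2)]
        rfl⟩
  · intro b a hab
    let c : GA C N' := MonoidAlgebra.ofCoeff (a.coeff.comapDomain iN' hi'.injOn)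
    have hc : MonoidAlgebra.mapDomainRingHom C (AddMonoidHom.toMultiplicative (AddSubmonoid.inclusion hN'L')) c = a := by
      refine MonoidAlgebra.coeff_inj.mp (Finsupp.mapDomain_comapDomain _ hi' _ ?_)
      intro m hm
      have hmN : ((Multiplicative.toAdd m : L') : M) ∈ N' := by
        refine hdiff.ge ⟨(Multiplicative.toAdd m).2, fun hh => ?_⟩
        refine Finsupp.mem_support_iff.mp hm ?_
        have e := congrArg (fun v => MonoidAlgebra.coeff v (Multiplicative.ofAdd (⟨_, hh.1⟩ : L))) hab
        rw [hcoeff] at e
        refine Eq.trans (congrArg a.coeff ?_) (e.symm.trans (Finsupp.mapDomain_of_notMem_range _ _ ?_))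
        · exact Multiplicative.toAdd.injective (Subtype.ext rfl)
        · rintro ⟨q, hq⟩
          exact hh.2 (congrArg (fun z => ((Multiplicative.toAdd z : L) : M)) hq ▸ (Multiplicative.toAdd q).2)
      exact ⟨Multiplicative.ofAdd ⟨_, hmN⟩, rfl⟩
    refine ⟨c, MonoidAlgebra.mapDomain_injective hi ?_, hc⟩
    exact (hw c).trans ((congrArg (faceGA C hL) hc).trans hab.symm)

end

end Groth.Agent.MagnetHom
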