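import Mathlib
import Groth.Prelude.Def_Magnet4
import Groth.Agent.MagnetHom.Coaction
import Groth.Agent.MagnetHom.CombPts
import Groth.Agent.MagnetHom.PushAff
import Groth.Agent.GordanLib.Basic

/-! Scaling by a height function contracts an attractor onto the attractor of a face. -/

set_option autoImplicit false
set_option backward.isDefEq.respectTransparency false
set_option backward.isDefEq.respectTransparency.types false
universe u

open CategoryTheory CategoryTheory.Limits MonoidalCategory CartesianMonoidalCategory MonObj AlgebraicGeometry Opposite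

namespace Groth.Agent.MagnetHom

noncomputable section

attribute [local instance 50] algZ
attribute [local instance 10000] Algebra.toModule
attribute [-instance] AlgebraicGeometry.instGrpObjSpecAsOverSpec AlgebraicGeometry.instCommGrpObjSpecAsOverSpec

variable {S : Scheme.{u}}

/-- The point of `A(L)_S` given by a multiplicative map to the functions of `T`. -/
def ptG {L : Type} [AddCommMonoid L] (T : Over S) (p : Multiplicative L →* Γ(T.left, ⊤)) : T ⟶ Magnet.AMonS S L :=
  Over.homMk (pullback.lift (T.left.toSpecΓ ≫ Spec.map (CommRingCat.ofHom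
      (MonoidAlgebra.lift Z0.{u} Γ(T.left, ⊤) (Multiplicative L) p).toRingHom)) T.hom
    (specULiftZIsTerminal.hom_ext _ _)) (pullback.lift_snd _ _ _)

theorem comp_ptG_pt {L : Type} [AddCommMonoid L] (T : Over S) (p : Multiplicative L →* Γ(T.left, ⊤)) (C : Type u)
    [CommRing C] (str : Spec (CommRingCat.of C) ⟶ S) (t : Over.mk str ⟶ T) :
    t ≫ ptG T p = pt C str
      (((t.left.appTop ≫ (Scheme.ΓSpecIso (CommRingCat.of C)).hom).hom : Γ(T.left, ⊤) →* C).comp p) := by
  ext1
  apply pullback.hom_ext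
  · rw [Over.comp_left, Category.assoc, pt_left_fst]
    rw [show (ptG T p).left ≫ pullback.fst _ _ = _ from pullback.lift_fst _ _ _]
    change t.left ≫ T.left.toSpecΓ ≫ _ = _
    rw [Scheme.toSpecΓ_naturality_assoc, ← Spec.map_comp]
    have h : (Spec (CommRingCat.of C)).toSpecΓ = Spec.map (Scheme.ΓSpecIso (CommRingCat.of C)).hom :=
      (SpecMap_ΓSpecIso_hom _).symm
    change (Spec (CommRingCat.of C)).toSpecΓ ≫ Spec.map _ = _
    rw [h, ← Spec.map_comp]
    congr 1
    apply CommRingCat.hom_ext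
    refine MonoidAlgebra.ringHom_ext (fun r => ?_) (fun n => ?_)
    · exact RingHom.congr_fun (ringHom_Z0_ext
        ((CommRingCat.Hom.hom ((CommRingCat.ofHom (MonoidAlgebra.lift Z0.{u} Γ(T.left, ⊤) (Multiplicative L) p).toRingHom ≫
          t.left.appTop) ≫ (Scheme.ΓSpecIso (CommRingCat.of C)).hom)).comp MonoidAlgebra.singleOneRingHom)
        (((MonoidAlgebra.lift Z0.{u} C (Multiplicative L)
          (((t.left.appTop ≫ (Scheme.ΓSpecIso (CommRingCat.of C)).hom).hom : Γ(T.left, ⊤) →* C).comp p)).toRingHom).comp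
            MonoidAlgebra.singleOneRingHom)) r
    · simp
  · exact (Over.w (t ≫ ptG T p)).trans (Over.w (pt C str _)).symm

theorem comp_ptG {L : Type} [AddCommMonoid L] {T T' : Over S} (t : T' ⟶ T) (p : Multiplicative L →* Γ(T.left, ⊤)) :
    t ≫ ptG T p = ptG T' ((t.left.appTop.hom : Γ(T.left, ⊤) →* Γ(T'.left, ⊤)).comp p) := by
  refine hom_ext_pts fun C _ str s => ?_
  rw [← Category.assoc, comp_ptG_pt, comp_ptG_pt]
  congr 1

theorem ptG_one {L : Type} [AddCommMonoid L] (T : Over S) : ptG T (1 : Multiplicative L →* Γ(T.left, ⊤)) = 1 := by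
  refine hom_ext_pts fun C _ str s => ?_
  rw [comp_ptG_pt, MonObj.comp_one, ← pt_one]
  congr 1
  ext n
  simp

variable {M : Type} [AddCommMonoid M] {L' L : AddSubmonoid M}

theorem pt_faceMap (hL : Magnet.IsFace L' L) (C : Type u) [CommRing C] (str : Spec (CommRingCat.of C) ⟶ S)
    (p : Multiplicative L →* C) (p' : Multiplicative L' →* C)
    (h₁ : ∀ n : L', ∀ h : (n : M) ∈ L, p' (Multiplicative.ofAdd n) = p (Multiplicative.ofAdd ⟨n, h⟩))
    (h₀ : ∀ n : L', (n : M) ∉ L → p' (Multiplicative.ofAdd n) = 0) :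
    pt C str p ≫ Magnet.AMonS.faceMap S hL = pt C str p' := by
  classical
  ext1
  apply pullback.hom_ext
  · rw [Over.comp_left, Category.assoc]
    have h : (Magnet.AMonS.faceMap S hL).left ≫ pullback.fst _ _ = pullback.fst _ _ ≫ (Magnet.AMon.faceMap Z0.{u} hL).left :=
      pullback.lift_fst _ _ _
    rw [h, pt_left_fst_assoc, pt_left_fst, Magnet.AMon.faceMap_left]
    change Spec.map _ ≫ Spec.map _ = Spec.map _
    rw [← Spec.map_comp]
    congr 1
    apply CommRingCat.hom_ext
    refine MonoidAlgebra.ringHom_ext (fun r => ?_) (fun n => ?_)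
    · exact RingHom.congr_fun (ringHom_Z0_ext
        ((((MonoidAlgebra.lift Z0.{u} C (Multiplicative L) p).toRingHom).comp (Magnet.faceAlgHom Z0.{u} hL).toRingHom).comp
          MonoidAlgebra.singleOneRingHom)
        ((MonoidAlgebra.lift Z0.{u} C (Multiplicative L') p').toRingHom.comp MonoidAlgebra.singleOneRingHom)) r
    · obtain ⟨n, rfl⟩ := Multiplicative.ofAdd.surjective n
      change MonoidAlgebra.lift Z0.{u} C (Multiplicative L) p (faceGA Z0.{u} hL (MonoidAlgebra.single (Multiplicative.ofAdd n) 1)) =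
        MonoidAlgebra.lift Z0.{u} C (Multiplicative L') p' (MonoidAlgebra.single (Multiplicative.ofAdd n) 1)
      rw [faceGA_single]
      split_ifs with h
      · rw [MonoidAlgebra.lift_single, MonoidAlgebra.lift_single, h₁ n h]
        rfl
      · rw [map_zero, MonoidAlgebra.lift_single, h₀ n h, smul_zero]
  · exact (Over.w (pt C str p ≫ Magnet.AMonS.faceMap S hL)).trans (Over.w (pt C str _)).symm

end

section Homotopy

attribute [-instance] AlgebraicGeometry.instGrpObjSpecAsOverSpec AlgebraicGeometry.instCommGrpObjSpecAsOverSpec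

variable {S : Scheme.{u}} {M : Type} [AddCommGroup M] {X : Over S} (a : Magnet.MonAct (Magnet.AMonS S M) X)
  {N F : AddSubmonoid M}

/-- Translation by a point of `A(N)`. -/
theorem isEquivariant_translate {T : Over S} (φ : (Magnet.attr a N).obj (op T)) (q : T ⟶ Magnet.AMonS S N) :
    Magnet.MonAct.IsEquivariant ((Magnet.subAct S M N).prod (Magnet.MonAct.trivial _ T)) a
      (lift ((snd (Magnet.AMonS S N) T ≫ q) * fst _ _) (snd _ _) ≫ φ.1) := by
  rw [Magnet.MonAct.mem_eqvHom_iff]
  intro T' g b t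
  have h := (Magnet.MonAct.mem_eqvHom_iff _).mp φ.2 T' g ((t ≫ q) * b) t
  change lift (lift g _ ≫ ((Magnet.MonAct.regular _).restrict (Magnet.AMonS.map S N.subtype)).act) t ≫ φ.1 = _ at h
  change lift (lift g b ≫ ((Magnet.MonAct.regular _).restrict (Magnet.AMonS.map S N.subtype)).act) t ≫ _ = _
  rw [Magnet.MonAct.lift_restrict_act, Magnet.MonAct.lift_regular_act] at h ⊢
  have hl : ∀ b' : T' ⟶ Magnet.AMonS S N, lift b' t ≫ lift ((snd (Magnet.AMonS S N) T ≫ q) * fst _ _) (snd _ _) =
      lift ((t ≫ q) * b') t := fun b' => by simp [comp_lift, MonObj.comp_mul]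
  rw [reassoc_of% hl, reassoc_of% hl]
  rw [← h]
  congr 2
  rw [← _root_.mul_assoc, ← _root_.mul_assoc, AMonS_mul_comm (t ≫ q)]

/-- The character `n ↦ c ^ d n`. -/
noncomputable def powChar (d : ↥N →+ ℕ) {R : Type u} [CommRing R] (c : R) : Multiplicative N →* R where
  toFun n := c ^ d (Multiplicative.toAdd n)
  map_one' := by simp
  map_mul' m n := by simp [pow_add]

/-- Scaling by the height function. -/
noncomputable def delta' (d : ↥N →+ ℕ) (T : Over S) (φ : (Magnet.attr a N).obj (op T)) (c : Γ(T.left, ⊤)) :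
    (Magnet.attr a N).obj (op T) :=
  ⟨lift ((snd (Magnet.AMonS S N) T ≫ ptG T (powChar d c)) * fst _ _) (snd _ _) ≫ φ.1,
    isEquivariant_translate a φ (ptG T (powChar d c))⟩

theorem exists_homotopy (hF : Magnet.IsFace N F) (d : ↥N →+ ℕ) (hd : ∀ n : ↥N, d n = 0 ↔ (n : M) ∈ F) :
    ∃ δ : ∀ T : Over S, (Magnet.attr a N).obj (op T) → Γ(T.left, ⊤) → (Magnet.attr a N).obj (op T),
      (∀ (T T' : Over S) (t : T' ⟶ T) (x : (Magnet.attr a N).obj (op T)) (c : Γ(T.left, ⊤)),
          δ T' ((Magnet.attr a N).map t.op x) (t.left.appTop c) = (Magnet.attr a N).map t.op (δ T x c)) ∧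
      (∀ (T : Over S) (x : (Magnet.attr a N).obj (op T)),
          δ T x 0 = (Magnet.attrMap a hF.le).app (op T) ((Magnet.attrFace a hF).app (op T) x)) ∧
      (∀ (T : Over S) (x : (Magnet.attr a N).obj (op T)), δ T x 1 = x) ∧
      (∀ (T : Over S) (y : (Magnet.attr a F).obj (op T)) (c : Γ(T.left, ⊤)),
          δ T ((Magnet.attrMap a hF.le).app (op T) y) c = (Magnet.attrMap a hF.le).app (op T) y) := by
  refine ⟨delta' a d, fun T T' t x c => Subtype.ext ?_, fun T x => Subtype.ext ?_, fun T x => Subtype.ext ?_,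
    fun T y c => Subtype.ext ?_⟩
  · change lift _ _ ≫ (Magnet.AMonS S N ◁ t) ≫ x.1 = (Magnet.AMonS S N ◁ t) ≫ lift _ _ ≫ x.1
    refine Magnet.hom_ext_lift₂ fun W b s => ?_
    have hq : t ≫ ptG T (powChar d c) = ptG T' (powChar d (t.left.appTop c)) := by
      rw [comp_ptG]
      congr 1
      ext n
      simp [powChar]
    simp only [← hq, comp_lift_assoc, MonObj.comp_mul, lift_fst, lift_snd, lift_snd_assoc, lift_whiskerLeft_assoc,
      Category.assoc]
  · change lift _ _ ≫ x.1 = (Magnet.AMonS.map S _ ▷ T) ≫ (Magnet.AMonS.faceMap S hF ▷ T) ≫ x.1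
    rw [← comp_whiskerRight_assoc]
    congr 1
    refine Magnet.hom_ext_lift₂ fun W b s => ?_
    rw [lift_whiskerRight, comp_lift, MonObj.comp_mul, lift_snd_assoc, lift_fst, lift_snd]
    congr 1
    refine hom_ext_pts fun C _ str r => ?_
    obtain ⟨p, hp⟩ := exists_eq_pt C str (r ≫ b)
    rw [MonObj.comp_mul, ← Category.assoc r s, comp_ptG_pt, hp, ← pt_mul, ← Category.assoc r b, hp, ← Category.assoc,
      pt_map]
    refine (pt_faceMap hF C str _ _ (fun n h => ?_) (fun n h => ?_)).symm
    · simp [powChar, (hd n).mpr h]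
      rfl
    · have : d n ≠ 0 := fun h' => h ((hd n).mp h')
      simp [powChar, zero_pow this]
  · change lift _ _ ≫ x.1 = x.1
    rw [show powChar d (1 : Γ(T.left, ⊤)) = 1 from by ext n; simp [powChar], ptG_one, MonObj.comp_one, _root_.one_mul,
      lift_fst_snd, Category.id_comp]
  · change lift _ _ ≫ (Magnet.AMonS.map S _ ▷ T) ≫ y.1 = (Magnet.AMonS.map S _ ▷ T) ≫ y.1
    rw [← Category.assoc]
    congr 1
    refine Magnet.hom_ext_lift₂ fun W b s => ?_
    rw [comp_lift_assoc, MonObj.comp_mul, lift_snd_assoc, lift_fst, lift_snd, lift_whiskerRight, lift_whiskerRight,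
      MonObj.mul_comp, Category.assoc]
    congr 1
    have h1 : ptG T (powChar d c) ≫ Magnet.AMonS.map S (AddSubmonoid.inclusion hF.le) = 1 := by
      refine hom_ext_pts fun C _ str r => ?_
      rw [← Category.assoc, comp_ptG_pt, pt_map, MonObj.comp_one, ← pt_one]
      congr 1
      ext n
      simp [powChar]
      rw [(hd _).mpr (by exact (Multiplicative.toAdd (Multiplicative.ofAdd n)).2), pow_zero]
    rw [h1, MonObj.comp_one, _root_.one_mul]

end Homotopy

end Groth.Agent.MagnetHom
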