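import Mathlib
import Groth.Prelude.Def_Magnet2
import Groth.Agent.MagnetHom.Aff

set_option autoImplicit false
set_option backward.isDefEq.respectTransparency false
set_option backward.isDefEq.respectTransparency.types false
universe u

open CategoryTheory MonoidalCategory CartesianMonoidalCategory MonObj AlgebraicGeometry Opposite

namespace Groth.Agent.MagnetHom

variable {S : Scheme.{u}} {M : Type} [AddCommMonoid M] {X : Over S}

/-- On `A(M)_T` an element of the attractor is determined by its value at the unit. -/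
theorem whiskerRight_subtype_comp (a : Magnet.MonAct (Magnet.AMonS S M) X) (N : AddSubmonoid M) {T : Over S}
    (φ : (Magnet.attr a N).obj (op T)) :
    (Magnet.AMonS.map S N.subtype ▷ T) ≫ φ.1 =
      (Magnet.AMonS S M ◁ ((Magnet.attrToX a N).app (op T) φ)) ≫ a.act := by
  let A := Magnet.AMonS S M
  have h := (Magnet.MonAct.mem_eqvHom_iff _).mp φ.2 (A ⊗ T) (fst A T) (toUnit _ ≫ η) (snd A T)
  change lift (lift _ _ ≫ ((Magnet.MonAct.regular _).restrict (Magnet.AMonS.map S N.subtype)).act) _ ≫ φ.1 = _ at h
  rw [Magnet.MonAct.lift_restrict_act, Magnet.MonAct.lift_regular_act, ← Hom.one_def] at h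
  simp only [_root_.mul_one] at h
  refine Eq.trans ?_ (h.trans ?_)
  · congr 1
  · rw [Hom.one_def, Magnet.MonAct.eqvHom.evalAt_app]
    change _ = (A ◁ _) ≫ _
    congr 1
    ext <;> simp [A, comp_lift_assoc]

theorem attrToX_injective [IsSeparated X.hom] (a : Magnet.MonAct (Magnet.AMonS S M) X) (N : AddSubmonoid M) (T : Over S) :
    Function.Injective (fun φ => (Magnet.attrToX a N).app (op T) φ) := by
  intro φ ψ e
  refine Subtype.ext (ext_of_map N.subtype N.subtype_injective ?_)
  dsimp only [] at e
  rw [whiskerRight_subtype_comp, whiskerRight_subtype_comp, e]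

theorem attrToX_attrMap (a : Magnet.MonAct (Magnet.AMonS S M) X) {N L : AddSubmonoid M} (h : N ≤ L) (T : Over S)
    (φ : (Magnet.attr a N).obj (op T)) :
    (Magnet.attrToX a L).app (op T) ((Magnet.attrMap a h).app (op T) φ) = (Magnet.attrToX a N).app (op T) φ := by
  rw [Magnet.MonAct.eqvHom.evalAt_app, Magnet.MonAct.eqvHom.evalAt_app, Magnet.attrMap, Magnet.MonAct.eqvHom.precomp_app_coe,
    lift_whiskerRight_assoc, Category.assoc, IsMonHom.one_hom]

end Groth.Agent.MagnetHom
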