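import Mathlib
import Groth.Prelude.Def_Magnet3
import Groth.Agent.MagnetHom.Aff
import Groth.Agent.MagnetHom.Eval
import Groth.Agent.MagnetHom.Coaction
import Groth.Agent.S18294

/-! Attractors of schemes affine over the base: the condition on a point, chart by chart. -/

set_option autoImplicit false
set_option backward.isDefEq.respectTransparency false
set_option backward.isDefEq.respectTransparency.types false
set_option synthInstance.maxHeartbeats 400000
set_option maxHeartbeats 1000000
universe u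

open CategoryTheory CategoryTheory.Limits MonoidalCategory CartesianMonoidalCategory MonObj AlgebraicGeometry Opposite

namespace Groth.Agent.MagnetHom

noncomputable section

variable {S : Scheme.{u}} {M : Type} [AddCommMonoid M] {X : Over S}

/-- The orbit map of `x` extends to `A(N)`. -/
def HasOrbit (a : Magnet.MonAct (Magnet.AMonS S M) X) (N : AddSubmonoid M) {T : Over S} (x : T ⟶ X) : Prop :=
  ∃ m : Magnet.AMonS S N ⊗ T ⟶ X, (Magnet.AMonS.map S N.subtype ▷ T) ≫ m = (Magnet.AMonS S M ◁ x) ≫ a.act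

variable {a : Magnet.MonAct (Magnet.AMonS S M) X} {N : AddSubmonoid M}

theorem HasOrbit.comp {T T' : Over S} {x : T ⟶ X} (h : HasOrbit a N x) (t : T' ⟶ T) : HasOrbit a N (t ≫ x) := by
  obtain ⟨m, hm⟩ := h
  exact ⟨(Magnet.AMonS S N ◁ t) ≫ m, by rw [← whisker_exchange_assoc, hm, MonoidalCategory.whiskerLeft_comp_assoc]⟩

theorem hasOrbit_attrToX (a : Magnet.MonAct (Magnet.AMonS S M) X) (N : AddSubmonoid M) {T : Over S}
    (φ : (Magnet.attr a N).obj (op T)) : HasOrbit a N ((Magnet.attrToX a N).app (op T) φ) :=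
  ⟨φ.1, whiskerRight_subtype_comp a N φ⟩

theorem attrToX_map (a : Magnet.MonAct (Magnet.AMonS S M) X) (N : AddSubmonoid M) {T T' : Over S} (t : T' ⟶ T)
    (φ : (Magnet.attr a N).obj (op T)) :
    (Magnet.attrToX a N).app (op T') ((Magnet.attr a N).map t.op φ) = t ≫ (Magnet.attrToX a N).app (op T) φ :=
  NatTrans.naturality_apply _ _ _

theorem HasOrbit.exists_attr [IsSeparated X.hom] {T : Over S} {x : T ⟶ X} (h : HasOrbit a N x) :
    ∃ φ : (Magnet.attr a N).obj (op T), (Magnet.attrToX a N).app (op T) φ = x := by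
  obtain ⟨m, hm⟩ := h
  let A := Magnet.AMonS S M
  let B := Magnet.AMonS S N
  let iN : A ⟶ B := Magnet.AMonS.map S N.subtype
  have hp : ∀ {T' : Over S} (g : T' ⟶ A) (t : T' ⟶ T), lift (g ≫ iN) t ≫ m = lift g (t ≫ x) ≫ a.act := fun g t => by
    rw [← lift_whiskerRight_assoc, hm, lift_whiskerLeft_assoc]
  let P := A ⊗ T
  let F : B ⊗ P ⟶ X := lift ((snd B P ≫ fst A T ≫ iN) * fst B P) (snd B P ≫ snd A T) ≫ m
  let G : B ⊗ P ⟶ X := lift (snd B P ≫ fst A T) (lift (fst B P) (snd B P ≫ snd A T) ≫ m) ≫ a.act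
  have eF : ∀ {T' : Over S} (b : T' ⟶ B) (g : T' ⟶ A) (t : T' ⟶ T),
      lift b (lift g t : T' ⟶ P) ≫ F = lift ((g ≫ iN) * b) t ≫ m := fun b g t => by
    simp [F, P, comp_lift_assoc, MonObj.comp_mul]
  have eG : ∀ {T' : Over S} (b : T' ⟶ B) (g : T' ⟶ A) (t : T' ⟶ T),
      lift b (lift g t : T' ⟶ P) ≫ G = lift g (lift b t ≫ m) ≫ a.act := fun b g t => by
    simp [G, P, comp_lift, comp_lift_assoc]
  have hFG : F = G := by
    refine ext_of_map N.subtype N.subtype_injective (Magnet.hom_ext_lift₂ fun T' h z => ?_)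
    rw [← lift_comp_fst_snd z]
    generalize z ≫ fst A T = g
    generalize z ≫ snd A T = t
    rw [lift_whiskerRight_assoc, lift_whiskerRight_assoc, eF, eG]
    change lift ((g ≫ iN) * (h ≫ iN)) t ≫ m = lift g (lift (h ≫ iN) t ≫ m) ≫ a.act
    rw [← MonObj.mul_comp, hp, hp, Magnet.MonAct.lift_mul_act]
  have hmem : Magnet.MonAct.IsEquivariant ((Magnet.subAct S M N).prod (Magnet.MonAct.trivial A T)) a m := by
    rw [Magnet.MonAct.mem_eqvHom_iff]
    intro T' g b t
    have e := congrArg (fun k => lift b (lift g t) ≫ k) hFG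
    simp only [eF, eG] at e
    rw [Magnet.subAct, Magnet.MonAct.lift_restrict_act, Magnet.MonAct.lift_regular_act]
    exact e
  refine ⟨⟨m, hmem⟩, ?_⟩
  rw [Magnet.MonAct.eqvHom.evalAt_app]
  change lift (toUnit T ≫ η[B]) (𝟙 T) ≫ m = x
  rw [← IsMonHom.one_hom iN, ← Category.assoc, hp, ← Hom.one_def, Category.id_comp, Magnet.MonAct.lift_one_act]

theorem hasOrbit_iff [IsSeparated X.hom] {T : Over S} (x : T ⟶ X) :
    HasOrbit a N x ↔ x ∈ Set.range (fun φ => (Magnet.attrToX a N).app (op T) φ) := by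
  constructor
  · exact fun h => h.exists_attr
  · rintro ⟨φ, rfl⟩
    exact hasOrbit_attrToX a N φ

theorem isSheaf_attr (a : Magnet.MonAct (Magnet.AMonS S M) X) (N : AddSubmonoid M) :
    Presheaf.IsSheaf (Scheme.zariskiTopology.over S) (Magnet.attr a N) := by
  have hfppf := Groth.Agent.S18294.result S (Magnet.AMonS S M) _ X (Magnet.subAct S M N) a
  rw [isSheaf_iff_isSheaf_of_type] at hfppf ⊢
  refine Presieve.isSheaf_of_le _ ?_ hfppf
  intro T R hR
  change R ∈ Scheme.fppfTopology.over _ T
  rw [GrothendieckTopology.mem_over_iff] at hR ⊢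
  exact Precoverage.toGrothendieck_mono Scheme.zariskiPrecoverage_le_fppfPrecoverage _ hR

theorem HasOrbit.of_cover [IsSeparated X.hom] {T : Over S} {x : T ⟶ X} (𝒰 : T.left.OpenCover)
    (h : ∀ i, HasOrbit a N ((Over.homMk (𝒰.f i) : Over.mk (𝒰.f i ≫ T.hom) ⟶ T) ≫ x)) : HasOrbit a N x := by
  have hF : Presieve.IsSheaf (Scheme.zariskiTopology.over S) (Magnet.attr a N) :=
    (isSheaf_iff_isSheaf_of_type _ _).mp (isSheaf_attr a N)
  have hX : Presieve.IsSheaf (Scheme.zariskiTopology.over S) (yoneda.obj X) :=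
    GrothendieckTopology.Subcanonical.isSheaf_of_isRepresentable _
  let R : Sieve T :=
    { arrows := fun T' t => HasOrbit a N (t ≫ x)
      downward_closed := fun {Y Z f} hf g => by rw [Category.assoc]; exact hf.comp g }
  have hR : R ∈ Scheme.zariskiTopology.over S T := by
    rw [GrothendieckTopology.mem_over_iff]
    refine GrothendieckTopology.superset_covering _ ?_ 𝒰.mem_grothendieckTopology
    rw [Sieve.generate_le_iff]
    rintro _ _ ⟨i⟩
    exact (Sieve.overEquiv_iff R (𝒰.f i)).mpr (h i)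
  choose φ hφ using fun (T' : Over S) (t : T' ⟶ T) (ht : R t) => HasOrbit.exists_attr (a := a) (N := N) ht
  have hc : Presieve.FamilyOfElements.Compatible
      (fun T' t ht => φ T' t ht : Presieve.FamilyOfElements (Magnet.attr a N) R.arrows) := by
    intro T₁ T₂ W g₁ g₂ f₁ f₂ h₁ h₂ e
    apply attrToX_injective a N W
    change (Magnet.attrToX a N).app (op W) _ = (Magnet.attrToX a N).app (op W) _
    rw [attrToX_map, attrToX_map, hφ, hφ, ← Category.assoc, e, Category.assoc]
  obtain ⟨ψ, hψ, -⟩ := hF R hR _ hc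
  have : (Magnet.attrToX a N).app (op T) ψ = x := by
    refine (hX R hR).isSeparatedFor.ext fun T' t ht => ?_
    refine Eq.trans ?_ (hφ T' t ht).symm.symm
    exact (attrToX_map a N t ψ).symm.trans (congrArg _ (hψ t ht))
  exact this ▸ hasOrbit_attrToX a N ψ

/-- An affine chart of `X` over an affine open of `S`. -/
structure Chart (X : Over S) where
  U : S.Opens
  hU : IsAffineOpen U
  B : Type u
  [ring : CommRing B]
  emb : Spec (CommRingCat.of B) ⟶ X.left
  [open_emb : IsOpenImmersion emb]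
  range_emb : emb.opensRange = X.hom ⁻¹ᵁ U

namespace Chart

attribute [instance] Chart.ring Chart.open_emb

/-- The chart attached to an affine open of the base. -/
def mk' [IsAffineHom X.hom] (U : S.Opens) (hU : IsAffineOpen U) : Chart X where
  U := U
  hU := hU
  B := Γ(X.left, X.hom ⁻¹ᵁ U)
  emb := (hU.preimage X.hom).fromSpec
  range_emb := (hU.preimage X.hom).opensRange_fromSpec

variable (ch : Chart X)

/-- The chart as an object over `S`. -/
abbrev W : Over S := Over.mk (ch.emb ≫ X.hom)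

/-- The inclusion of the chart. -/
abbrev inc : ch.W ⟶ X := Over.homMk ch.emb rfl

instance : Mono ch.inc := Over.mono_of_mono_left ch.inc

theorem mem_U (p : Spec (CommRingCat.of ch.B)) : X.hom (ch.emb p) ∈ ch.U :=
  ch.range_emb.le ⟨p, rfl⟩

theorem exists_lift {T : Over S} (x : T ⟶ X) (h : ∀ p, T.hom p ∈ ch.U) : ∃ x' : T ⟶ ch.W, x' ≫ ch.inc = x := by
  have hr : Set.range x.left ⊆ Set.range ch.emb := by
    rintro _ ⟨p, rfl⟩
    refine ch.range_emb.ge ?_
    change X.hom (x.left p) ∈ ch.U
    rw [← Scheme.Hom.comp_apply, Over.w x]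
    exact h p
  exact ⟨Over.homMk (IsOpenImmersion.lift ch.emb x.left hr) (by
    change _ ≫ ch.emb ≫ X.hom = T.hom
    rw [IsOpenImmersion.lift_fac_assoc, Over.w x]), Over.OverMorphism.ext (IsOpenImmersion.lift_fac _ _ _)⟩

variable (a : Magnet.MonAct (Magnet.AMonS S M) X)

theorem range_act_le {T : Over S} (x : T ⟶ ch.W) (N : Type) [AddCommMonoid N] (m : Magnet.AMonS S N ⊗ T ⟶ X) :
    Set.range m.left ⊆ Set.range ch.emb := by
  rintro _ ⟨p, rfl⟩
  refine ch.range_emb.ge ?_
  change X.hom (m.left p) ∈ ch.U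
  rw [← Scheme.Hom.comp_apply, Over.w m, ← Over.w (snd (Magnet.AMonS S N) T), Scheme.Hom.comp_apply, ← Over.w x,
    Scheme.Hom.comp_apply]
  exact ch.mem_U _

theorem exists_coact : ∃ c : ch.B →+* GA ch.B M,
    (gaff ch.B (ch.emb ≫ X.hom) M).hom ≫ ((Magnet.AMonS S M ◁ ch.inc) ≫ a.act).left =
      Spec.map (CommRingCat.ofHom c) ≫ ch.emb := by
  let g := (gaff ch.B (ch.emb ≫ X.hom) M).hom ≫ ((Magnet.AMonS S M ◁ ch.inc) ≫ a.act).left
  have hr : Set.range g ⊆ Set.range ch.emb := by
    rintro _ ⟨p, rfl⟩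
    rw [Scheme.Hom.comp_apply]
    exact range_act_le ch (𝟙 ch.W) M _ ⟨_, rfl⟩
  refine ⟨(Spec.preimage (IsOpenImmersion.lift ch.emb g hr)).hom, ?_⟩
  rw [CommRingCat.ofHom_hom, Spec.map_preimage, IsOpenImmersion.lift_fac]

/-- The coaction on a chart. -/
def coact : ch.B →+* GA ch.B M := (ch.exists_coact a).choose

theorem coact_spec : (gaff ch.B (ch.emb ≫ X.hom) M).hom ≫ ((Magnet.AMonS S M ◁ ch.inc) ≫ a.act).left =
    Spec.map (CommRingCat.ofHom (ch.coact a)) ≫ ch.emb := (ch.exists_coact a).choose_spec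

variable {C : Type u} [CommRing C] {str : Spec (CommRingCat.of C) ⟶ S}

/-- The ring map of a point of the chart. -/
def ringOf (x : Over.mk str ⟶ ch.W) : ch.B →+* C := (Spec.preimage (x.left : Spec (CommRingCat.of C) ⟶ Spec (CommRingCat.of ch.B))).hom

theorem left_eq (x : Over.mk str ⟶ ch.W) : x.left = Spec.map (CommRingCat.ofHom (ch.ringOf x)) := by
  simp [ringOf]

/-- The coefficients of the orbit map of a point. -/
def omega (x : Over.mk str ⟶ ch.W) : ch.B →+* GA C M :=
  (MonoidAlgebra.mapRingHom (Multiplicative M) (ch.ringOf x)).comp (ch.coact a)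

theorem omega_spec (x : Over.mk str ⟶ ch.W) :
    (gaff C str M).hom ≫ ((Magnet.AMonS S M ◁ (x ≫ ch.inc)) ≫ a.act).left =
      Spec.map (CommRingCat.ofHom (ch.omega a x)) ≫ ch.emb := by
  rw [MonoidalCategory.whiskerLeft_comp, Category.assoc, Over.comp_left,
    gaff_whiskerLeft_assoc x (ch.ringOf x) (ch.left_eq x), coact_spec, omega, ← Category.assoc, ← Spec.map_comp]
  rfl

/-- The orbit map at a point of `A(M)`. -/
theorem lift_pt_act (x : Over.mk str ⟶ ch.W) (p : Multiplicative M →* C) :
    (lift (pt C str p) (x ≫ ch.inc) ≫ a.act).left =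
      Spec.map (CommRingCat.ofHom ((MonoidAlgebra.liftNCRingHom (RingHom.id C) p (fun _ _ => Commute.all _ _) : GA C M →+* C).comp
        (ch.omega a x))) ≫ ch.emb := by
  rw [show lift (pt C str p) (x ≫ ch.inc) ≫ a.act =
      lift (pt C str p) (𝟙 _) ≫ (Magnet.AMonS S M ◁ (x ≫ ch.inc)) ≫ a.act from by simp, Over.comp_left,
    lift_pt_left', Category.assoc, omega_spec, ← Category.assoc, ← Spec.map_comp]
  rfl

/-- The orbit map of a point extends to `A(N)` iff its coefficients vanish outside `N`. -/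
theorem hasOrbit_iff (N : AddSubmonoid M) (x : Over.mk str ⟶ ch.W) :
    HasOrbit a N (x ≫ ch.inc) ↔
      ∀ b m, (ch.omega a x b).coeff m ≠ 0 → Multiplicative.toAdd m ∈ N := by
  let f : GA C N →+* GA C M := MonoidAlgebra.mapDomainRingHom C (AddMonoidHom.toMultiplicative N.subtype)
  have hf : Function.Injective f := MonoidAlgebra.mapDomain_injective fun u v e =>
    Multiplicative.toAdd.injective (N.subtype_injective (congrArg Multiplicative.toAdd e))
  constructor
  · rintro ⟨m, hm⟩ b k hk
    let g := (gaff C str N).hom ≫ m.left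
    have hr : Set.range g ⊆ Set.range ch.emb := by
      rintro _ ⟨p, rfl⟩
      rw [Scheme.Hom.comp_apply]
      exact range_act_le ch x N m ⟨_, rfl⟩
    let ω' := (Spec.preimage (IsOpenImmersion.lift ch.emb g hr)).hom
    have h' : ch.omega a x = f.comp ω' := by
      have e : Spec.map (CommRingCat.ofHom (f.comp ω')) ≫ ch.emb = Spec.map (CommRingCat.ofHom (ch.omega a x)) ≫ ch.emb := by
        rw [← omega_spec, ← hm, Over.comp_left, gaff_whiskerRight_assoc, CommRingCat.ofHom_comp, Spec.map_comp,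
          Category.assoc, CommRingCat.ofHom_hom, Spec.map_preimage, IsOpenImmersion.lift_fac]
      exact (congrArg CommRingCat.Hom.hom (Spec.map_injective ((cancel_mono ch.emb).mp e))).symm
    by_contra hN
    apply hk
    rw [h']
    refine Finsupp.mapDomain_notin_range _ _ ?_
    rintro ⟨n, rfl⟩
    exact hN (Multiplicative.toAdd n).2
  · intro h
    have hmem : ∀ b, ch.omega a x b ∈ f.range := by
      intro b
      refine ⟨MonoidAlgebra.ofCoeff ((ch.omega a x b).coeff.comapDomain (AddMonoidHom.toMultiplicative N.subtype)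
        (fun u _ v _ e => Multiplicative.toAdd.injective (N.subtype_injective (congrArg Multiplicative.toAdd e)))), ?_⟩
      refine MonoidAlgebra.coeff_inj.mp (Finsupp.mapDomain_comapDomain _
        (fun u v e => Multiplicative.toAdd.injective (N.subtype_injective (congrArg Multiplicative.toAdd e))) _ ?_)
      intro k hk
      exact ⟨Multiplicative.ofAdd ⟨_, h b k (Finsupp.mem_support_iff.mp hk)⟩, rfl⟩
    let ω' : ch.B →+* GA C N :=
      (RingEquiv.ofBijective f.rangeRestrict ⟨fun u v e => hf (congrArg Subtype.val e), f.rangeRestrict_surjective⟩).symm.toRingHom.comp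
        ((ch.omega a x).codRestrict f.range hmem)
    have hω' : f.comp ω' = ch.omega a x := RingHom.ext fun b => congrArg Subtype.val
      ((RingEquiv.ofBijective f.rangeRestrict ⟨fun u v e => hf (congrArg Subtype.val e), f.rangeRestrict_surjective⟩).apply_symm_apply
        ((ch.omega a x).codRestrict f.range hmem b))
    let wU : Spec (CommRingCat.of ch.B) ⟶ ch.U.toScheme :=
      IsOpenImmersion.lift ch.U.ι (ch.emb ≫ X.hom) (by
        rintro _ ⟨p, rfl⟩
        rw [Scheme.Opens.range_ι]
        exact ch.mem_U p)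
    have hwU : wU ≫ ch.U.ι = ch.emb ≫ X.hom := IsOpenImmersion.lift_fac _ _ _
    have hstr : str = Spec.map (CommRingCat.ofHom (ch.ringOf x)) ≫ wU ≫ ch.U.ι := by
      rw [hwU, ← ch.left_eq]
      exact (Over.w x).symm
    have hU' : IsAffine ch.U.toScheme := ch.hU
    have e1 : Spec.map (CommRingCat.ofHom ω') ≫ wU =
        Spec.map (CommRingCat.ofHom (MonoidAlgebra.singleOneRingHom : C →+* GA C N)) ≫
          Spec.map (CommRingCat.ofHom (ch.ringOf x)) ≫ wU := by
      refine Spec_ext_of_injective (CommRingCat.ofHom (R := GA C N) (S := GA C M) f) hf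
        (specULiftZIsTerminal.from ch.U.toScheme) (specULiftZIsTerminal.hom_ext _ _) ?_
      rw [← cancel_mono ch.U.ι]
      simp only [Category.assoc, hwU]
      rw [← Category.assoc, ← Spec.map_comp, ← CommRingCat.ofHom_comp, hω', ← Category.assoc, ← omega_spec]
      simp only [Category.assoc, Over.w]
      change (gaff C str M).hom ≫ (Magnet.AMonS S M ⊗ Over.mk str).hom = _
      rw [← Over.w (snd (Magnet.AMonS S M) (Over.mk str)), gaff_hom_snd_assoc]
      change _ ≫ str = _
      refine (congrArg (Spec.map _ ≫ ·) (hstr.trans (by rw [hwU]))).trans ?_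
      simp only [← Spec.map_comp_assoc]
      congr 2
      apply CommRingCat.hom_ext
      ext b
      simp [f]
    let m : Magnet.AMonS S N ⊗ Over.mk str ⟶ X :=
      Over.homMk ((gaff C str N).inv ≫ Spec.map (CommRingCat.ofHom ω') ≫ ch.emb) (by
        have e2 := congrArg (· ≫ ch.U.ι) e1
        simp only [Category.assoc, hwU] at e2
        rw [hwU] at hstr
        rw [← hstr] at e2
        simp only [Category.assoc]
        rw [e2, ← gaff_hom_snd_assoc, Iso.inv_hom_id_assoc]
        exact Over.w (snd (Magnet.AMonS S N) (Over.mk str)))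
    refine ⟨m, Over.OverMorphism.ext ?_⟩
    rw [← cancel_epi (gaff C str M).hom, omega_spec, Over.comp_left, gaff_whiskerRight_assoc]
    change Spec.map _ ≫ (gaff C str N).hom ≫ (gaff C str N).inv ≫ _ = _
    rw [Iso.hom_inv_id_assoc, ← Category.assoc, ← Spec.map_comp, ← hω']
    rfl

end Chart

end

end Groth.Agent.MagnetHom
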