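import Mathlib
import Groth.Prelude.Def_Magnet3
import Groth.Agent.MagnetHom.AttrChart
import Groth.Agent.OverRep.Main

/-! Representability of attractors and the two-step orbit identity. -/

set_option autoImplicit false
set_option backward.isDefEq.respectTransparency false
set_option backward.isDefEq.respectTransparency.types false
set_option synthInstance.maxHeartbeats 400000
set_option maxHeartbeats 1000000
universe u

open CategoryTheory CategoryTheory.Limits MonoidalCategory CartesianMonoidalCategory MonObj AlgebraicGeometry Opposite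

namespace Groth.Agent.MagnetHom

noncomputable section

variable {S : Scheme.{u}} {M : Type} [AddCommMonoid M] {X : Over S}

namespace Chart

variable (ch : Chart X) (a : Magnet.MonAct (Magnet.AMonS S M) X)
variable {C : Type u} [CommRing C] {str : Spec (CommRingCat.of C) ⟶ S}

theorem omega_restrict {Z : Type} [AddCommMonoid Z] (f : M →+ Z) (x : Over.mk str ⟶ ch.W) :
    ch.omega (a.restrict (Magnet.AMonS.map S f)) x =
      (MonoidAlgebra.mapDomainRingHom C (AddMonoidHom.toMultiplicative f)).comp (ch.omega a x) := by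
  refine congrArg CommRingCat.Hom.hom (Spec.map_injective (?_ :
    Spec.map (CommRingCat.ofHom (ch.omega (a.restrict (Magnet.AMonS.map S f)) x)) =
    Spec.map (CommRingCat.ofHom ((MonoidAlgebra.mapDomainRingHom C (AddMonoidHom.toMultiplicative f)).comp (ch.omega a x)))))
  rw [← cancel_mono ch.emb, ← omega_spec, CommRingCat.ofHom_comp, Spec.map_comp, Category.assoc, ← omega_spec]
  rw [show (a.restrict (Magnet.AMonS.map S f)).act = (Magnet.AMonS.map S f ▷ X) ≫ a.act from rfl, whisker_exchange_assoc,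
    Over.comp_left, gaff_whiskerRight_assoc]

/-- `Δ : C[M] → C[M][M]`. -/
def delta (C : Type u) [CommRing C] (M : Type) [AddCommMonoid M] : GA C M →+* GA (GA C M) M :=
  MonoidAlgebra.liftNCRingHom ((MonoidAlgebra.singleOneRingHom : GA C M →+* _).comp MonoidAlgebra.singleOneRingHom)
    (((MonoidAlgebra.singleOneRingHom : GA C M →+* GA (GA C M) M) : GA C M →* GA (GA C M) M).comp (MonoidAlgebra.of C (Multiplicative M)) *
      MonoidAlgebra.of (GA C M) (Multiplicative M)) (fun _ _ => mul_comm (G := GA (GA C M) M) _ _)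

theorem delta_single (m : Multiplicative M) (c : C) :
    delta C M (MonoidAlgebra.single m c) = MonoidAlgebra.single m (MonoidAlgebra.single m c) := by
  simp [delta, MonoidAlgebra.single_mul_single]

/-- Projection of the universal orbit. -/
abbrev prC (str : Spec (CommRingCat.of C) ⟶ S) (M : Type) [AddCommMonoid M] :
    Over.mk (Spec.map (CommRingCat.ofHom (MonoidAlgebra.singleOneRingHom : C →+* GA C M)) ≫ str) ⟶ Over.mk str :=
  chg C str (GA C M) MonoidAlgebra.singleOneRingHom

/-- The universal point of `A(M)`. -/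
abbrev ptU (str : Spec (CommRingCat.of C) ⟶ S) (M : Type) [AddCommMonoid M] :
    Over.mk (Spec.map (CommRingCat.ofHom (MonoidAlgebra.singleOneRingHom : C →+* GA C M)) ≫ str) ⟶ Magnet.AMonS S M :=
  pt (GA C M) _ (MonoidAlgebra.of C (Multiplicative M))

theorem ringOf_comp {D : Type u} [CommRing D] {str' : Spec (CommRingCat.of D) ⟶ S} (x : Over.mk str ⟶ ch.W)
    (t : Over.mk str' ⟶ Over.mk str) (φ : C →+* D) (hφ : t.left = Spec.map (CommRingCat.ofHom φ)) :
    ch.ringOf (t ≫ x) = φ.comp (ch.ringOf x) := by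
  refine congrArg CommRingCat.Hom.hom (Spec.map_injective (?_ :
    Spec.map (CommRingCat.ofHom (ch.ringOf (t ≫ x))) = Spec.map (CommRingCat.ofHom (φ.comp (ch.ringOf x)))))
  rw [← left_eq, CommRingCat.ofHom_comp, Spec.map_comp, ← left_eq, ← hφ, Over.comp_left]

theorem omega_comp {D : Type u} [CommRing D] {str' : Spec (CommRingCat.of D) ⟶ S} (x : Over.mk str ⟶ ch.W)
    (t : Over.mk str' ⟶ Over.mk str) (φ : C →+* D) (hφ : t.left = Spec.map (CommRingCat.ofHom φ)) :
    ch.omega a (t ≫ x) = (MonoidAlgebra.mapRingHom (Multiplicative M) φ).comp (ch.omega a x) := by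
  rw [omega, omega, ringOf_comp ch x t φ hφ, MonoidAlgebra.mapRingHom_comp, RingHom.comp_assoc]

/-- The universal translate of a point, with its ring map. -/
theorem exists_translate (x : Over.mk str ⟶ ch.W) :
    ∃ y : Over.mk (Spec.map (CommRingCat.ofHom (MonoidAlgebra.singleOneRingHom : C →+* GA C M)) ≫ str) ⟶ ch.W,
      y ≫ ch.inc = lift (ptU str M) (prC str M ≫ x ≫ ch.inc) ≫ a.act ∧
      ch.omega a y = (delta C M).comp (ch.omega a x) := by
  have h1 : ∀ (D : Type u) [CommRing D] (φ : C →+* D) (p : Multiplicative M →* D),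
      (lift (pt D (Spec.map (CommRingCat.ofHom φ) ≫ str) p) ((chg C str D φ ≫ x) ≫ ch.inc) ≫ a.act).left =
        Spec.map (CommRingCat.ofHom ((MonoidAlgebra.liftNCRingHom φ p (fun _ _ => Commute.all _ _) : GA C M →+* D).comp
          (ch.omega a x))) ≫ ch.emb := by
    intro D _ φ p
    rw [lift_pt_act, omega_comp ch a x (chg C str D φ) φ rfl, ← RingHom.comp_assoc]
    congr 4
    refine MonoidAlgebra.ringHom_ext (fun r => ?_) (fun n => ?_) <;> simp
  obtain ⟨y, hy⟩ := ch.exists_lift (lift (ptU str M) (prC str M ≫ x ≫ ch.inc) ≫ a.act) (fun p => by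
    rw [← Over.w (prC str M ≫ x), Scheme.Hom.comp_apply]
    exact ch.mem_U _)
  refine ⟨y, hy, ?_⟩
  have hyω : ch.ringOf y = ch.omega a x := by
    refine congrArg CommRingCat.Hom.hom (Spec.map_injective (?_ :
      Spec.map (CommRingCat.ofHom (ch.ringOf y)) = Spec.map (CommRingCat.ofHom (ch.omega a x))))
    rw [← cancel_mono ch.emb, ← left_eq]
    change (y ≫ ch.inc).left = _
    rw [hy]
    rw [← Category.assoc (prC str M) x ch.inc, h1]
    congr 3
    rw [show (MonoidAlgebra.liftNCRingHom MonoidAlgebra.singleOneRingHom (MonoidAlgebra.of C (Multiplicative M))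
      (fun _ _ => Commute.all _ _) : GA C M →+* GA C M) = RingHom.id _ from
        MonoidAlgebra.ringHom_ext (fun r => by simp) (fun n => by simp), RingHom.id_comp]
  let φ₂ : GA C M →+* GA (GA C M) M := MonoidAlgebra.singleOneRingHom
  let p₂ : Multiplicative M →* GA (GA C M) M := MonoidAlgebra.of (GA C M) (Multiplicative M)
  let p₁ : Multiplicative M →* GA (GA C M) M := (φ₂ : GA C M →* GA (GA C M) M).comp (MonoidAlgebra.of C (Multiplicative M))
  let φ : C →+* GA (GA C M) M := φ₂.comp MonoidAlgebra.singleOneRingHom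
  let str₂ := Spec.map (CommRingCat.ofHom φ₂) ≫ Spec.map (CommRingCat.ofHom (MonoidAlgebra.singleOneRingHom : C →+* GA C M)) ≫ str
  have hstr : str₂ = Spec.map (CommRingCat.ofHom φ) ≫ str := by
    rw [show φ = φ₂.comp MonoidAlgebra.singleOneRingHom from rfl, CommRingCat.ofHom_comp, Spec.map_comp, Category.assoc]
  let e : Over.mk (Spec.map (CommRingCat.ofHom φ) ≫ str) ⟶ Over.mk str₂ := Over.homMk (𝟙 (Spec (CommRingCat.of (GA (GA C M) M)))) ((Category.id_comp str₂).trans hstr)
  let t₂ := chg (GA C M) (Spec.map (CommRingCat.ofHom (MonoidAlgebra.singleOneRingHom : C →+* GA C M)) ≫ str) (GA (GA C M) M) φ₂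
  have he : ∀ p : Multiplicative M →* GA (GA C M) M, e ≫ pt (GA (GA C M) M) str₂ p = pt (GA (GA C M) M) (Spec.map (CommRingCat.ofHom φ) ≫ str) p := by
    intro p
    ext1
    apply pullback.hom_ext
    · rw [Over.comp_left, Category.assoc, pt_left_fst, pt_left_fst]
      exact Category.id_comp _
    · exact (Over.w (e ≫ pt _ str₂ p)).trans (Over.w (pt _ _ p)).symm
  have key : e ≫ lift (pt (GA (GA C M) M) str₂ p₂) ((t₂ ≫ y) ≫ ch.inc) ≫ a.act =
      lift (pt (GA (GA C M) M) (Spec.map (CommRingCat.ofHom φ) ≫ str) (p₁ * p₂)) ((chg C str _ φ ≫ x) ≫ ch.inc) ≫ a.act := by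
    have hpr : e ≫ t₂ ≫ prC str M = chg C str _ φ := Over.OverMorphism.ext (by
      change 𝟙 _ ≫ Spec.map _ ≫ Spec.map _ = Spec.map _
      rw [Category.id_comp, ← Spec.map_comp]
      rfl)
    rw [Category.assoc, hy, comp_lift_assoc, he, comp_lift_assoc, ← Category.assoc e, comp_lift,
      chg_pt, he, ← Magnet.MonAct.lift_mul_act, ← pt_mul, mul_comm p₂]
    congr 2
    simp only [← hpr, Category.assoc]
  have h2 := congrArg (fun k => Over.Hom.left k) key
  change (e ≫ lift (pt (GA (GA C M) M) str₂ p₂) ((t₂ ≫ y) ≫ ch.inc) ≫ a.act).left = Over.Hom.left _ at h2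
  rw [h1, Over.comp_left] at h2
  change 𝟙 _ ≫ _ = _ at h2
  rw [Category.id_comp, lift_pt_act, omega_comp ch a y t₂ φ₂ rfl, ← RingHom.comp_assoc] at h2
  have h3 : (MonoidAlgebra.liftNCRingHom (RingHom.id _) p₂ (fun _ _ => Commute.all _ _) : GA (GA (GA C M) M) M →+* _).comp
      (MonoidAlgebra.mapRingHom (Multiplicative M) φ₂) = RingHom.id _ := by
    refine MonoidAlgebra.ringHom_ext (fun r => ?_) (fun n => ?_) <;> simp [φ₂, p₂]
  rw [h3, RingHom.id_comp] at h2
  exact congrArg CommRingCat.Hom.hom (Spec.map_injective ((cancel_mono ch.emb).mp h2))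

end Chart

end

end Groth.Agent.MagnetHom
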