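import Mathlib
import Groth.Prelude.Def_Magnet3
import Groth.Agent.MagnetHom.AttrRep
import Groth.Agent.OverRep.Main

/-! Attractors of schemes affine over the base: representability, change of monoid, finitely many degrees. -/

set_option autoImplicit false
set_option backward.isDefEq.respectTransparency false
set_option backward.isDefEq.respectTransparency.types false
set_option synthInstance.maxHeartbeats 400000
set_option maxHeartbeats 1000000
universe u

open CategoryTheory CategoryTheory.Limits MonoidalCategory CartesianMonoidalCategory MonObj AlgebraicGeometry Opposite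

namespace Groth.Agent.MagnetHom

noncomputable section

variable {S : Scheme.{u}} {M : Type} [AddCommMonoid M] {X : Over S}

theorem attrToX_attrComap {Z : Type} [AddCommMonoid Z] (a : Magnet.MonAct (Magnet.AMonS S M) X) (f : M →+ Z)
    (Y : AddSubmonoid Z) (T : Over S) (φ : (Magnet.attr a (Y.comap f)).obj (op T)) :
    (Magnet.attrToX (a.restrict (Magnet.AMonS.map S f)) Y).app (op T) ((Magnet.attrComap a f Y).app (op T) φ) =
      (Magnet.attrToX a (Y.comap f)).app (op T) φ := by
  rw [Magnet.MonAct.eqvHom.evalAt_app, Magnet.MonAct.eqvHom.evalAt_app]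
  change lift _ _ ≫ (Magnet.AMonS.map S _ ▷ T) ≫ φ.1 = _
  rw [lift_whiskerRight_assoc, Category.assoc, IsMonHom.one_hom]

/-- A condition that is local on the source may be checked on affine pieces of chosen charts. -/
theorem hasOrbit_of_charts [IsSeparated X.hom] (a : Magnet.MonAct (Magnet.AMonS S M) X) (N : AddSubmonoid M)
    {κ : Type u} (ch : κ → Chart X) (hch : ∀ s : S, ∃ i, s ∈ (ch i).U) {T : Over S} (x : T ⟶ X)
    (h : ∀ (i : κ) (C : Type u) [CommRing C] (str : Spec (CommRingCat.of C) ⟶ S) (t : Over.mk str ⟶ T)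
      (x' : Over.mk str ⟶ (ch i).W), x' ≫ (ch i).inc = t ≫ x → HasOrbit a N (x' ≫ (ch i).inc)) :
    HasOrbit a N x := by
  choose i hi using fun p : T.left => hch (T.hom p)
  choose V hV hpV hle using fun p : T.left =>
    T.left.isBasis_affineOpens.exists_subset_of_mem_open (hi p) (T.hom ⁻¹ᵁ (ch (i p)).U).isOpen
  choose W hW hWV using hV
  let 𝒰 : T.left.OpenCover := Scheme.Cover.mkOfCovers T.left (fun p => Spec Γ(T.left, W p))
    (fun p => (hW p).fromSpec) (fun p => ⟨p, by
      have : p ∈ ((W p : T.left.Opens) : Set T.left) := (hWV p).symm ▸ hpV p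
      rw [← (hW p).range_fromSpec] at this
      exact this⟩) (fun p => inferInstanceAs (IsOpenImmersion (hW p).fromSpec))
  refine HasOrbit.of_cover 𝒰 fun p => ?_
  let t : Over.mk (𝒰.f p ≫ T.hom) ⟶ T := Over.homMk (𝒰.f p)
  change HasOrbit a N (t ≫ x)
  obtain ⟨x', hx'⟩ := (ch (i p)).exists_lift (t ≫ x) (fun q => by
    change (𝒰.f p ≫ T.hom) q ∈ _
    rw [Scheme.Hom.comp_apply]
    refine hle p ?_
    rw [← hWV p, ← (hW p).range_fromSpec]
    exact ⟨q, rfl⟩)
  have := h (i p) Γ(T.left, W p) (𝒰.f p ≫ T.hom) t x' hx'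
  rwa [hx'] at this

variable (X) in
/-- The charts of all affine opens. -/
def allCharts [IsAffineHom X.hom] (U : {U : S.Opens // IsAffineOpen U}) : Chart X := Chart.mk' U.1 U.2

theorem allCharts_cover [IsAffineHom X.hom] (s : S) : ∃ U, s ∈ (allCharts X U).U := by
  obtain ⟨_, ⟨U, hU, rfl⟩, hs, -⟩ := S.isBasis_affineOpens.exists_subset_of_mem_open (Set.mem_univ s) isOpen_univ
  exact ⟨⟨U, hU⟩, hs⟩

theorem coeff_mapDomain_delta {Z : Type} [AddCommMonoid Z] {C : Type u} [CommRing C] (f : M →+ Z)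
    (v : GA C M) (m : Multiplicative M) :
    ((MonoidAlgebra.mapDomainRingHom (GA C M) (AddMonoidHom.toMultiplicative f) (Chart.delta C M v)).coeff
      (AddMonoidHom.toMultiplicative f m)).coeff m = v.coeff m := by
  classical
  induction v using MonoidAlgebra.induction_linear with
  | zero => simp
  | add p q hp hq => simp only [map_add, MonoidAlgebra.coeff_add, Finsupp.add_apply, hp, hq]
  | single k c =>
    rw [Chart.delta_single, MonoidAlgebra.mapDomainRingHom_apply, MonoidAlgebra.mapDomain_single,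
      MonoidAlgebra.coeff_single, MonoidAlgebra.coeff_single]
    by_cases hk : k = m
    · subst hk
      simp
    · rw [Finsupp.single_eq_of_ne (Ne.symm hk), Finsupp.single_apply]
      split_ifs
      · simp [Finsupp.single_eq_of_ne (Ne.symm hk)]
      · simp

/-- The translate of a point by the universal element satisfies the same condition. -/
theorem hasOrbit_translate {Z : Type} [AddCommMonoid Z] (a : Magnet.MonAct (Magnet.AMonS S M) X) (f : M →+ Z)
    (Y : AddSubmonoid Z) {T T₁ : Over S} (g : T₁ ⟶ Magnet.AMonS S M) (p : T₁ ⟶ T) {x : T ⟶ X}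
    (h : HasOrbit (a.restrict (Magnet.AMonS.map S f)) Y x) :
    HasOrbit (a.restrict (Magnet.AMonS.map S f)) Y (lift g (p ≫ x) ≫ a.act) := by
  obtain ⟨m', hm'⟩ := h
  refine ⟨lift (snd _ _ ≫ g) ((Magnet.AMonS S Y ◁ p) ≫ m') ≫ a.act, ?_⟩
  refine Magnet.hom_ext_lift₂ fun T' z s => ?_
  have hp : ∀ (z : T' ⟶ Magnet.AMonS S Z) (r : T' ⟶ T),
      lift (z ≫ Magnet.AMonS.map S Y.subtype) r ≫ m' = lift (z ≫ Magnet.AMonS.map S f) (r ≫ x) ≫ a.act := by
    intro z r
    rw [← lift_whiskerRight_assoc, hm', lift_whiskerLeft_assoc, Magnet.MonAct.lift_restrict_act]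
  rw [lift_whiskerRight_assoc, lift_whiskerLeft_assoc, comp_lift_assoc, comp_lift_assoc, lift_snd_assoc,
    lift_whiskerLeft_assoc, hp, Magnet.MonAct.lift_restrict_act, ← Magnet.MonAct.lift_mul_act,
    ← Magnet.MonAct.lift_mul_act, AMonS_mul_comm (z ≫ Magnet.AMonS.map S f)]
  simp only [Category.assoc]

theorem hasOrbit_comap [IsAffineHom X.hom] {Z : Type} [AddCommMonoid Z] (a : Magnet.MonAct (Magnet.AMonS S M) X)
    (f : M →+ Z) (Y : AddSubmonoid Z) {T : Over S} {x : T ⟶ X}
    (h : HasOrbit (a.restrict (Magnet.AMonS.map S f)) Y x) : HasOrbit a (Y.comap f) x := by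
  refine hasOrbit_of_charts a _ (allCharts X) allCharts_cover x fun U C _ str t x' hx' => ?_
  let ch := allCharts X U
  obtain ⟨y, hy, hω⟩ := ch.exists_translate a x'
  have hY : HasOrbit (a.restrict (Magnet.AMonS.map S f)) Y (y ≫ ch.inc) := by
    rw [hy]
    exact hasOrbit_translate a f Y _ _ (hx'.symm ▸ h.comp t)
  rw [ch.hasOrbit_iff]
  intro b m hm
  refine (ch.hasOrbit_iff (a.restrict (Magnet.AMonS.map S f)) Y y).mp hY b (AddMonoidHom.toMultiplicative f m) ?_
  intro h0
  apply hm
  rw [← coeff_mapDomain_delta f (ch.omega a x' b) m]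
  rw [Chart.omega_restrict, hω] at h0
  simp only [RingHom.comp_apply] at h0
  rw [h0]
  rfl

namespace Chart

variable (ch : Chart X) (a : Magnet.MonAct (Magnet.AMonS S M) X) (N : AddSubmonoid M)

/-- The ideal of the attractor in a chart. -/
def attrIdeal : Ideal ch.B :=
  Ideal.span {c | ∃ (b : ch.B) (m : Multiplicative M), Multiplicative.toAdd m ∉ N ∧ c = (ch.coact a b).coeff m}

theorem omega_coeff {C : Type u} [CommRing C] {str : Spec (CommRingCat.of C) ⟶ S} (x : Over.mk str ⟶ ch.W)
    (b : ch.B) (m : Multiplicative M) : (ch.omega a x b).coeff m = ch.ringOf x ((ch.coact a b).coeff m) := by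
  rw [omega, RingHom.comp_apply, MonoidAlgebra.coeff_mapRingHom]

theorem hasOrbit_iff_le {C : Type u} [CommRing C] {str : Spec (CommRingCat.of C) ⟶ S} (x : Over.mk str ⟶ ch.W) :
    HasOrbit a N (x ≫ ch.inc) ↔ ch.attrIdeal a N ≤ RingHom.ker (ch.ringOf x) := by
  rw [ch.hasOrbit_iff, attrIdeal, Ideal.span_le]
  constructor
  · rintro h _ ⟨b, m, hm, rfl⟩
    by_contra hne
    exact hm (h b m (by rw [omega_coeff]; exact hne))
  · intro h b m hne
    by_contra hm
    exact hne (by rw [omega_coeff]; exact h ⟨b, m, hm, rfl⟩)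

/-- A closed subscheme cut out by an ideal contains an affine point killing the ideal. -/
theorem exists_quot_lift (I : Ideal ch.B) {C : Type u} [CommRing C] {str : Spec (CommRingCat.of C) ⟶ S}
    (x : Over.mk str ⟶ ch.W) (hI : I ≤ RingHom.ker (ch.ringOf x)) :
    ∃ l : Spec (CommRingCat.of C) ⟶ Spec (CommRingCat.of (ch.B ⧸ I)),
      l ≫ Spec.map (CommRingCat.ofHom (Ideal.Quotient.mk I)) = x.left := by
  refine ⟨Spec.map (CommRingCat.ofHom (Ideal.Quotient.lift I (ch.ringOf x) fun b hb => hI hb)), ?_⟩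
  rw [← Spec.map_comp, ← CommRingCat.ofHom_comp, Ideal.Quotient.lift_comp_mk, ← left_eq]

theorem exists_attrChart [IsSeparated X.hom] :
    ∃ (Z : Over S) (j : Z ⟶ ch.W), IsClosedImmersion j.left ∧ HasOrbit a N (j ≫ ch.inc) ∧
      ∀ (T : Over S) (x : T ⟶ ch.W), HasOrbit a N (x ≫ ch.inc) → ∃ z : T ⟶ Z, z ≫ j = x := by
  let I := ch.attrIdeal a N
  let q := Spec.map (CommRingCat.ofHom (Ideal.Quotient.mk I))
  have hq : IsClosedImmersion q := IsClosedImmersion.spec_of_surjective _ Ideal.Quotient.mk_surjective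
  let j : Over.mk (q ≫ ch.emb ≫ X.hom) ⟶ ch.W := Over.homMk q rfl
  refine ⟨_, j, hq, ?_, ?_⟩
  · rw [hasOrbit_iff_le]
    have : ch.ringOf j = Ideal.Quotient.mk I := congrArg CommRingCat.Hom.hom
      (Spec.map_injective (ch.left_eq j).symm)
    rw [this, Ideal.mk_ker]
  · intro T x hx
    let c := pullback.fst x.left q
    have hc : IsIso c := by
      refine IsZariskiLocalAtTarget.of_openCover (P := MorphismProperty.isomorphisms Scheme.{u})
        T.left.affineOpenCover.openCover fun k => ?_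
      let C : Type u := T.left.affineOpenCover.X k
      let jk : Spec (CommRingCat.of C) ⟶ T.left := T.left.affineOpenCover.f k
      let t : Over.mk (jk ≫ T.hom) ⟶ T := Over.homMk jk rfl
      have hk : HasOrbit a N ((t ≫ x) ≫ ch.inc) := by rw [Category.assoc]; exact hx.comp t
      rw [hasOrbit_iff_le] at hk
      obtain ⟨l, hl⟩ := ch.exists_quot_lift I (t ≫ x) hk
      let s : Spec (CommRingCat.of C) ⟶ pullback c jk :=
        pullback.lift (pullback.lift jk l hl.symm) (𝟙 _) (by rw [pullback.lift_fst, Category.id_comp])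
      have hs : s ≫ pullback.snd c jk = 𝟙 _ := pullback.lift_snd _ _ _
      have : IsClosedImmersion c := inferInstance
      have : IsSplitEpi (pullback.snd c jk) := ⟨⟨⟨s, hs⟩⟩⟩
      exact (isIso_of_mono_of_isSplitEpi (pullback.snd c jk) : IsIso (pullback.snd c jk))
    refine ⟨Over.homMk (inv c ≫ pullback.snd _ _) ?_, Over.OverMorphism.ext ?_⟩
    · change (inv c ≫ pullback.snd _ _) ≫ q ≫ ch.emb ≫ X.hom = T.hom
      rw [Category.assoc, ← pullback.condition_assoc, IsIso.inv_hom_id_assoc]
      exact Over.w x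
    · change (inv c ≫ pullback.snd _ _) ≫ q = x.left
      rw [Category.assoc, ← pullback.condition, IsIso.inv_hom_id_assoc]

end Chart

/-- The structure map of a representing object is a closed immersion if it is so chart by chart. -/
theorem isClosedImmersion_of_charts {Y : Over S} (i : Y ⟶ X) {κ : Type u} (ch : κ → Chart X)
    (hch : ∀ s : S, ∃ k, s ∈ (ch k).U)
    (h : ∀ k, IsClosedImmersion (pullback.snd i.left (ch k).emb)) : IsClosedImmersion i.left := by
  let 𝒲 : X.left.OpenCover := Scheme.Cover.mkOfCovers κ (fun U => Spec (CommRingCat.of (ch U).B))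
    (fun U => (ch U).emb) (fun x => by
      obtain ⟨U, hU⟩ := hch (X.hom x)
      exact ⟨U, show x ∈ (ch U).emb.opensRange from (ch U).range_emb.ge hU⟩) (fun U => (ch U).open_emb)
  exact IsZariskiLocalAtTarget.of_openCover (P := @IsClosedImmersion) 𝒲 h

theorem exists_representableBy_attr [IsAffineHom X.hom] (a : Magnet.MonAct (Magnet.AMonS S M) X) (N : AddSubmonoid M) :
    ∃ (Z : Over S) (i : Z ⟶ X) (e : (Magnet.attr a N).RepresentableBy Z), IsClosedImmersion i.left ∧
      ∀ (T : Over S) (z : T ⟶ Z), (Magnet.attrToX a N).app (op T) (e.homEquiv z) = z ≫ i := by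
  let ch := allCharts X
  choose Z j hj horb hfac using fun U => (ch U).exists_attrChart a N
  choose φ hφ using fun U => HasOrbit.exists_attr (horb U)
  have hev : ∀ (U) (T : Over S) (g : T ⟶ Z U),
      (Magnet.attrToX a N).app (op T) ((Magnet.attr a N).map g.op (φ U)) = (g ≫ j U) ≫ (ch U).inc := fun U T g => by
    rw [attrToX_map, hφ, Category.assoc]
  have hmono : ∀ U, Mono (j U) := fun U => by
    have := hj U
    exact Over.mono_of_mono_left _
  have hlift : ∀ (U) (T : Over S) (s : (Magnet.attr a N).obj (op T)), (∀ p, T.hom p ∈ (ch U).U) →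
      ∃ g : T ⟶ Z U, (Magnet.attr a N).map g.op (φ U) = s := by
    intro U T s hT
    obtain ⟨x', hx'⟩ := (ch U).exists_lift ((Magnet.attrToX a N).app (op T) s) hT
    obtain ⟨g, hg⟩ := hfac U T x' (hx'.symm ▸ hasOrbit_attrToX a N s)
    refine ⟨g, attrToX_injective a N T ?_⟩
    change (Magnet.attrToX a N).app (op T) _ = (Magnet.attrToX a N).app (op T) s
    rw [hev, hg, hx']
  obtain ⟨Y, ⟨e⟩⟩ := Groth.Agent.OverRep.exists_representableBy_of_cover (isSheaf_attr a N) Z φ
    (fun U T g g' h => by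
      have := congrArg ((Magnet.attrToX a N).app (op T)) h
      rw [hev, hev] at this
      exact (cancel_mono (j U)).mp ((cancel_mono (ch U).inc).mp this))
    (fun U T s => ⟨T.hom ⁻¹ᵁ (ch U).U, fun T' t => ⟨by
        rintro ⟨g, -⟩ _ ⟨p, rfl⟩
        change T.hom (t.left p) ∈ (ch U).U
        rw [← Scheme.Hom.comp_apply, Over.w t, ← Over.w g, ← Over.w (j U), Scheme.Hom.comp_apply, Scheme.Hom.comp_apply]
        exact (ch U).mem_U _,
      fun ht => hlift U T' _ (fun p => by
        rw [← Over.w t, Scheme.Hom.comp_apply]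
        exact ht ⟨p, rfl⟩)⟩⟩)
    (fun T s p => by
      obtain ⟨U, hU⟩ := allCharts_cover (X := X) (T.hom p)
      let V := T.hom ⁻¹ᵁ (ch U).U
      let t : Over.mk (V.ι ≫ T.hom) ⟶ T := Over.homMk V.ι
      obtain ⟨g, hg⟩ := hlift U _ ((Magnet.attr a N).map t.op s) (fun q => by
        change (V.ι ≫ T.hom) q ∈ _
        rw [Scheme.Hom.comp_apply]
        exact q.2)
      exact ⟨U, _, t, g, inferInstanceAs (IsOpenImmersion V.ι), ⟨⟨p, hU⟩, rfl⟩, hg⟩)
  let i : Y ⟶ X := (Magnet.attrToX a N).app (op Y) (e.homEquiv (𝟙 Y))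
  have hi : ∀ (T : Over S) (z : T ⟶ Y), (Magnet.attrToX a N).app (op T) (e.homEquiv z) = z ≫ i := fun T z => by
    rw [e.homEquiv_eq z, attrToX_map]
  have himono : ∀ (T : Over S) (z z' : T ⟶ Y), z ≫ i = z' ≫ i → z = z' := fun T z z' h =>
    e.homEquiv.injective (attrToX_injective a N T (by
      change (Magnet.attrToX a N).app (op T) _ = (Magnet.attrToX a N).app (op T) _
      rw [hi, hi, h]))
  refine ⟨Y, i, e, isClosedImmersion_of_charts i ch allCharts_cover fun U => ?_, hi⟩
  let P : Over S := Over.mk (pullback.fst i.left (ch U).emb ≫ Y.hom)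
  let f₁ : P ⟶ Y := Over.homMk (pullback.fst _ _)
  let f₂ : P ⟶ (ch U).W := Over.homMk (pullback.snd i.left (ch U).emb) (by
    change _ ≫ (ch U).emb ≫ X.hom = _ ≫ Y.hom
    rw [← pullback.condition_assoc, Over.w i])
  have hf : f₂ ≫ (ch U).inc = f₁ ≫ i := Over.OverMorphism.ext pullback.condition.symm
  obtain ⟨l, hl⟩ := hfac U P f₂ (by rw [hf]; exact (hasOrbit_attrToX a N _).comp f₁)
  let k : Z U ⟶ Y := e.homEquiv.symm (φ U)
  have hk : k ≫ i = j U ≫ (ch U).inc := by rw [← hi, Equiv.apply_symm_apply, hφ]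
  let r : (Z U).left ⟶ P.left := pullback.lift k.left (j U).left (congrArg (fun g => Over.Hom.left g) hk)
  have hlr : l.left ≫ r = 𝟙 _ := by
    apply pullback.hom_ext
    · rw [Category.assoc, pullback.lift_fst, Category.id_comp]
      refine congrArg (fun g => Over.Hom.left g) (himono P (l ≫ k) f₁ ?_)
      rw [Category.assoc, hk, ← Category.assoc, hl, hf]
    · rw [Category.assoc, pullback.lift_snd, Category.id_comp]
      exact congrArg (fun g => Over.Hom.left g) hl
  have hrl : r ≫ l.left = 𝟙 _ := by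
    have := hj U
    rw [← cancel_mono (j U).left, Category.assoc, ← Over.comp_left, hl, Category.id_comp]
    exact pullback.lift_snd _ _ _
  have : IsIso l.left := ⟨r, hlr, hrl⟩
  rw [show pullback.snd i.left (ch U).emb = l.left ≫ (j U).left from (congrArg (fun g => Over.Hom.left g) hl).symm]
  have := hj U
  infer_instance

end

end Groth.Agent.MagnetHom
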