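import Mathlib
import Groth.Prelude.Def_Magnet2
import Groth.Agent.MagnetHom.Eval

/-! Factorisations through closed immersions detected on `A(M)_T`. -/

set_option autoImplicit false
set_option backward.isDefEq.respectTransparency false
set_option backward.isDefEq.respectTransparency.types false
set_option synthInstance.maxHeartbeats 400000
set_option maxHeartbeats 1000000
universe u

open CategoryTheory CategoryTheory.Limits MonoidalCategory CartesianMonoidalCategory MonObj AlgebraicGeometry Opposite TensorProduct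

namespace Groth.Agent.MagnetHom

noncomputable section

attribute [local instance 50] algZ
attribute [local instance 10000] Algebra.toModule

theorem Spec_ker_eq_bot {A B : CommRingCat.{u}} (φ : A ⟶ B) (hφ : Function.Injective φ) : (Spec.map φ).ker = ⊥ := by
  refine Scheme.IdealSheafData.ext_of_isAffine ?_
  rw [Scheme.Hom.ker_apply]
  simp only [Scheme.IdealSheafData.ideal_bot, Pi.bot_apply]
  rw [← RingHom.injective_iff_ker_eq_bot]
  exact injective_appTop φ hφ

theorem isIso_fst_of_injective {A B : CommRingCat.{u}} (φ : A ⟶ B) (hφ : Function.Injective φ) {Z Y : Scheme.{u}}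
    (i : Z ⟶ Y) [IsClosedImmersion i] (g : Spec A ⟶ Y) (l : Spec B ⟶ Z) (h : l ≫ i = Spec.map φ ≫ g) :
    IsIso (pullback.fst g i) := by
  refine IsClosedImmersion.isIso_iff_ker_eq_bot.mpr (le_bot_iff.mp ?_)
  rw [Scheme.IdealSheafData.ker_fst_of_isClosedImmersion, ← Scheme.IdealSheafData.le_map_iff_comap_le,
    ← Spec_ker_eq_bot φ hφ, ← Scheme.Hom.ker_comp, ← h]
  exact Scheme.Hom.le_ker_comp l i

variable {S : Scheme.{u}} {N M : Type} [AddCommMonoid N] [AddCommMonoid M]

theorem exists_factor_of_map (f : N →+ M) (hf : Function.Injective f) {T : Over S} {Z Y : Over S} (i : Z ⟶ Y)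
    [IsClosedImmersion i.left] (g : Magnet.AMonS S N ⊗ T ⟶ Y) (l : Magnet.AMonS S M ⊗ T ⟶ Z)
    (h : l ≫ i = (Magnet.AMonS.map S f ▷ T) ≫ g) :
    ∃ m : Magnet.AMonS S N ⊗ T ⟶ Z, m ≫ i = g := by
  have hl : l.left ≫ i.left = (Magnet.AMonS.map S f ▷ T).left ≫ g.left := by rw [← Over.comp_left, h, Over.comp_left]
  let c := pullback.fst g.left i.left
  have : IsIso c := by
    let 𝒰 := T.left.affineOpenCover.openCover.pullback₁ (snd (Magnet.AMonS S N) T).left
    refine IsZariskiLocalAtTarget.of_openCover (P := MorphismProperty.isomorphisms Scheme.{u}) 𝒰 fun k => ?_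
    let C : CommRingCat.{u} := T.left.affineOpenCover.X k
    let j : Spec C ⟶ T.left := T.left.affineOpenCover.f k
    let t : Over.mk (j ≫ T.hom) ⟶ T := Over.homMk j
    have hb : IsPullback (Magnet.AMonS S N ◁ t).left
        (snd (Magnet.AMonS S N) (Over.mk (j ≫ T.hom))).left (snd (Magnet.AMonS S N) T).left j := by
      refine IsPullback.of_right (h₁₂ := pA N T) (v₁₃ := (Magnet.AMon Z0.{u} N).hom) (h₂₂ := T.hom ≫ specULiftZIsTerminal.from S) ?_ ?_ (isPullback_pA N T)
      · rw [whiskerLeft_pA, ← Category.assoc]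
        exact isPullback_pA N (Over.mk (j ≫ T.hom))
      · rw [← Over.comp_left, whiskerLeft_snd]; rfl
    let e := affIso (C : Type u) (j ≫ T.hom) N
    let p := e.inv ≫ (Magnet.AMonS S N ◁ t).left
    have hiso : IsIso (pullback.fst (p ≫ g.left) i.left) := by
      refine isIso_fst_of_injective (CommRingCat.ofHom (R := MA.{u} N ⊗[Z0.{u}] (C : Type u)) (S := MA.{u} M ⊗[Z0.{u}] (C : Type u))
        (mapT (C : Type u) f).toRingHom) (mapT_injective (C : Type u) f hf) i.left _
        ((affIso (C : Type u) (j ≫ T.hom) M).inv ≫ (Magnet.AMonS S M ◁ t).left ≫ l.left) ?_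
      simp only [p, Category.assoc, hl]
      rw [← affIso_inv_whiskerRight_assoc, ← Over.comp_left_assoc, ← Over.comp_left_assoc, whisker_exchange]
    change IsIso (pullback.snd c (pullback.fst (snd (Magnet.AMonS S N) T).left j))
    let a : pullback (snd (Magnet.AMonS S N) T).left j ≅ Spec (CommRingCat.of (MA.{u} N ⊗[Z0.{u}] (C : Type u))) :=
      hb.isoPullback.symm ≪≫ e
    have ha : pullback.fst (snd (Magnet.AMonS S N) T).left j = a.hom ≫ p := by simp [a, p]
    have h₂ : MorphismProperty.isomorphisms Scheme.{u} (pullback.snd c p) := by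
      let e₂ := pullbackSymmetry c p ≪≫ pullbackRightPullbackFstIso g.left i.left p
      have : pullback.snd c p = e₂.hom ≫ pullback.fst (p ≫ g.left) i.left := by simp [e₂, c]
      rw [this]
      exact inferInstanceAs (IsIso _)
    let μ' := pullback.map c (pullback.fst (snd (Magnet.AMonS S N) T).left j) c p (𝟙 _) a.hom (𝟙 _) (by simp) (by rw [Category.comp_id, ha])
    haveI : IsIso (pullback.snd c p) := h₂
    have h₄ : pullback.snd c (pullback.fst (snd (Magnet.AMonS S N) T).left j) = μ' ≫ pullback.snd c p ≫ a.inv := by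
      rw [← Category.assoc, Iso.eq_comp_inv]
      exact (pullback.lift_snd _ _ _).symm
    rw [h₄]
    infer_instance
  refine ⟨Over.homMk (inv c ≫ pullback.snd _ _) ?_, Over.OverMorphism.ext ?_⟩
  · rw [← Over.w i, Category.assoc, ← pullback.condition_assoc, IsIso.inv_hom_id_assoc, Over.w g]
  · change (inv c ≫ pullback.snd _ _) ≫ i.left = g.left
    rw [Category.assoc, ← pullback.condition, IsIso.inv_hom_id_assoc]

end

end Groth.Agent.MagnetHom
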