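import Mathlib
import Groth.Agent.MagnetHom.Vertex

/-! `A(ℕ)_C = Spec C[X]`. -/

set_option autoImplicit false
set_option backward.isDefEq.respectTransparency false
set_option backward.isDefEq.respectTransparency.types false
set_option synthInstance.maxHeartbeats 400000
set_option maxHeartbeats 1000000
universe u

open CategoryTheory CategoryTheory.Limits MonoidalCategory CartesianMonoidalCategory MonObj AlgebraicGeometry Opposite TensorProduct

namespace Groth.Agent.MagnetHom

noncomputable section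

attribute [local instance 50] algZ
attribute [local instance 10000] Algebra.toModule

/-- The magnet `ℕ ⊆ ℤ`. -/
abbrev NN : AddSubmonoid ℤ := AddSubmonoid.multiples (1 : ℤ)

/-- Its generator. -/
abbrev oneN : NN := ⟨1, 1, by simp⟩

theorem coe_toNat (n : NN) : (((n : ℤ).toNat : ℕ) : ℤ) = n := by
  obtain ⟨k, hk⟩ := n.2
  simp only [] at hk
  rw [← hk]
  simp

theorem eq_nsmul (n : NN) : n = (n : ℤ).toNat • oneN :=
  Subtype.ext (by simpa using (coe_toNat n).symm)

variable (C : Type u) [CommRing C]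

/-- `n ↦ X ^ n`. -/
def monChar : Multiplicative NN →* Polynomial C where
  toFun n := Polynomial.X ^ ((n.toAdd : ℤ).toNat)
  map_one' := by simp
  map_mul' a b := by
    rw [← pow_add]
    congr 1
    have ha := coe_toNat a.toAdd
    have hb := coe_toNat b.toAdd
    rw [toAdd_mul, AddSubmonoid.coe_add]
    omega

theorem monChar_apply (n : NN) : monChar C (Multiplicative.ofAdd n) = Polynomial.X ^ ((n : ℤ).toNat) := rfl

/-- `ℤ[ℕ] ⊗ C → C[X]`. -/
def toPoly : MA.{u} NN ⊗[Z0.{u}] C →+* Polynomial C :=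
  letI := algZ (Polynomial C)
  (Algebra.TensorProduct.productMap (MonoidAlgebra.lift Z0.{u} (Polynomial C) (Multiplicative NN) (monChar C))
    (qZ C (Polynomial C) Polynomial.C)).toRingHom

theorem toPoly_single (n : NN) (c : C) :
    toPoly C (MonoidAlgebra.single (Multiplicative.ofAdd n) (1 : Z0.{u}) ⊗ₜ[Z0.{u}] c) = Polynomial.X ^ ((n : ℤ).toNat) * Polynomial.C c := by
  simp [toPoly, qZ, monChar_apply]

/-- `C[X] → ℤ[ℕ] ⊗ C`. -/
def ofPoly : Polynomial C →+* MA.{u} NN ⊗[Z0.{u}] C :=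
  Polynomial.eval₂RingHom (R := C) (S := MA.{u} NN ⊗[Z0.{u}] C) (Algebra.TensorProduct.includeRight : C →ₐ[Z0.{u}] MA.{u} NN ⊗[Z0.{u}] C).toRingHom
    (MonoidAlgebra.single (Multiplicative.ofAdd oneN) (1 : Z0.{u}) ⊗ₜ[Z0.{u}] (1 : C))

theorem toPoly_ofPoly : (toPoly C).comp (ofPoly C) = RingHom.id _ := by
  refine Polynomial.ringHom_ext (fun c => ?_) ?_
  · simp only [RingHom.comp_apply, RingHom.id_apply, ofPoly, Polynomial.coe_eval₂RingHom, Polynomial.eval₂_C]
    change toPoly C ((1 : MA.{u} NN) ⊗ₜ[Z0.{u}] c) = _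
    rw [MonoidAlgebra.one_def, ← ofAdd_zero, toPoly_single]
    simp
  · simp only [RingHom.comp_apply, RingHom.id_apply, ofPoly, Polynomial.coe_eval₂RingHom, Polynomial.eval₂_X]
    rw [toPoly_single]
    simp

theorem ofPoly_X_pow_C (n : NN) (c : C) :
    ofPoly C (Polynomial.X ^ ((n : ℤ).toNat) * Polynomial.C c) = MonoidAlgebra.single (Multiplicative.ofAdd n) (1 : Z0.{u}) ⊗ₜ[Z0.{u}] c := by
  rw [map_mul, map_pow]
  simp only [ofPoly, Polynomial.coe_eval₂RingHom, Polynomial.eval₂_C, Polynomial.eval₂_X]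
  change _ * ((1 : MA.{u} NN) ⊗ₜ[Z0.{u}] c) = _
  rw [Algebra.TensorProduct.tmul_pow, Algebra.TensorProduct.tmul_mul_tmul, MonoidAlgebra.single_pow, one_pow, one_pow,
    _root_.mul_one, _root_.one_mul, ← ofAdd_nsmul, ← eq_nsmul]

theorem ofPoly_toPoly (z : MA.{u} NN ⊗[Z0.{u}] C) : ofPoly C (toPoly C z) = z := by
  induction z using TensorProduct.induction_on with
  | zero => simp
  | add a b ha hb => rw [map_add, map_add, ha, hb]
  | tmul a c =>
    induction a using MonoidAlgebra.induction_linear with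
    | zero => simp
    | add a b ha hb => rw [add_tmul, map_add, map_add, ha, hb]
    | single n r =>
      obtain ⟨n, rfl⟩ := Multiplicative.ofAdd.surjective n
      have e : MonoidAlgebra.single (Multiplicative.ofAdd n) r ⊗ₜ[Z0.{u}] c =
          MonoidAlgebra.single (Multiplicative.ofAdd n) 1 ⊗ₜ[Z0.{u}] (r • c) := by
        rw [← TensorProduct.smul_tmul, MonoidAlgebra.smul_single, smul_eq_mul, _root_.mul_one]
      rw [e, toPoly_single, ofPoly_X_pow_C]

theorem eq_zero_of_X_pow_dvd (h : Polynomial C) (H : ∀ e, Polynomial.X ^ e ∣ h) : h = 0 :=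
  Polynomial.ext fun d => by
    rw [Polynomial.coeff_zero]
    exact Polynomial.X_pow_dvd_iff.mp (H (d + 1)) d (Nat.lt_succ_self d)

/-- `C[X]_g` is `X`-adically separated when `g(0)` is a unit. -/
theorem eq_zero_of_localization (g : Polynomial C) (hg : IsUnit (Polynomial.constantCoeff g)) {B : Type u} [CommRing B]
    [Algebra (Polynomial C) B] [IsLocalization.Away g B] (b : B)
    (H : ∀ e, algebraMap (Polynomial C) B Polynomial.X ^ e ∣ b) : b = 0 := by
  obtain ⟨h, s, rfl⟩ := IsLocalization.exists_mk'_eq (Submonoid.powers g) b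
  have hcop : IsCoprime g Polynomial.X := by
    obtain ⟨u, hu⟩ := hg
    have hd := Polynomial.X_mul_divX_add g
    refine ⟨Polynomial.C (↑u⁻¹ : C), -(Polynomial.C (↑u⁻¹ : C) * g.divX), ?_⟩
    rw [show g.coeff 0 = ↑u from hu.symm] at hd
    calc Polynomial.C (↑u⁻¹ : C) * g + -(Polynomial.C (↑u⁻¹ : C) * g.divX) * Polynomial.X
        = Polynomial.C (↑u⁻¹ : C) * (g - Polynomial.X * g.divX) := by ring
      _ = Polynomial.C (↑u⁻¹ : C) * Polynomial.C ↑u := by rw [sub_eq_of_eq_add' hd.symm]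
      _ = 1 := by rw [← map_mul, Units.inv_mul, map_one]
  rw [eq_zero_of_X_pow_dvd C h fun e => ?_, IsLocalization.mk'_zero]
  obtain ⟨q, hq⟩ := H e
  obtain ⟨q₁, s₁, rfl⟩ := IsLocalization.exists_mk'_eq (Submonoid.powers g) q
  rw [← map_pow, IsLocalization.mul_mk'_eq_mk'_of_mul, IsLocalization.mk'_eq_iff_eq, IsLocalization.eq_iff_exists (Submonoid.powers g)] at hq
  obtain ⟨⟨_, m, rfl⟩, hm⟩ := hq
  obtain ⟨j, hj⟩ := s₁.2
  simp only [] at hm hj
  have hdvd : Polynomial.X ^ e ∣ g ^ (m + j) * h := ⟨g ^ m * s.1 * q₁, by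
    rw [pow_add, show g ^ j = s₁.1 from hj]
    linear_combination hm⟩
  exact ((hcop.symm.pow : IsCoprime (Polynomial.X ^ e) (g ^ (m + j)))).dvd_of_dvd_mul_left hdvd

end

end Groth.Agent.MagnetHom
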