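import Mathlib
import Groth.Agent.MagnetHom.FormalAlg

/-! Morphisms out of `𝔸¹ × Y` agreeing on the nilpotent neighbourhoods of `0`. -/

set_option autoImplicit false
set_option backward.isDefEq.respectTransparency false
set_option backward.isDefEq.respectTransparency.types false
set_option synthInstance.maxHeartbeats 400000
set_option maxHeartbeats 1000000
universe u

open CategoryTheory CategoryTheory.Limits MonoidalCategory CartesianMonoidalCategory MonObj AlgebraicGeometry Opposite TensorProduct

namespace Groth.Agent.MagnetHom

noncomputable section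

attribute [local instance 50] algZ
attribute [local instance 10000] Algebra.toModule
attribute [-instance] AlgebraicGeometry.instGrpObjSpecAsOverSpec AlgebraicGeometry.instCommGrpObjSpecAsOverSpec

variable {S : Scheme.{u}} (C : Type u) [CommRing C] (str : Spec (CommRingCat.of C) ⟶ S)

/-- `ℤ[ℕ] → C[X]`. -/
def monRingHom : MA.{u} NN →+* Polynomial C :=
  letI := algZ (Polynomial C)
  (MonoidAlgebra.lift Z0.{u} (Polynomial C) (Multiplicative NN) (monChar C)).toRingHom

theorem monRingHom_single (n : NN) :
    monRingHom C (MonoidAlgebra.single (Multiplicative.ofAdd n) (1 : Z0.{u})) = Polynomial.X ^ ((n : ℤ).toNat) := by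
  simp [monRingHom, monChar_apply]

theorem isIso_Spec_toPoly : IsIso (Spec.map (CommRingCat.ofHom (R := MA.{u} NN ⊗[Z0.{u}] C) (S := Polynomial C) (toPoly C))) := by
  have : IsIso (CommRingCat.ofHom (R := MA.{u} NN ⊗[Z0.{u}] C) (S := Polynomial C) (toPoly C)) :=
    ⟨CommRingCat.ofHom (R := Polynomial C) (S := MA.{u} NN ⊗[Z0.{u}] C) (ofPoly C), CommRingCat.hom_ext (RingHom.ext (ofPoly_toPoly C)),
      CommRingCat.hom_ext (toPoly_ofPoly C)⟩
  infer_instance

/-- `Spec C[X] ≅ A(ℕ)_S ×_S Spec C`. -/
def chartP : Spec (CommRingCat.of (Polynomial C)) ⟶ (Magnet.AMonS S NN ⊗ Over.mk str).left :=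
  Spec.map (CommRingCat.ofHom (R := MA.{u} NN ⊗[Z0.{u}] C) (S := Polynomial C) (toPoly C)) ≫ (affIso C str NN).inv

instance : IsIso (chartP C str) := by
  have := isIso_Spec_toPoly.{u} C
  dsimp only [chartP]; infer_instance

theorem chartP_snd : chartP C str ≫ (snd (Magnet.AMonS S NN) (Over.mk str)).left =
    Spec.map (CommRingCat.ofHom (R := C) (S := Polynomial C) Polynomial.C) := by
  rw [chartP, Category.assoc, affIso_inv_snd, ← Spec.map_comp]
  congr 1
  ext c
  simp [toPoly, qZ]

theorem chartP_fst : chartP C str ≫ (fst (Magnet.AMonS S NN) (Over.mk str)).left ≫ pullback.fst _ _ =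
    Spec.map (CommRingCat.ofHom (R := MA.{u} NN) (S := Polynomial C)
      (monRingHom C)) := by
  have h := affIso_inv_pA C str NN
  rw [pA] at h
  rw [chartP, Category.assoc, h, ← Spec.map_comp]
  congr 1
  apply CommRingCat.hom_ext
  apply MonoidAlgebra.ringHom_ext
  · intro r
    simp [toPoly, monRingHom]
  · intro m
    simp [toPoly, monRingHom]

theorem vertex_eq_chartP : (CartesianMonoidalCategory.lift (toUnit (Over.mk str) ≫ vertex NN S) (𝟙 (Over.mk str))).left =
    Spec.map (CommRingCat.ofHom (R := Polynomial C) (S := C) Polynomial.constantCoeff) ≫ chartP C str := by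
  rw [toUnit_vertex, lift_pt_left, chartP, ← Category.assoc, ← Spec.map_comp]
  congr 2
  apply CommRingCat.hom_ext
  refine RingHom.ext fun z => ?_
  change ptHom (vertexChar NN C) z = Polynomial.constantCoeff (toPoly C z)
  induction z using TensorProduct.induction_on with
  | zero => simp
  | add a b ha hb => rw [map_add, map_add, map_add, ha, hb]
  | tmul a c =>
    induction a using MonoidAlgebra.induction_linear with
    | zero => simp
    | add a b ha hb => rw [add_tmul, map_add, map_add, map_add, ha, hb]
    | single n r =>
      obtain ⟨n, rfl⟩ := Multiplicative.ofAdd.surjective n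
      rcases Nat.eq_zero_or_pos ((n : ℤ).toNat) with h0 | h0
      · have hn : n = 0 := Subtype.ext (by have := coe_toNat n; simpa [h0] using this.symm)
        subst hn
        simp [toPoly, qZ, ptHom, monChar_apply, Algebra.smul_def, vertexChar]
      · have hn : -(n : ℤ) ∉ NN := fun ⟨k, hk⟩ => by
          have := coe_toNat n
          simp at hk
          omega
        simp [toPoly, qZ, ptHom, monChar_apply, Algebra.smul_def, vertexChar_apply_nonunit NN C n hn, h0.ne']
        intro h
        omega

variable (D : Type u) [CommRing D] (q : C →+* D)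

theorem chartP_whiskerLeft : chartP D (Spec.map (CommRingCat.ofHom q) ≫ str) ≫ (Magnet.AMonS S NN ◁ chg C str D q).left =
    Spec.map (CommRingCat.ofHom (R := Polynomial C) (S := Polynomial D) (Polynomial.mapRingHom q)) ≫ chartP C str := by
  rw [chartP, chartP, Category.assoc, affIso_inv_whiskerLeft, ← Category.assoc, ← Category.assoc, ← Spec.map_comp, ← Spec.map_comp]
  congr 2
  apply CommRingCat.hom_ext
  refine RingHom.ext fun z => ?_
  change toPoly D (Algebra.TensorProduct.map (AlgHom.id Z0.{u} (MA.{u} NN)) (qZ C D q) z) = Polynomial.mapRingHom q (toPoly C z)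
  induction z using TensorProduct.induction_on with
  | zero => simp
  | add a b ha hb => rw [map_add, map_add, map_add, map_add, ha, hb]
  | tmul a c =>
    induction a using MonoidAlgebra.induction_linear with
    | zero => simp
    | add a b ha hb => rw [add_tmul, map_add, map_add, map_add, map_add, ha, hb]
    | single n r =>
      obtain ⟨n, rfl⟩ := Multiplicative.ofAdd.surjective n
      simp [toPoly, qZ, monChar_apply, Algebra.smul_def]

end

end Groth.Agent.MagnetHom
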