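import Mathlib
import Groth.Agent.MagnetHom.FormalChart

/-! Morphisms out of `𝔸¹ × Y` agreeing at all nilpotent points of `𝔸¹` agree near `0 × Y`. -/

set_option autoImplicit false
set_option backward.isDefEq.respectTransparency false
set_option backward.isDefEq.respectTransparency.types false
set_option synthInstance.maxHeartbeats 400000
set_option maxHeartbeats 1000000
universe u

open CategoryTheory CategoryTheory.Limits MonoidalCategory CartesianMonoidalCategory MonObj AlgebraicGeometry Opposite TensorProduct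

namespace Groth.Agent.MagnetHom

noncomputable section

attribute [local instance 50] algZ
attribute [local instance 10000] Algebra.toModule
attribute [-instance] AlgebraicGeometry.instGrpObjSpecAsOverSpec AlgebraicGeometry.instCommGrpObjSpecAsOverSpec

variable {S : Scheme.{u}}

theorem pt_pow {L : Type} [AddCommMonoid L] (C : Type u) [CommRing C] (str : Spec (CommRingCat.of C) ⟶ S)
    (p : Multiplicative L →* C) (k : ℕ) : pt C str p ^ k = pt C str (p ^ k) := by
  induction k with
  | zero => rw [pow_zero, pow_zero, pt_one]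
  | succ k ih => rw [pow_succ, pow_succ, pt_mul, ih]

/-- A point of `A(ℕ)` with nilpotent coordinate has absorbing powers. -/
theorem exists_pow_absorbing (C : Type u) [CommRing C] (str : Spec (CommRingCat.of C) ⟶ S) (p : Multiplicative NN →* C)
    (n : ℕ) (hp : p (Multiplicative.ofAdd oneN) ^ (n + 1) = 0) :
    ∀ m' : Over.mk str ⟶ Magnet.AMonS S NN, pt C str p ^ (n + 1) * m' = pt C str p ^ (n + 1) := by
  intro m'
  obtain ⟨q, rfl⟩ := exists_eq_pt C str m'
  rw [pt_pow, ← pt_mul]
  congr 1
  refine MonoidHom.ext fun x => ?_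
  obtain ⟨x, rfl⟩ := Multiplicative.ofAdd.surjective x
  rw [eq_nsmul x, ofAdd_nsmul]
  generalize (x : ℤ).toNat = k
  cases k with
  | zero => simp
  | succ k =>
    simp only [MonoidHom.mul_apply, MonoidHom.pow_apply, map_pow]
    rw [mul_pow, hp, zero_pow (Nat.succ_ne_zero k), zero_mul]

/-- The hypothesis: equal at all points with nilpotent first coordinate. -/
def AgreeNilp {Y X : Over S} (γ₁ γ₂ : Magnet.AMonS S NN ⊗ Y ⟶ X) : Prop :=
  ∀ (T : Over S) (m : T ⟶ Magnet.AMonS S NN) (t : T ⟶ Y),
    (∃ n : ℕ, ∀ m' : T ⟶ Magnet.AMonS S NN, m ^ (n + 1) * m' = m ^ (n + 1)) →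
      CartesianMonoidalCategory.lift m t ≫ γ₁ = CartesianMonoidalCategory.lift m t ≫ γ₂

variable {Y X : Over S} {γ₁ γ₂ : Magnet.AMonS S NN ⊗ Y ⟶ X}

theorem AgreeNilp.vertex_apply (h : AgreeNilp γ₁ γ₂) (y : Y.left) :
    γ₁.left ((CartesianMonoidalCategory.lift (toUnit Y ≫ vertex NN S) (𝟙 Y)).left y) =
      γ₂.left ((CartesianMonoidalCategory.lift (toUnit Y ≫ vertex NN S) (𝟙 Y)).left y) := by
  let K : Type u := Y.left.residueField y
  let str : Spec (CommRingCat.of K) ⟶ S := Y.left.fromSpecResidueField y ≫ Y.hom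
  let t : Over.mk str ⟶ Y := Over.homMk (Y.left.fromSpecResidueField y) rfl
  have hv := h (Over.mk str) (pt K str (vertexChar NN K)) t ⟨0, exists_pow_absorbing K str _ 0 (by
    rw [vertexChar_apply_nonunit NN K oneN (fun ⟨k, hk⟩ => by simp at hk)]
    exact pow_one _)⟩
  have e : CartesianMonoidalCategory.lift (pt K str (vertexChar NN K)) t =
      t ≫ CartesianMonoidalCategory.lift (toUnit Y ≫ vertex NN S) (𝟙 Y) := by
    rw [comp_lift, Category.comp_id, ← Category.assoc, toUnit_unique (t ≫ toUnit Y) (toUnit (Over.mk str)), toUnit_vertex]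
  rw [e, Category.assoc, Category.assoc] at hv
  have := congrArg (fun f => f.left (IsLocalRing.closedPoint K)) hv
  simp only [Over.comp_left, Scheme.Hom.comp_apply] at this
  have ht : t.left (IsLocalRing.closedPoint K) = y := Scheme.fromSpecResidueField_apply y _
  rw [ht] at this
  exact this

theorem AgreeNilp.exists_nhd (h : AgreeNilp γ₁ γ₂) (y : Y.left) :
    ∃ O : (Magnet.AMonS S NN ⊗ Y).left.Opens, (CartesianMonoidalCategory.lift (toUnit Y ≫ vertex NN S) (𝟙 Y)).left y ∈ O ∧
      O.ι ≫ γ₁.left = O.ι ≫ γ₂.left := by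
  let v := CartesianMonoidalCategory.lift (toUnit Y ≫ vertex NN S) (𝟙 Y)
  obtain ⟨_, ⟨(U : X.left.Opens), hU, rfl⟩, hyU, -⟩ := X.left.isBasis_affineOpens.exists_subset_of_mem_open
    (Set.mem_univ (γ₁.left (v.left y))) isOpen_univ
  obtain ⟨k, s, hs⟩ := Y.left.affineOpenCover.openCover.exists_eq y
  let C : Type u := Y.left.affineOpenCover.X k
  let j : Spec (CommRingCat.of C) ⟶ Y.left := Y.left.affineOpenCover.f k
  let str : Spec (CommRingCat.of C) ⟶ S := j ≫ Y.hom
  let t : Over.mk str ⟶ Y := Over.homMk j rfl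
  have hsj : j s = y := hs
  let ch : Spec (CommRingCat.of (Polynomial C)) ⟶ (Magnet.AMonS S NN ⊗ Y).left :=
    chartP C str ≫ (Magnet.AMonS S NN ◁ t).left
  have hch : IsOpenImmersion ch := by
    have hb : IsPullback (Magnet.AMonS S NN ◁ t).left
        (snd (Magnet.AMonS S NN) (Over.mk str)).left (snd (Magnet.AMonS S NN) Y).left j := by
      refine IsPullback.of_right (h₁₂ := pA NN Y) (v₁₃ := (Magnet.AMon Z0.{u} NN).hom) (h₂₂ := Y.hom ≫ specULiftZIsTerminal.from S) ?_ ?_ (isPullback_pA NN Y)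
      · rw [whiskerLeft_pA, ← Category.assoc]
        exact isPullback_pA NN (Over.mk str)
      · rw [← Over.comp_left, whiskerLeft_snd]; rfl
    have : IsOpenImmersion j := inferInstanceAs (IsOpenImmersion (Y.left.affineOpenCover.f k))
    have : IsOpenImmersion (Magnet.AMonS S NN ◁ t).left := MorphismProperty.of_isPullback hb.flip this
    infer_instance
  have hvs : ch (Spec.map (CommRingCat.ofHom (R := Polynomial C) (S := C) Polynomial.constantCoeff) s) = v.left y := by
    rw [← hsj, ← Scheme.Hom.comp_apply, ← Scheme.Hom.comp_apply]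
    congr 2
    rw [← Category.assoc, ← vertex_eq_chartP, ← Over.comp_left]
    have e : CartesianMonoidalCategory.lift (toUnit (Over.mk str) ≫ vertex NN S) (𝟙 (Over.mk str)) ≫ (Magnet.AMonS S NN ◁ t) = t ≫ v := by
      rw [lift_whiskerLeft]; simp [v, comp_lift]
    rw [e]
    rfl
  let V : (Spec (CommRingCat.of (Polynomial C))).Opens := ch ⁻¹ᵁ (γ₁.left ⁻¹ᵁ U ⊓ γ₂.left ⁻¹ᵁ U)
  have hsV : Spec.map (CommRingCat.ofHom (R := Polynomial C) (S := C) Polynomial.constantCoeff) s ∈ V := by
    change ch _ ∈ γ₁.left ⁻¹ᵁ U ⊓ γ₂.left ⁻¹ᵁ U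
    rw [hvs]
    exact ⟨hyU, by change γ₂.left (v.left y) ∈ U; rw [← h.vertex_apply]; exact hyU⟩
  obtain ⟨_, ⟨_, ⟨g₀, rfl⟩, rfl⟩, hsg, hgV⟩ := PrimeSpectrum.isBasis_basic_opens.exists_subset_of_mem_open hsV V.isOpen
  let c : C := Polynomial.constantCoeff g₀
  have hc : c ∉ (s : PrimeSpectrum C).asIdeal := hsg
  let C' : Type u := Localization.Away c
  let q : C →+* C' := algebraMap C C'
  obtain ⟨s', hs'⟩ : ∃ s' : PrimeSpectrum C', PrimeSpectrum.comap q s' = s := by
    have : (s : PrimeSpectrum C) ∈ Set.range (PrimeSpectrum.comap q) := by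
      rw [PrimeSpectrum.localization_away_comap_range C' c]
      exact hc
    exact this
  let g : Polynomial C' := Polynomial.mapRingHom q g₀
  have hg : IsUnit (Polynomial.constantCoeff g) := by
    change IsUnit ((g₀.map q).coeff 0)
    rw [Polynomial.coeff_map]
    exact IsLocalization.Away.algebraMap_isUnit c
  let B : Type u := Localization.Away g
  let str' := Spec.map (CommRingCat.ofHom q) ≫ str
  let a : Polynomial C →+* B := (algebraMap (Polynomial C') B).comp (Polynomial.mapRingHom q)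
  let ρ : Spec (CommRingCat.of B) ⟶ (Magnet.AMonS S NN ⊗ Y).left := Spec.map (CommRingCat.ofHom a) ≫ ch
  have hρV : ∀ x, ρ x ∈ γ₁.left ⁻¹ᵁ U ⊓ γ₂.left ⁻¹ᵁ U := by
    intro x
    refine hgV (show Spec.map (CommRingCat.ofHom a) x ∈ PrimeSpectrum.basicOpen g₀ from ?_)
    change a g₀ ∉ x.asIdeal
    exact fun hx => x.isPrime.ne_top (Ideal.eq_top_of_isUnit_mem _ hx (IsLocalization.Away.algebraMap_isUnit g))
  have hρ : IsOpenImmersion ρ := by
    have h₁ : IsOpenImmersion (Spec.map (CommRingCat.ofHom (algebraMap (Polynomial C') B))) :=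
      IsOpenImmersion.of_isLocalization g
    have h₂ : IsOpenImmersion (Spec.map (CommRingCat.ofHom (Polynomial.mapRingHom q))) := by
      letI := (Polynomial.mapRingHom q).toAlgebra
      have hM : (Submonoid.powers c).map Polynomial.C = Submonoid.powers (Polynomial.C c) := Submonoid.map_powers _ _
      haveI : IsLocalization.Away (Polynomial.C c) (Polynomial C') := by
        have := Polynomial.isLocalization (Submonoid.powers c) C'
        rwa [hM] at this
      exact IsOpenImmersion.of_isLocalization (Polynomial.C c)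
    have : Spec.map (CommRingCat.ofHom a) = Spec.map (CommRingCat.ofHom (algebraMap (Polynomial C') B)) ≫
        Spec.map (CommRingCat.ofHom (Polynomial.mapRingHom q)) := by rw [← Spec.map_comp]; rfl
    dsimp only [ρ]
    rw [this]
    infer_instance
  have hr₁ : Set.range (ρ ≫ γ₁.left) ⊆ Set.range U.ι := by
    rintro _ ⟨x, rfl⟩; rw [Scheme.Opens.range_ι, Scheme.Hom.comp_apply]; exact (hρV x).1
  have hr₂ : Set.range (ρ ≫ γ₂.left) ⊆ Set.range U.ι := by
    rintro _ ⟨x, rfl⟩; rw [Scheme.Opens.range_ι, Scheme.Hom.comp_apply]; exact (hρV x).2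
  haveI : IsAffine U.toScheme := hU
  let l₁ : Spec (CommRingCat.of B) ⟶ U.toScheme := IsOpenImmersion.lift U.ι (ρ ≫ γ₁.left) hr₁
  let l₂ : Spec (CommRingCat.of B) ⟶ U.toScheme := IsOpenImmersion.lift U.ι (ρ ≫ γ₂.left) hr₂
  have key : ∀ n : ℕ, ∀ (D : Type u) [CommRing D] (π : B →+* D), π (algebraMap (Polynomial C') B Polynomial.X) ^ (n + 1) = 0 →
      Spec.map (CommRingCat.ofHom π) ≫ ρ ≫ γ₁.left = Spec.map (CommRingCat.ofHom π) ≫ ρ ≫ γ₂.left := by
    intro n D _ π hπ
    let β : Polynomial C' →+* D := π.comp (algebraMap (Polynomial C') B)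
    let strD : Spec (CommRingCat.of D) ⟶ S := Spec.map (CommRingCat.ofHom (β.comp Polynomial.C)) ≫ str'
    let σ : Over.mk strD ⟶ Magnet.AMonS S NN ⊗ Over.mk str' :=
      Over.homMk (Spec.map (CommRingCat.ofHom β) ≫ chartP C' str') (by
        change (Spec.map (CommRingCat.ofHom β) ≫ chartP C' str') ≫ (Magnet.AMonS S NN ⊗ Over.mk str').hom = strD
        rw [← Over.w (snd (Magnet.AMonS S NN) (Over.mk str')), Category.assoc, ← Category.assoc (chartP C' str'), chartP_snd,
          ← Category.assoc, ← Spec.map_comp]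
        rfl)
    obtain ⟨p, hp⟩ := exists_eq_pt D strD (σ ≫ fst _ _)
    have hpX : p (Multiplicative.ofAdd oneN) = β Polynomial.X := by
      have e := congrArg (fun f : Over.mk strD ⟶ Magnet.AMonS S NN => f.left ≫ pullback.fst _ _) hp
      simp only [pt_left_fst, Over.comp_left] at e
      change ((Spec.map (CommRingCat.ofHom β) ≫ chartP C' str') ≫ _) ≫ _ = _ at e
      rw [Category.assoc, Category.assoc, chartP_fst, ← Spec.map_comp, Spec.map_inj] at e
      have e' := congrArg (fun f => f.hom (MonoidAlgebra.single (Multiplicative.ofAdd oneN) (1 : Z0.{u}))) e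
      simp only [CommRingCat.hom_comp, CommRingCat.hom_ofHom, RingHom.comp_apply, monRingHom_single] at e'
      simpa using e'.symm
    let t' : Over.mk str' ⟶ Y := chg C str C' q ≫ t
    have hh := h (Over.mk strD) (pt D strD p) (σ ≫ snd _ _ ≫ t')
      ⟨n, exists_pow_absorbing D strD p n (by rw [hpX]; exact hπ)⟩
    have hσ : CartesianMonoidalCategory.lift (pt D strD p) (σ ≫ snd _ _ ≫ t') = σ ≫ (Magnet.AMonS S NN ◁ t') := by
      rw [← hp]
      ext <;> simp
    rw [hσ] at hh
    have hl := congrArg CommaMorphism.left hh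
    simp only [Over.comp_left] at hl
    have e2 : Spec.map (CommRingCat.ofHom π) ≫ ρ =
        (Spec.map (CommRingCat.ofHom β) ≫ chartP C' str') ≫ (Magnet.AMonS S NN ◁ t').left := by
      simp only [ρ, ch, t', MonoidalCategory.whiskerLeft_comp, Over.comp_left, Category.assoc]
      have e3 := chartP_whiskerLeft C str C' q
      rw [← Category.assoc (chartP C' str'), e3, Category.assoc]
      simp only [← Category.assoc, ← Spec.map_comp]
      rfl
    rw [reassoc_of% e2, reassoc_of% e2]
    simp only [σ, Over.homMk_left, Category.assoc] at hl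
    exact hl
  have hl : l₁ = l₂ := by
    rw [← cancel_mono U.toScheme.isoSpec.hom]
    obtain ⟨φ₁, h₁⟩ : ∃ φ, Spec.map φ = l₁ ≫ U.toScheme.isoSpec.hom := ⟨_, Spec.map_preimage _⟩
    obtain ⟨φ₂, h₂⟩ : ∃ φ, Spec.map φ = l₂ ≫ U.toScheme.isoSpec.hom := ⟨_, Spec.map_preimage _⟩
    rw [← h₁, ← h₂]
    congr 1
    refine CommRingCat.hom_ext (RingHom.ext fun r => sub_eq_zero.mp (eq_zero_of_localization C' g hg (B := B) _ fun e => ?_))
    let I : Ideal B := Ideal.span {algebraMap (Polynomial C') B Polynomial.X} ^ (e + 1)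
    have hmem : φ₁ r - φ₂ r ∈ I := by
      rw [← Ideal.Quotient.eq]
      have hk := key e (B ⧸ I) (Ideal.Quotient.mk I) (by
        rw [← map_pow]
        exact Ideal.Quotient.eq_zero_iff_mem.mpr (Ideal.pow_mem_pow (Ideal.mem_span_singleton_self _) _))
      rw [← IsOpenImmersion.lift_fac U.ι _ hr₁, ← IsOpenImmersion.lift_fac U.ι _ hr₂, ← Category.assoc, ← Category.assoc,
        cancel_mono] at hk
      have hk' := congrArg (· ≫ U.toScheme.isoSpec.hom) hk
      simp only [Category.assoc] at hk'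
      rw [← h₁, ← h₂, ← Spec.map_comp, ← Spec.map_comp, Spec.map_inj] at hk'
      exact congr($hk' r)
    simp only [I, Ideal.span_singleton_pow, Ideal.mem_span_singleton] at hmem
    exact (pow_dvd_pow _ (Nat.le_succ e)).trans (Ideal.mem_span_singleton.mp hmem)
  refine ⟨ρ.opensRange, ?_, ?_⟩
  · have hmem : Spec.map (CommRingCat.ofHom (R := Polynomial C') (S := C') Polynomial.constantCoeff) s' ∈
        Set.range (PrimeSpectrum.comap (algebraMap (Polynomial C') B)) := by
      rw [PrimeSpectrum.localization_away_comap_range B g]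
      change Polynomial.constantCoeff g ∉ s'.asIdeal
      exact fun hx => s'.isPrime.ne_top (Ideal.eq_top_of_isUnit_mem _ hx hg)
    obtain ⟨b, hb⟩ := hmem
    refine ⟨b, ?_⟩
    rw [← hvs]
    change ch (PrimeSpectrum.comap a b) = _
    congr 1
    change PrimeSpectrum.comap (Polynomial.mapRingHom q) (PrimeSpectrum.comap (algebraMap (Polynomial C') B) b) = _
    rw [hb, ← hs']
    change PrimeSpectrum.comap (Polynomial.mapRingHom q) (PrimeSpectrum.comap Polynomial.constantCoeff s') =
      PrimeSpectrum.comap Polynomial.constantCoeff (PrimeSpectrum.comap q s')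
    rw [← PrimeSpectrum.comap_comp_apply, ← PrimeSpectrum.comap_comp_apply]
    refine congrArg (fun f => PrimeSpectrum.comap f s') ?_
    ext <;> simp
  · rw [← cancel_epi ρ.isoOpensRange.hom, Scheme.Hom.isoOpensRange_hom_ι_assoc, Scheme.Hom.isoOpensRange_hom_ι_assoc]
    rw [← IsOpenImmersion.lift_fac U.ι _ hr₁, ← IsOpenImmersion.lift_fac U.ι _ hr₂]
    exact congrArg (· ≫ U.ι) hl

end

end Groth.Agent.MagnetHom
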