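import Mathlib
import Groth.Agent.MagnetHom.Formal

/-! Equivariant morphisms out of `𝔸¹ × Y` are determined near the vertex. -/

set_option autoImplicit false
set_option backward.isDefEq.respectTransparency false
set_option backward.isDefEq.respectTransparency.types false
set_option synthInstance.maxHeartbeats 400000
set_option maxHeartbeats 1000000
universe u

open CategoryTheory CategoryTheory.Limits MonoidalCategory CartesianMonoidalCategory MonObj AlgebraicGeometry Opposite TensorProduct

namespace Groth.Agent.MagnetHom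

noncomputable section

attribute [local instance 50] algZ
attribute [local instance 10000] Algebra.toModule
attribute [-instance] AlgebraicGeometry.instGrpObjSpecAsOverSpec AlgebraicGeometry.instCommGrpObjSpecAsOverSpec

variable {S : Scheme.{u}} {M : Type} [AddCommGroup M] (N : AddSubmonoid M)

theorem flat_AMonS (S : Scheme.{u}) (M : Type) [AddCommMonoid M] : Flat (Magnet.AMonS S M).hom := by
  have h : Flat (Magnet.AMon Z0.{u} M).hom := by
    change Flat (Spec.map (CommRingCat.ofHom (algebraMap Z0.{u} (MA.{u} M))))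
    rw [HasRingHomProperty.Spec_iff (P := @Flat), CommRingCat.hom_ofHom]
    exact RingHom.flat_algebraMap_iff.mpr inferInstance
  change Flat (pullback.snd _ _)
  exact MorphismProperty.pullback_snd _ _ h

theorem pt_inv_mul (C : Type u) [CommRing C] (str : Spec (CommRingCat.of C) ⟶ S) (uc : Multiplicative M →* C) :
    ∃ g : Over.mk str ⟶ Magnet.AMonS S M, g * pt C str uc = 1 := by
  refine ⟨pt C str (uc.comp (MonoidHom.mk' (fun m : Multiplicative M => Multiplicative.ofAdd (-m.toAdd))
      (fun a b => by rw [toAdd_mul, neg_add, ofAdd_add]))), ?_⟩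
  rw [← pt_mul, ← pt_one]
  congr 1
  ext m
  simp [← map_mul]

/-- The action on `A(N) × Y` through the first factor. -/
abbrev actNY (Y : Over S) : Magnet.MonAct (Magnet.AMonS S M) (Magnet.AMonS S N ⊗ Y) :=
  (Magnet.subAct S M N).prod (Magnet.MonAct.trivial _ Y)

/-- Translates of an open containing all vertices cover `A(N) × Y`. -/
theorem surjective_sat {Y : Over S} (D : (Magnet.AMonS S N ⊗ Y).left.Opens)
    (hD : ∀ y, (CartesianMonoidalCategory.lift (toUnit Y ≫ vertex N S) (𝟙 Y)).left y ∈ D) :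
    Surjective (pullback.fst (actNY N Y).act.left D.ι ≫ (snd (Magnet.AMonS S M) (Magnet.AMonS S N ⊗ Y)).left) := by
  refine ⟨fun x => ?_⟩
  let P := Magnet.AMonS S N ⊗ Y
  obtain ⟨K, _, e₀, s₀, hs₀⟩ : ∃ (K : Type u) (_ : CommRing K) (e₀ : Spec (CommRingCat.of K) ⟶ P.left)
      (s₀ : Spec (CommRingCat.of K)), ∀ s, e₀ s = x :=
    ⟨P.left.residueField x, inferInstance, P.left.fromSpecResidueField x,
      IsLocalRing.closedPoint _, fun s => Scheme.fromSpecResidueField_apply x s⟩
  let str : Spec (CommRingCat.of K) ⟶ S := e₀ ≫ P.hom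
  let q₀ : Over.mk str ⟶ P := Over.homMk e₀ rfl
  obtain ⟨p, hp⟩ := exists_eq_pt K str (q₀ ≫ fst (Magnet.AMonS S N) Y)
  let E : Type u := MA.{u} M ⊗[Z0.{u}] K
  obtain ⟨E, _, uc, i, hk⟩ : ∃ (E : Type u) (_ : CommRing E) (uc : Multiplicative M →* E) (i : K →+* E),
      ∀ z, orbHom N K p E uc i z = 0 → ptHom (vertexChar N K) z = 0 :=
    ⟨MA.{u} M ⊗[Z0.{u}] K, inferInstance, _, _,
      ker_orbHom_le N K p (MA.{u} M ⊗[Z0.{u}] K) _ _ (orbRetr N K p).toAddMonoidHom (orbRetr_spec N K p)⟩
  let strE := Spec.map (CommRingCat.ofHom i) ≫ str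
  let t₀ : Over.mk str ⟶ Y := q₀ ≫ snd _ _
  let o := orb N K p E uc i str ≫ (Magnet.AMonS S N ◁ t₀)
  let pr : Over.mk strE ⟶ Magnet.AMonS S M ⊗ P :=
    CartesianMonoidalCategory.lift (pt E strE uc) (chg K str E i ≫ q₀)
  have hpr : pr ≫ (actNY N Y).act = o := by
    rw [← cancel_mono (𝟙 _), Category.comp_id, Category.comp_id]
    change CartesianMonoidalCategory.lift (pt E strE uc) (chg K str E i ≫ q₀) ≫ (actNY N Y).act = o
    rw [show q₀ = CartesianMonoidalCategory.lift (pt K str p) t₀ from by rw [← hp]; exact (lift_comp_fst_snd q₀).symm,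
      comp_lift, Magnet.MonAct.lift_prod_act, Magnet.MonAct.lift_trivial_act, chg_pt]
    change CartesianMonoidalCategory.lift (CartesianMonoidalCategory.lift _ _ ≫ ((Magnet.MonAct.regular _).restrict (Magnet.AMonS.map S N.subtype)).act) _ = _
    rw [Magnet.MonAct.lift_restrict_act, Magnet.MonAct.lift_regular_act, pt_map, ← pt_mul]
    simp only [o, orb, orbChar, lift_whiskerLeft]
    rfl
  obtain ⟨w, hw⟩ : ∃ w, o.left w ∈ D := by
    by_contra hall
    push Not at hall
    have hsub : closure (Set.range (orb N K p E uc i str).left) ⊆ ((Magnet.AMonS S N ◁ t₀)).left ⁻¹' (D : Set P.left)ᶜ :=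
      closure_minimal (by rintro _ ⟨w, rfl⟩; exact hall w)
        (D.isOpen.isClosed_compl.preimage (Scheme.Hom.continuous _))
    have hv := hsub (vertex_mem_closure N K p E uc i str hk s₀)
    have e : t₀ ≫ CartesianMonoidalCategory.lift (toUnit Y ≫ vertex N S) (𝟙 Y) =
        CartesianMonoidalCategory.lift (toUnit (Over.mk str) ≫ vertex N S) (𝟙 (Over.mk str)) ≫ (Magnet.AMonS S N ◁ t₀) := by
      simp [comp_lift, lift_whiskerLeft]
    refine hv ?_
    rw [← Scheme.Hom.comp_apply, ← Over.comp_left, ← e, Over.comp_left, Scheme.Hom.comp_apply]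
    exact hD _
  obtain ⟨z, hz⟩ : pr.left w ∈ Set.range (pullback.fst (actNY N Y).act.left D.ι) := by
    rw [Scheme.Pullback.range_fst, Set.mem_preimage, Scheme.Opens.range_ι, ← Scheme.Hom.comp_apply, ← Over.comp_left, hpr]
    exact hw
  refine ⟨z, ?_⟩
  rw [Scheme.Hom.comp_apply, hz, ← Scheme.Hom.comp_apply, ← Over.comp_left]
  simp only [pr, lift_snd, Over.comp_left, Scheme.Hom.comp_apply]
  exact hs₀ _

/-- Two equivariant families agreeing on an open containing all vertices are equal. -/
theorem eq_of_agree_on_open {G Y X : Over S} [GrpObj G] (ρ : Magnet.MonAct G Y) (a : Magnet.MonAct G X)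
    (γ₁ γ₂ : Y ⟶ X) (h₁ : Magnet.MonAct.IsEquivariant ρ a γ₁) (h₂ : Magnet.MonAct.IsEquivariant ρ a γ₂)
    (D : Y.left.Opens) (hD : D.ι ≫ γ₁.left = D.ι ≫ γ₂.left) [Flat G.hom]
    [Surjective (pullback.fst ρ.act.left D.ι ≫ (snd G Y).left)] : γ₁ = γ₂ := by
  let P : Over S := Over.mk (pullback.fst ρ.act.left D.ι ≫ (G ⊗ Y).hom)
  let jP : P ⟶ G ⊗ Y := Over.homMk (pullback.fst _ _) rfl
  have hz : (jP ≫ snd G Y) ≫ γ₁ = (jP ≫ snd G Y) ≫ γ₂ := by
    have key : jP ≫ ρ.act ≫ γ₁ = jP ≫ ρ.act ≫ γ₂ := by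
      ext1
      simp only [Over.comp_left, jP, Over.homMk_left, ← Category.assoc]
      rw [pullback.condition]
      simp only [Category.assoc, hD]
    rw [Magnet.MonAct.isEquivariant_iff] at h₁ h₂
    rw [← lift_comp_fst_snd jP, h₁, h₂] at key
    have := congrArg (fun e => CartesianMonoidalCategory.lift (jP ≫ fst G Y)⁻¹ e ≫ a.act) key
    simp only [← a.lift_mul_act, inv_mul_cancel, a.lift_one_act] at this
    exact this
  have h := congrArg CommaMorphism.left hz
  simp only [Over.comp_left, jP, Over.homMk_left] at h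
  have : Flat (pullback.fst ρ.act.left D.ι ≫ (snd G Y).left) := by
    have : Flat (snd G Y).left := MorphismProperty.pullback_snd G.hom Y.hom inferInstance
    infer_instance
  have : Epi (pullback.fst ρ.act.left D.ι ≫ (snd G Y).left) := Flat.epi_of_flat_of_surjective _
  ext1
  rw [← cancel_epi (pullback.fst ρ.act.left D.ι ≫ (snd G Y).left)]
  exact h

end

end Groth.Agent.MagnetHom
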