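import Mathlib
import Groth.Prelude.Def_Magnet4
import Groth.Agent.MagnetHom.Units
import Groth.Agent.MagnetHom.PushAff
import Groth.Agent.S18294

/-! The push-out of monoid schemes along a face, over any scheme. -/

set_option autoImplicit false
set_option backward.isDefEq.respectTransparency false
set_option backward.isDefEq.respectTransparency.types false
set_option synthInstance.maxHeartbeats 400000
universe u

open CategoryTheory CategoryTheory.Limits MonoidalCategory CartesianMonoidalCategory MonObj AlgebraicGeometry Opposite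

namespace Groth.Agent.MagnetHom

section Sheaf

variable {S : Scheme.{u}}

/-- Morphisms out of `B × T` form a Zariski sheaf in `T`. -/
theorem exists_glue (B X : Over S) {T : Over S} (R : Sieve T) (hR : R ∈ Scheme.zariskiTopology.over S T)
    (m : ∀ ⦃T' : Over S⦄ (t : T' ⟶ T), R t → (B ⊗ T' ⟶ X))
    (hm : ∀ ⦃T' T'' : Over S⦄ (t : T' ⟶ T) (s : T'' ⟶ T') (h : R t) (h' : R (s ≫ t)), (B ◁ s) ≫ m t h = m (s ≫ t) h') :
    ∃ l : B ⊗ T ⟶ X, (∀ ⦃T' : Over S⦄ (t : T' ⟶ T) (h : R t), (B ◁ t) ≫ l = m t h) ∧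
      ∀ l' : B ⊗ T ⟶ X, (∀ ⦃T' : Over S⦄ (t : T' ⟶ T) (h : R t), (B ◁ t) ≫ l' = m t h) → l' = l := by
  let ρ : Magnet.MonAct (𝟙_ (Over S)) B := Magnet.MonAct.trivial _ _
  let a : Magnet.MonAct (𝟙_ (Over S)) X := Magnet.MonAct.trivial _ _
  let F := Magnet.MonAct.eqvHom ρ a
  have heq : ∀ (T' : Over S) (g : B ⊗ T' ⟶ X), Magnet.MonAct.IsEquivariant (ρ.prod (Magnet.MonAct.trivial _ T')) a g := by
    intro T' g
    rw [Magnet.MonAct.mem_eqvHom_iff]
    intro W u b t
    rw [Magnet.MonAct.lift_trivial_act, Magnet.MonAct.lift_trivial_act]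
  have hF : Presieve.IsSheaf (Scheme.zariskiTopology.over S) F := by
    have hfppf := Groth.Agent.S18294.result S (𝟙_ (Over S)) B X ρ a
    rw [isSheaf_iff_isSheaf_of_type] at hfppf
    refine Presieve.isSheaf_of_le _ ?_ hfppf
    intro T R hR
    change R ∈ Scheme.fppfTopology.over _ T
    rw [GrothendieckTopology.mem_over_iff] at hR ⊢
    exact Precoverage.toGrothendieck_mono Scheme.zariskiPrecoverage_le_fppfPrecoverage _ hR
  let x : Presieve.FamilyOfElements F R.arrows := fun T' t h => ⟨m t h, heq T' _⟩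
  have hc : x.Compatible := by
    intro T₁ T₂ W g₁ g₂ f₁ f₂ h₁ h₂ e
    refine Subtype.ext ?_
    change (B ◁ g₁) ≫ m f₁ h₁ = (B ◁ g₂) ≫ m f₂ h₂
    rw [hm f₁ g₁ h₁ (R.downward_closed h₁ g₁), hm f₂ g₂ h₂ (R.downward_closed h₂ g₂)]
    congr 1
  obtain ⟨l, hl, huniq⟩ := hF R hR x hc
  refine ⟨l.1, fun T' t h => congrArg Subtype.val (hl t h), fun l' hl' => ?_⟩
  exact congrArg Subtype.val (huniq ⟨l', heq T l'⟩ fun T' t h => Subtype.ext (hl' t h))

/-- A square of schemes over `S` that is a push-out over affine test schemes is one over every test scheme. -/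
theorem isPushout_tensor {P B₁ B₂ Q : Over S} (j₁ : P ⟶ B₁) (j₂ : P ⟶ B₂) (k₁ : B₁ ⟶ Q) (k₂ : B₂ ⟶ Q)
    (w : j₁ ≫ k₁ = j₂ ≫ k₂)
    (haff : ∀ (C : Type u) [CommRing C] (str : Spec (CommRingCat.of C) ⟶ S),
      IsPushout (j₁ ▷ Over.mk str).left (j₂ ▷ Over.mk str).left (k₁ ▷ Over.mk str).left (k₂ ▷ Over.mk str).left)
    (T : Over S) : IsPushout (j₁ ▷ T) (j₂ ▷ T) (k₁ ▷ T) (k₂ ▷ T) := by
  have huniq : ∀ {X T : Over S} (l l' : Q ⊗ T ⟶ X), (k₁ ▷ T) ≫ l = (k₁ ▷ T) ≫ l' → (k₂ ▷ T) ≫ l = (k₂ ▷ T) ≫ l' → l = l' := by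
    intro X T l l' e₁ e₂
    let R : Sieve T :=
      { arrows := fun T' t => (Q ◁ t) ≫ l = (Q ◁ t) ≫ l'
        downward_closed := fun {Y Z f} h g => by rw [MonoidalCategory.whiskerLeft_comp_assoc, h, MonoidalCategory.whiskerLeft_comp_assoc] }
    have hR : R ∈ Scheme.zariskiTopology.over S T := by
      rw [GrothendieckTopology.mem_over_iff]
      refine GrothendieckTopology.superset_covering _ ?_ T.left.affineOpenCover.openCover.mem_grothendieckTopology
      rw [Sieve.generate_le_iff]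
      rintro _ _ ⟨i⟩
      refine (Sieve.overEquiv_iff R (T.left.affineOpenCover.f i)).mpr ?_
      change (Q ◁ _) ≫ l = (Q ◁ _) ≫ l'
      ext1
      refine (haff (T.left.affineOpenCover.X i) (T.left.affineOpenCover.f i ≫ T.hom)).hom_ext ?_ ?_
      · rw [← Over.comp_left, ← Over.comp_left, ← whisker_exchange_assoc, e₁, whisker_exchange_assoc]
      · rw [← Over.comp_left, ← Over.comp_left, ← whisker_exchange_assoc, e₂, whisker_exchange_assoc]
    obtain ⟨l₀, -, h₀⟩ := exists_glue Q X R hR (fun T' t _ => (Q ◁ t) ≫ l)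
      (fun T' T'' t s _ _ => (MonoidalCategory.whiskerLeft_comp_assoc _ _ _ _).symm)
    rw [h₀ l (fun T' t _ => rfl), h₀ l' (fun T' t h => (h : (Q ◁ t) ≫ l = (Q ◁ t) ≫ l').symm)]
  have hsq : ∀ T : Over S, (j₁ ▷ T) ≫ (k₁ ▷ T) = (j₂ ▷ T) ≫ (k₂ ▷ T) := fun T => by
    rw [← comp_whiskerRight, ← comp_whiskerRight, w]
  have hex : ∀ {X : Over S} (u : B₁ ⊗ T ⟶ X) (v : B₂ ⊗ T ⟶ X), (j₁ ▷ T) ≫ u = (j₂ ▷ T) ≫ v →
      ∃ l : Q ⊗ T ⟶ X, (k₁ ▷ T) ≫ l = u ∧ (k₂ ▷ T) ≫ l = v := by
    intro X u v e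
    let R : Sieve T :=
      { arrows := fun T' t => ∃ l : Q ⊗ T' ⟶ X, (k₁ ▷ T') ≫ l = (B₁ ◁ t) ≫ u ∧ (k₂ ▷ T') ≫ l = (B₂ ◁ t) ≫ v
        downward_closed := fun {Y Z f} ⟨l, h₁, h₂⟩ g => ⟨(Q ◁ g) ≫ l,
          by rw [← whisker_exchange_assoc, h₁, MonoidalCategory.whiskerLeft_comp_assoc],
          by rw [← whisker_exchange_assoc, h₂, MonoidalCategory.whiskerLeft_comp_assoc]⟩ }
    have hR : R ∈ Scheme.zariskiTopology.over S T := by
      rw [GrothendieckTopology.mem_over_iff]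
      refine GrothendieckTopology.superset_covering _ ?_ T.left.affineOpenCover.openCover.mem_grothendieckTopology
      rw [Sieve.generate_le_iff]
      rintro _ _ ⟨i⟩
      refine (Sieve.overEquiv_iff R (T.left.affineOpenCover.f i)).mpr ?_
      let t : Over.mk (T.left.affineOpenCover.f i ≫ T.hom) ⟶ T := Over.homMk (T.left.affineOpenCover.f i)
      have h := haff (T.left.affineOpenCover.X i) (T.left.affineOpenCover.f i ≫ T.hom)
      have hc : (j₁ ▷ _).left ≫ ((B₁ ◁ t) ≫ u).left = (j₂ ▷ _).left ≫ ((B₂ ◁ t) ≫ v).left := by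
        rw [← Over.comp_left, ← Over.comp_left, ← whisker_exchange_assoc, e, whisker_exchange_assoc]
      let l₀ := h.desc _ _ hc
      have hw : l₀ ≫ X.hom = (Q ⊗ Over.mk (T.left.affineOpenCover.f i ≫ T.hom)).hom := by
        refine h.hom_ext ?_ ?_
        · rw [IsPushout.inl_desc_assoc, Over.w, Over.w]
        · rw [IsPushout.inr_desc_assoc, Over.w, Over.w]
      exact ⟨Over.homMk l₀ hw, Over.OverMorphism.ext (h.inl_desc _ _ hc), Over.OverMorphism.ext (h.inr_desc _ _ hc)⟩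
    obtain ⟨l, hl, -⟩ := exists_glue Q X R hR (fun T' t h => h.choose) (fun T' T'' t s h h' =>
      huniq _ _ (by rw [← whisker_exchange_assoc, h.choose_spec.1, h'.choose_spec.1, MonoidalCategory.whiskerLeft_comp_assoc])
        (by rw [← whisker_exchange_assoc, h.choose_spec.2, h'.choose_spec.2, MonoidalCategory.whiskerLeft_comp_assoc]))
    have hx : ∀ {B : Over S} (g h : B ⊗ T ⟶ X), (∀ ⦃T' : Over S⦄ (t : T' ⟶ T), R t → (B ◁ t) ≫ g = (B ◁ t) ≫ h) → g = h := by
      intro B g h hgh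
      obtain ⟨l₀, -, h₀⟩ := exists_glue B X R hR (fun T' t _ => (B ◁ t) ≫ g)
        (fun T' T'' t s _ _ => (MonoidalCategory.whiskerLeft_comp_assoc _ _ _ _).symm)
      rw [h₀ g (fun T' t _ => rfl), h₀ h (fun T' t ht => (hgh t ht).symm)]
    refine ⟨l, hx _ _ fun T' t ht => ?_, hx _ _ fun T' t ht => ?_⟩
    · rw [whisker_exchange_assoc, hl t ht, ht.choose_spec.1]
    · rw [whisker_exchange_assoc, hl t ht, ht.choose_spec.2]
  refine ⟨⟨hsq T⟩, ⟨PushoutCocone.isColimitAux' _ fun s => ?_⟩⟩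
  exact ⟨(hex s.inl s.inr s.condition).choose, (hex s.inl s.inr s.condition).choose_spec.1,
    (hex s.inl s.inr s.condition).choose_spec.2,
    fun {m} h₁ h₂ => huniq _ _ (h₁.trans (hex s.inl s.inr s.condition).choose_spec.1.symm)
      (h₂.trans (hex s.inl s.inr s.condition).choose_spec.2.symm)⟩

end Sheaf

variable {S : Scheme.{u}} {M : Type} [AddCommMonoid M] {N N' L L' : AddSubmonoid M}

theorem isPushout_face (hNL : N ≤ L) (hN'L' : N' ≤ L') (hL : Magnet.IsFace L' L) (hN : Magnet.IsFace N' N)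
    (hdiff : (N' : Set M) = (L' : Set M) \ ((L : Set M) \ (N : Set M))) (T : Over S) :
    IsPushout (Magnet.AMonS.faceMap S hL ▷ T) (Magnet.AMonS.map S (AddSubmonoid.inclusion hNL) ▷ T)
      (Magnet.AMonS.map S (AddSubmonoid.inclusion hN'L') ▷ T) (Magnet.AMonS.faceMap S hN ▷ T) := by
  refine isPushout_tensor _ _ _ _ ?_ (fun C _ str => ?_) T
  · ext1
    have h : ∀ (C : Type u) [CommRing C] (str : Spec (CommRingCat.of C) ⟶ S),
        (Magnet.AMonS.faceMap S hL ▷ Over.mk str).left ≫ (Magnet.AMonS.map S (AddSubmonoid.inclusion hN'L') ▷ Over.mk str).left =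
          (Magnet.AMonS.map S (AddSubmonoid.inclusion hNL) ▷ Over.mk str).left ≫ (Magnet.AMonS.faceMap S hN ▷ Over.mk str).left := by
      intro C _ str
      obtain ⟨D, hf, hs, hp, hq⟩ := exists_cart C hNL hN'L' hL hN hdiff
      rw [← cancel_epi (gaff C str L).hom, gaff_faceMap_assoc, gaff_whiskerRight, gaff_whiskerRight_assoc, gaff_faceMap,
        ← Spec.map_comp_assoc, ← Spec.map_comp_assoc, ← CommRingCat.ofHom_comp, ← CommRingCat.ofHom_comp]
      congr 3
      exact RingHom.ext fun c => by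
        have := (D.w c).symm
        rw [hf, hs, hp, hq] at this
        exact this
    let A := Magnet.AMonS S L
    refine Scheme.Cover.hom_ext A.left.affineOpenCover.openCover _ _ fun i => ?_
    let t : Over.mk (A.left.affineOpenCover.f i ≫ A.hom) ⟶ A := Over.homMk (A.left.affineOpenCover.f i)
    have e := congrArg (fun k => (lift t (𝟙 _)).left ≫ k ≫ (fst (Magnet.AMonS S N') _).left)
      (h (A.left.affineOpenCover.X i) (A.left.affineOpenCover.f i ≫ A.hom))
    simp only [← Over.comp_left, Category.assoc, whiskerRight_fst, whiskerRight_fst_assoc, lift_fst_assoc] at e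
    rw [← Category.assoc (lift t _), ← Category.assoc (lift t _) (fst _ _)] at e
    rw [show lift t (𝟙 _) ≫ fst (Magnet.AMonS S L) (Over.mk (A.left.affineOpenCover.f i ≫ A.hom)) = t from lift_fst _ _] at e
    exact e
  · obtain ⟨D, hf, hs, hp, hq⟩ := exists_cart C hNL hN'L' hL hN hdiff
    have h := D.isPushout_Spec
    simp only [FerrandPush.Cart.iA', FerrandPush.Cart.iB, hf, hs, hp, hq] at h
    exact h.of_iso (gaff C str L) (gaff C str L') (gaff C str N) (gaff C str N')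
      (gaff_faceMap C str hL).symm (gaff_whiskerRight C str _).symm (gaff_whiskerRight C str _).symm (gaff_faceMap C str hN).symm

theorem isPushout_face_self (hNL : N ≤ L) (hN'L' : N' ≤ L') (hL : Magnet.IsFace L' L) (hN : Magnet.IsFace N' N)
    (hdiff : (N' : Set M) = (L' : Set M) \ ((L : Set M) \ (N : Set M))) :
    IsPushout (Magnet.AMonS.faceMap S hL) (Magnet.AMonS.map S (AddSubmonoid.inclusion hNL))
      (Magnet.AMonS.map S (AddSubmonoid.inclusion hN'L')) (Magnet.AMonS.faceMap S hN) :=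
  (isPushout_face hNL hN'L' hL hN hdiff (𝟙_ (Over S))).of_iso (ρ_ _) (ρ_ _) (ρ_ _) (ρ_ _)
    (rightUnitor_naturality _) (rightUnitor_naturality _) (rightUnitor_naturality _) (rightUnitor_naturality _)

end Groth.Agent.MagnetHom
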