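import Mathlib
import Groth.Prelude.Def_Magnet4
import Groth.Agent.MagnetHom.PushGlue

/-! Equivariant maps out of a push-out. -/

set_option autoImplicit false
set_option backward.isDefEq.respectTransparency false
set_option backward.isDefEq.respectTransparency.types false
universe u

open CategoryTheory CategoryTheory.Limits MonoidalCategory CartesianMonoidalCategory MonObj AlgebraicGeometry Opposite

namespace Groth.Agent.MagnetHom

variable {S : Scheme.{u}} {A P B₁ B₂ Q X : Over S} [MonObj A]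
  (ρ₁ : Magnet.MonAct A B₁) (ρ₂ : Magnet.MonAct A B₂) (ρ : Magnet.MonAct A Q) (a : Magnet.MonAct A X)

theorem exists_eqv_desc {j₁ : P ⟶ B₁} {j₂ : P ⟶ B₂} {k₁ : B₁ ⟶ Q} {k₂ : B₂ ⟶ Q}
    (hk₁ : Magnet.MonAct.IsEquivariant ρ₁ ρ k₁) (hk₂ : Magnet.MonAct.IsEquivariant ρ₂ ρ k₂)
    (hpo : ∀ T : Over S, IsPushout (j₁ ▷ T) (j₂ ▷ T) (k₁ ▷ T) (k₂ ▷ T)) {T : Over S}
    (u : (Magnet.MonAct.eqvHom ρ₁ a).obj (op T)) (v : (Magnet.MonAct.eqvHom ρ₂ a).obj (op T))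
    (h : (j₁ ▷ T) ≫ u.1 = (j₂ ▷ T) ≫ v.1) :
    ∃ m : (Magnet.MonAct.eqvHom ρ a).obj (op T), (k₁ ▷ T) ≫ m.1 = u.1 ∧ (k₂ ▷ T) ≫ m.1 = v.1 := by
  obtain ⟨m, h₁, h₂⟩ : ∃ m : Q ⊗ T ⟶ X, (k₁ ▷ T) ≫ m = u.1 ∧ (k₂ ▷ T) ≫ m = v.1 :=
    ⟨(hpo T).desc _ _ h, (hpo T).inl_desc _ _ h, (hpo T).inr_desc _ _ h⟩
  let W := A ⊗ T
  let σ : Q ⊗ W ⟶ A ⊗ (Q ⊗ T) := lift (snd Q W ≫ fst A T) (lift (fst Q W) (snd Q W ≫ snd A T))
  have hσ : ∀ {T' : Over S} (b : T' ⟶ Q) (g : T' ⟶ A) (t : T' ⟶ T), lift b (lift g t : T' ⟶ W) ≫ σ = lift g (lift b t) :=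
    fun b g t => by simp [σ, W, comp_lift]
  have side : ∀ {B : Over S} (ρ' : Magnet.MonAct A B) (k : B ⟶ Q) (hk : Magnet.MonAct.IsEquivariant ρ' ρ k)
      (w : (Magnet.MonAct.eqvHom ρ' a).obj (op T)), (k ▷ T) ≫ m = w.1 →
      (k ▷ W) ≫ σ ≫ (ρ.prod (Magnet.MonAct.trivial A T)).act ≫ m = (k ▷ W) ≫ σ ≫ (A ◁ m) ≫ a.act := by
    intro B ρ' k hk w hw
    refine Magnet.hom_ext_lift₂ fun T' b z => ?_
    rw [← lift_comp_fst_snd z]
    generalize z ≫ fst A T = g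
    generalize z ≫ snd A T = t
    have hp : ∀ b : T' ⟶ B, lift (b ≫ k) t ≫ m = lift b t ≫ w.1 := fun b => by rw [← hw, lift_whiskerRight_assoc]
    rw [lift_whiskerRight_assoc, lift_whiskerRight_assoc, reassoc_of% hσ, reassoc_of% hσ,
      Magnet.MonAct.lift_prod_act_assoc, Magnet.MonAct.lift_trivial_act, lift_whiskerLeft_assoc]
    rw [Magnet.MonAct.isEquivariant_iff] at hk
    rw [← hk T' g b, hp, ← Category.assoc, hp]
    exact (Magnet.MonAct.mem_eqvHom_iff _).mp w.2 T' g b t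
  have hmem : Magnet.MonAct.IsEquivariant (ρ.prod (Magnet.MonAct.trivial A T)) a m := by
    have e := (hpo W).hom_ext (side ρ₁ k₁ hk₁ u h₁) (side ρ₂ k₂ hk₂ v h₂)
    rw [Magnet.MonAct.mem_eqvHom_iff]
    intro T' g b t
    have e' := congrArg (fun k => lift b (lift g t) ≫ k) e
    rw [reassoc_of% hσ, reassoc_of% hσ, Magnet.MonAct.lift_prod_act_assoc, Magnet.MonAct.lift_trivial_act,
      lift_whiskerLeft_assoc] at e'
    exact e'
  exact ⟨⟨m, hmem⟩, h₁, h₂⟩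

theorem isPullback_attr_of_pushout {M : Type} [AddCommMonoid M] {N N' L L' : AddSubmonoid M}
    (a : Magnet.MonAct (Magnet.AMonS S M) X) (hNL : N ≤ L) (hN'L' : N' ≤ L') (hL : Magnet.IsFace L' L)
    (hN : Magnet.IsFace N' N) (hdiff : (N' : Set M) = (L' : Set M) \ ((L : Set M) \ (N : Set M))) :
    IsPullback (Magnet.attrMap a hN'L') (Magnet.attrFace a hN) (Magnet.attrFace a hL) (Magnet.attrMap a hNL) := by
  refine IsPullback.of_forall_isPullback_app fun T => ?_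
  obtain ⟨T⟩ := T
  have hpo := fun T : Over S => isPushout_face (S := S) hNL hN'L' hL hN hdiff T
  rw [CategoryTheory.Limits.Types.isPullback_iff]
  refine ⟨?_, ?_, ?_⟩
  · ext φ
    refine Subtype.ext ?_
    change (Magnet.AMonS.faceMap S hL ▷ T) ≫ (Magnet.AMonS.map S (AddSubmonoid.inclusion hN'L') ▷ T) ≫ φ.1 =
      (Magnet.AMonS.map S (AddSubmonoid.inclusion hNL) ▷ T) ≫ (Magnet.AMonS.faceMap S hN ▷ T) ≫ φ.1
    exact (hpo T).w_assoc _
  · intro φ φ' h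
    exact Subtype.ext ((hpo T).hom_ext (congrArg Subtype.val h.1) (congrArg Subtype.val h.2))
  · intro ξ et h
    obtain ⟨m, h₁, h₂⟩ := exists_eqv_desc _ _ (Magnet.subAct S M N') a
      (Magnet.MonAct.isEquivariant_restrict_regular _ _ _ (by rw [← Magnet.AMonS.map_comp]; rfl))
      (Magnet.isEquivariant_faceMapS S hN) hpo ξ et (congrArg Subtype.val h)
    exact ⟨m, Subtype.ext h₁, Subtype.ext h₂⟩

end Groth.Agent.MagnetHom
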