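import Mathlib
import Groth.Prelude.Def_Magnet3
import Groth.Agent.MagnetHom.AttrChart

/-! On affine test schemes the attractor of a directed union is the union of the attractors. -/

set_option autoImplicit false
set_option backward.isDefEq.respectTransparency false
set_option backward.isDefEq.respectTransparency.types false
set_option maxHeartbeats 1000000
universe u

open CategoryTheory CategoryTheory.Limits MonoidalCategory CartesianMonoidalCategory MonObj AlgebraicGeometry Opposite

namespace Groth.Agent.MagnetHom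

noncomputable section

variable {M : Type} [AddCommMonoid M] {J : Type} [Preorder J] (N : J → AddSubmonoid M) (hN : Monotone N)
  (C : Type u) [CommRing C]

/-- `C[L] → C[L']` for `L ≤ L'`. -/
abbrev inclGA {L L' : AddSubmonoid M} (h : L ≤ L') : GA C L →+* GA C L' :=
  MonoidAlgebra.mapDomainRingHom C (AddMonoidHom.toMultiplicative (AddSubmonoid.inclusion h))

theorem inclGA_comp {L L' L'' : AddSubmonoid M} (h : L ≤ L') (h' : L' ≤ L'') :
    (inclGA C h').comp (inclGA C h) = inclGA C (h.trans h') := by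
  rw [← MonoidAlgebra.mapDomainRingHom_comp]
  rfl

theorem inclGA_injective {L L' : AddSubmonoid M} (h : L ≤ L') : Function.Injective (inclGA C h) :=
  MonoidAlgebra.mapDomain_injective fun _ _ e =>
    Multiplicative.toAdd.injective (AddSubmonoid.inclusion_injective h (congrArg Multiplicative.toAdd e))

/-- The rings `C[N j]`. -/
def unionDiag : AsSmall.{u} J ⥤ CommRingCat.{u} where
  obj j := CommRingCat.of (GA C (N (AsSmall.down.obj j)))
  map {i j} h := CommRingCat.ofHom (inclGA C (hN (leOfHom (AsSmall.down.map h))))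
  map_id j := CommRingCat.hom_ext (MonoidAlgebra.mapDomainRingHom_id)
  map_comp f g := by
    rw [← CommRingCat.ofHom_comp, inclGA_comp]

/-- The cocone with point `C[⨆ N j]`. -/
def unionCocone : Cocone (unionDiag N hN C) where
  pt := CommRingCat.of (GA C (⨆ i, N i : AddSubmonoid M))
  «ι» :=
    { app := fun j => CommRingCat.ofHom (inclGA C (le_iSup N (AsSmall.down.obj j)))
      naturality := fun i j h => by
        change CommRingCat.ofHom _ ≫ CommRingCat.ofHom _ = CommRingCat.ofHom _ ≫ 𝟙 _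
        rw [← CommRingCat.ofHom_comp, inclGA_comp, Category.comp_id] }

theorem exists_stage [IsDirected J (· ≤ ·)] [Nonempty J] (hN : Monotone N) (v : GA C (⨆ i, N i : AddSubmonoid M)) :
    ∃ j, v ∈ Set.range (inclGA C (le_iSup N j)) := by
  classical
  induction v using MonoidAlgebra.induction_linear with
  | zero => exact ⟨Classical.arbitrary J, 0, map_zero _⟩
  | add p q hp hq =>
    obtain ⟨i, a, rfl⟩ := hp
    obtain ⟨j, b, rfl⟩ := hq
    obtain ⟨k, hik, hjk⟩ := exists_ge_ge i j
    refine ⟨k, inclGA C (hN hik) a + inclGA C (hN hjk) b, ?_⟩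
    rw [map_add, ← RingHom.comp_apply, ← RingHom.comp_apply, inclGA_comp, inclGA_comp]
  | single m r =>
    obtain ⟨j, hj⟩ := (AddSubmonoid.mem_iSup_of_directed hN.directed_le).mp (Multiplicative.toAdd m).2
    exact ⟨j, MonoidAlgebra.single (Multiplicative.ofAdd (⟨_, hj⟩ : N j)) r, by simp [inclGA]; rfl⟩

/-- `C[⨆ N j]` is the colimit. -/
def isColimitUnion [IsDirected J (· ≤ ·)] [Nonempty J] : IsColimit (unionCocone N hN C) := by
  have : IsFiltered (AsSmall.{u} J) := IsFiltered.of_equivalence AsSmall.equiv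
  have : ReflectsColimit (unionDiag N hN C) (forget CommRingCat.{u}) := reflectsColimit_of_reflectsIsomorphisms _ _
  refine isColimitOfReflects (forget CommRingCat) (Types.FilteredColimit.isColimitOf' _ _ ?_ ?_)
  · intro x
    obtain ⟨j, a, ha⟩ := exists_stage N C hN x
    exact ⟨AsSmall.up.obj j, a, ha.symm⟩
  · intro i x y e
    exact ⟨i, 𝟙 i, congrArg _ (inclGA_injective C (le_iSup N (AsSmall.down.obj i)) e)⟩

variable {S : Scheme.{u}} {X : Over S} [IsSeparated X.hom] [LocallyOfFinitePresentation X.hom]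
  (a : Magnet.MonAct (Magnet.AMonS S M) X)

include hN in
theorem exists_stage_hom [IsDirected J (· ≤ ·)] [Nonempty J] {C : Type u} [CommRing C]
    (str : Spec (CommRingCat.of C) ⟶ S) (m : Magnet.AMonS S (⨆ i, N i : AddSubmonoid M) ⊗ Over.mk str ⟶ X) :
    ∃ (i : J) (mi : Magnet.AMonS S (N i) ⊗ Over.mk str ⟶ X),
      (Magnet.AMonS.map S (AddSubmonoid.inclusion (le_iSup N i)) ▷ Over.mk str) ≫ mi = m := by
  let K := unionDiag N hN C
  have hl : IsLimit (Scheme.Spec.mapCone (unionCocone N hN C).op) :=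
    isLimitOfPreserves Scheme.Spec (isColimitUnion N hN C).op
  let t : K.op ⋙ Scheme.Spec ⟶ (Functor.const _).obj S :=
    { app := fun j => Spec.map (CommRingCat.ofHom
        (MonoidAlgebra.singleOneRingHom : C →+* GA C (N (AsSmall.down.obj (unop j))))) ≫ str
      naturality := fun i j h => by
        change Spec.map (CommRingCat.ofHom _) ≫ Spec.map (CommRingCat.ofHom _) ≫ str = (Spec.map _ ≫ str) ≫ 𝟙 _
        rw [Category.comp_id, ← Spec.map_comp_assoc, ← CommRingCat.ofHom_comp]
        congr 3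
        ext c
        simp [inclGA] }
  have : ∀ {i j : (AsSmall.{u} J)ᵒᵖ} (h : i ⟶ j), IsAffineHom ((K.op ⋙ Scheme.Spec).map h) := fun h =>
    inferInstanceAs (IsAffineHom (Spec.map _))
  have : ∀ j : (AsSmall.{u} J)ᵒᵖ, CompactSpace ((K.op ⋙ Scheme.Spec).obj j) := fun j =>
    inferInstanceAs (CompactSpace (Spec _))
  have : ∀ j : (AsSmall.{u} J)ᵒᵖ, QuasiSeparatedSpace ((K.op ⋙ Scheme.Spec).obj j) := fun j =>
    inferInstanceAs (QuasiSeparatedSpace (Spec _))
  obtain ⟨i, g, hg, hgf⟩ := Scheme.exists_π_app_comp_eq_of_locallyOfFinitePresentation (K.op ⋙ Scheme.Spec) t X.hom _ hl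
    ((gaff C str (⨆ i, N i : AddSubmonoid M)).hom ≫ m.left) (by
      ext j : 2
      change Spec.map (CommRingCat.ofHom _) ≫ Spec.map (CommRingCat.ofHom _) ≫ str = ((gaff C str _).hom ≫ m.left) ≫ X.hom
      rw [Category.assoc, Over.w m, ← Over.w (snd (Magnet.AMonS S _) (Over.mk str)), gaff_hom_snd_assoc,
        ← Spec.map_comp_assoc, ← CommRingCat.ofHom_comp]
      change _ = _ ≫ str
      congr 3
      ext c
      simp [inclGA])
  let i₀ : J := AsSmall.down.obj (unop i)
  let mi : Magnet.AMonS S (N i₀) ⊗ Over.mk str ⟶ X := Over.homMk ((gaff C str (N i₀)).inv ≫ g) (by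
    rw [Category.assoc, hgf]
    change _ ≫ Spec.map _ ≫ str = _
    rw [← gaff_hom_snd_assoc, Iso.inv_hom_id_assoc]
    exact Over.w (snd (Magnet.AMonS S (N i₀)) (Over.mk str)))
  refine ⟨i₀, mi, Over.OverMorphism.ext ?_⟩
  rw [← cancel_epi (gaff C str (⨆ i, N i : AddSubmonoid M)).hom, ← hg, Over.comp_left, gaff_whiskerRight_assoc]
  change Spec.map _ ≫ (gaff C str (N i₀)).hom ≫ (gaff C str (N i₀)).inv ≫ g = Spec.map _ ≫ g
  rw [Iso.hom_inv_id_assoc]
  rfl

include hN in
theorem exists_union [IsDirected J (· ≤ ·)] [Nonempty J] (T : Over S) [IsAffine T.left]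
    (φ : (Magnet.attr a (⨆ i, N i)).obj (op T)) :
    ∃ (i : J) (ψ : (Magnet.attr a (N i)).obj (op T)), (Magnet.attrMap a (le_iSup N i)).app (op T) ψ = φ := by
  let x := (Magnet.attrToX a (⨆ i, N i)).app (op T) φ
  let T' : Over S := Over.mk (T.left.isoSpec.inv ≫ T.hom)
  let e : T' ≅ T := Over.isoMk T.left.isoSpec.symm rfl
  obtain ⟨i, mi, hmi⟩ := exists_stage_hom N hN (C := Γ(T.left, ⊤)) (T.left.isoSpec.inv ≫ T.hom)
    ((Magnet.AMonS S _ ◁ e.hom) ≫ φ.1)
  have horb : HasOrbit a (N i) (e.hom ≫ x) := by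
    refine ⟨mi, ?_⟩
    have hs : Magnet.AMonS.map S (N i).subtype =
        Magnet.AMonS.map S (⨆ i, N i : AddSubmonoid M).subtype ≫ Magnet.AMonS.map S (AddSubmonoid.inclusion (le_iSup N i)) := by
      rw [← Magnet.AMonS.map_comp]
      rfl
    rw [hs, comp_whiskerRight, Category.assoc]
    refine (congrArg (_ ≫ ·) hmi).trans ?_
    rw [← whisker_exchange_assoc, whiskerRight_subtype_comp, MonoidalCategory.whiskerLeft_comp_assoc]
  have h := horb.comp e.inv
  rw [Iso.inv_hom_id_assoc] at h
  obtain ⟨ψ, hψ⟩ := h.exists_attr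
  exact ⟨i, ψ, attrToX_injective a _ T ((attrToX_attrMap a (le_iSup N i) T ψ).trans hψ)⟩

end

end Groth.Agent.MagnetHom
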