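import Mathlib
import Groth.Prelude.Def_Magnet3
import Groth.Agent.MagnetHom.Units
import Groth.Agent.MagnetHom.Eval
import Groth.Agent.DSMapLib.Exact

/-! Descent of orbit maps along flat surjective morphisms of diagonalizable monoid schemes. -/

set_option autoImplicit false
set_option backward.isDefEq.respectTransparency false
set_option backward.isDefEq.respectTransparency.types false
universe u

open CategoryTheory CategoryTheory.Limits MonoidalCategory CartesianMonoidalCategory MonObj AlgebraicGeometry Opposite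

namespace Groth.Agent.MagnetHom

variable {S : Scheme.{u}}

/-- Flat, surjective and quasi-compact. -/
abbrev IsFSQ : MorphismProperty Scheme.{u} := @Flat ⊓ @Surjective ⊓ @QuasiCompact

theorem isFSQ_whiskerRight {A B : Over S} (v : A ⟶ B) (hv : IsFSQ v.left) (T : Over S) : IsFSQ (v ▷ T).left :=
  MorphismProperty.of_isPullback (P := IsFSQ) (isPullback_whiskerRight_left T v).flip hv

theorem eq_of_fsq {P Q X : Over S} (v : P ⟶ Q) (hv : IsFSQ v.left) {g h : Q ⟶ X} (e : v ≫ g = v ≫ h) : g = h := by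
  obtain ⟨⟨h₁, h₂⟩, h₃⟩ := hv
  have h₄ : EffectiveEpi v.left := inferInstance
  exact Over.OverMorphism.ext ((cancel_epi v.left).mp (congrArg (fun k => Over.Hom.left k) e))

/-- Descent of a morphism of `S`-schemes along a flat quasi-compact surjection. -/
theorem exists_desc {P Q X : Over S} (v : P ⟶ Q) (hv : IsFSQ v.left) (F : P ⟶ X)
    (h : ∀ (T' : Over S) (p q : T' ⟶ P), p ≫ v = q ≫ v → p ≫ F = q ≫ F) : ∃ m : Q ⟶ X, v ≫ m = F := by
  obtain ⟨⟨h₁, h₂⟩, h₃⟩ := hv
  have h₄ : EffectiveEpi v.left := inferInstance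
  have hd : ∀ {W : Scheme.{u}} (g₁ g₂ : W ⟶ P.left), g₁ ≫ v.left = g₂ ≫ v.left → g₁ ≫ F.left = g₂ ≫ F.left := by
    intro W g₁ g₂ e
    have e' := congrArg (· ≫ Q.hom) e
    simp only [Category.assoc, Over.w v] at e'
    exact congrArg (fun k => Over.Hom.left k) (h (Over.mk (g₁ ≫ P.hom)) (Over.homMk g₁ rfl) (Over.homMk g₂ e'.symm)
      (Over.OverMorphism.ext e))
  refine ⟨Over.homMk (EffectiveEpi.desc v.left F.left hd) ?_, Over.OverMorphism.ext (EffectiveEpi.fac v.left F.left hd)⟩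
  rw [← cancel_epi v.left, EffectiveEpi.fac_assoc, Over.w F, Over.w v]

/-- An extension of an orbit map is equivariant when extensions are unique. -/
theorem isEquivariant_of_epi {A B X : Over S} [MonObj A] [MonObj B] (v : A ⟶ B) [IsMonHom v] (hv : IsFSQ v.left)
    (a : Magnet.MonAct A X) {T : Over S} (x : T ⟶ X) (m : B ⊗ T ⟶ X) (hm : (v ▷ T) ≫ m = (A ◁ x) ≫ a.act) :
    Magnet.MonAct.IsEquivariant (((Magnet.MonAct.regular B).restrict v).prod (Magnet.MonAct.trivial A T)) a m := by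
  have hp : ∀ {T' : Over S} (g : T' ⟶ A) (t : T' ⟶ T), lift (g ≫ v) t ≫ m = lift g (t ≫ x) ≫ a.act := fun g t => by
    rw [← lift_whiskerRight_assoc, hm, lift_whiskerLeft_assoc]
  let P := A ⊗ T
  let F : B ⊗ P ⟶ X := lift ((snd B P ≫ fst A T ≫ v) * fst B P) (snd B P ≫ snd A T) ≫ m
  let G : B ⊗ P ⟶ X := lift (snd B P ≫ fst A T) (lift (fst B P) (snd B P ≫ snd A T) ≫ m) ≫ a.act
  have eF : ∀ {T' : Over S} (b : T' ⟶ B) (g : T' ⟶ A) (t : T' ⟶ T),
      lift b (lift g t : T' ⟶ P) ≫ F = lift ((g ≫ v) * b) t ≫ m := fun b g t => by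
    simp [F, P, comp_lift_assoc, MonObj.comp_mul]
  have eG : ∀ {T' : Over S} (b : T' ⟶ B) (g : T' ⟶ A) (t : T' ⟶ T),
      lift b (lift g t : T' ⟶ P) ≫ G = lift g (lift b t ≫ m) ≫ a.act := fun b g t => by
    simp [G, P, comp_lift, comp_lift_assoc]
  have hFG : F = G := by
    refine eq_of_fsq (v ▷ P) (isFSQ_whiskerRight v hv P) (Magnet.hom_ext_lift₂ fun T' h z => ?_)
    rw [← lift_comp_fst_snd z]
    generalize z ≫ fst A T = g
    generalize z ≫ snd A T = t
    rw [lift_whiskerRight_assoc, lift_whiskerRight_assoc, eF, eG, ← MonObj.mul_comp, hp, hp, Magnet.MonAct.lift_mul_act]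
  rw [Magnet.MonAct.mem_eqvHom_iff]
  intro T' g b t
  have e := congrArg (fun k => lift b (lift g t) ≫ k) hFG
  simp only [eF, eG] at e
  rw [Magnet.MonAct.lift_restrict_act, Magnet.MonAct.lift_regular_act]
  exact e

theorem evalAt_of_orbit {A B X : Over S} [MonObj A] [MonObj B] (v : A ⟶ B) [IsMonHom v]
    (a : Magnet.MonAct A X) {T : Over S} (x : T ⟶ X) (m : B ⊗ T ⟶ X) (hm : (v ▷ T) ≫ m = (A ◁ x) ≫ a.act) :
    lift (toUnit T ≫ η[B]) (𝟙 T) ≫ m = x := by
  rw [← IsMonHom.one_hom v, ← Category.assoc, ← lift_whiskerRight_assoc, hm, lift_whiskerLeft_assoc, ← Hom.one_def,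
    Category.id_comp, Magnet.MonAct.lift_one_act]

/-- Points of the kernel of `D(M) → D(Z)` come from `D(M/Z)`. -/
theorem exists_lift_kernel {M : Type} [AddCommGroup M] (Z : AddSubgroup M) {T' : Over S}
    (k : T' ⟶ Red.DS S M) (hk : k ≫ Red.DSmap S Z.subtype = 1) :
    ∃ c : T' ⟶ Red.DS S (M ⧸ Z), c ≫ Red.DSmap S (QuotientAddGroup.mk' Z) = k :=
  Groth.Agent.DSMapLib.exists_lift_of_comp_eq_one Z.subtype (QuotientAddGroup.mk' Z)
    (QuotientAddGroup.mk'_surjective Z) (fun m hm => by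
      rw [QuotientAddGroup.ker_mk'] at hm
      exact ⟨⟨m, hm⟩, rfl⟩) k hk

theorem isFSQ_DSmap {M N : Type} [AddCommGroup M] [AddCommGroup N] (φ : M →+ N) (hφ : Function.Injective φ) :
    IsFSQ (Red.DSmap S φ).left :=
  MorphismProperty.of_isPullback (P := IsFSQ)
    (FixedSmooth.isPullback_bc (Limits.IsTerminal.from specULiftZIsTerminal S) (Red.diagMap (ULift.{u} ℤ) φ))
    (Groth.Agent.DSMapLib.flat_surjective_diagMap φ hφ)

end Groth.Agent.MagnetHom

namespace Groth.Agent.MagnetHom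

variable {S : Scheme.{u}}

/-- For a faithfully flat quotient `v : A ⟶ B` of a group, equivariant maps out of `B` are the fixed points of the
kernel. -/
theorem exists_iso_fixed {A B Q X : Over S} [GrpObj A] [MonObj B] [MonObj Q] (v : A ⟶ B) [IsMonHom v] (u : Q ⟶ A)
    [IsMonHom u] (hv : IsFSQ v.left) (huv : u ≫ v = 1)
    (hker : ∀ {T' : Over S} (k : T' ⟶ A), k ≫ v = 1 → ∃ c : T' ⟶ Q, c ≫ u = k) (a : Magnet.MonAct A X) :
    ∃ e : Magnet.MonAct.eqvHom ((Magnet.MonAct.regular B).restrict v) a ≅ Magnet.MonAct.fixedPsh (a.restrict u),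
      e.hom ≫ Magnet.MonAct.fixedPshι _ = Magnet.MonAct.eqvHom.evalAt ((Magnet.MonAct.regular B).restrict v) a η[B] := by
  let ρ := (Magnet.MonAct.regular B).restrict v
  let ev := Magnet.MonAct.eqvHom.evalAt ρ a η[B]
  have horb : ∀ {T : Over S} (φ : (Magnet.MonAct.eqvHom ρ a).obj (op T)),
      (v ▷ T) ≫ φ.1 = (A ◁ ev.app (op T) φ) ≫ a.act := fun φ => whiskerRight_comp_of_eqvHom v a φ
  have hfix : ∀ {T : Over S} (φ : (Magnet.MonAct.eqvHom ρ a).obj (op T)) (T' : Over S) (t : T' ⟶ T) (g : T' ⟶ Q),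
      lift g (t ≫ ev.app (op T) φ) ≫ (a.restrict u).act = t ≫ ev.app (op T) φ := by
    intro T φ T' t g
    rw [Magnet.MonAct.lift_restrict_act, ← lift_whiskerLeft_assoc, ← horb, lift_whiskerRight_assoc, Category.assoc, huv,
      MonObj.comp_one, Magnet.MonAct.eqvHom.evalAt_app, ← Category.assoc, comp_lift, Category.comp_id, ← Category.assoc,
      comp_toUnit, ← Hom.one_def]
  have hinj : ∀ {T : Over S} (φ ψ : (Magnet.MonAct.eqvHom ρ a).obj (op T)),
      ev.app (op T) φ = ev.app (op T) ψ → φ = ψ := by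
    intro T φ ψ e
    refine Subtype.ext (eq_of_fsq (v ▷ T) (isFSQ_whiskerRight v hv T) ?_)
    rw [horb, horb, e]
  have hsurj : ∀ {T : Over S} (x : (Magnet.MonAct.fixedPsh (a.restrict u)).obj (op T)),
      ∃ φ : (Magnet.MonAct.eqvHom ρ a).obj (op T), ev.app (op T) φ = x.1 := by
    intro T x
    obtain ⟨m, hm⟩ := exists_desc (v ▷ T) (isFSQ_whiskerRight v hv T) ((A ◁ x.1) ≫ a.act) (by
      intro T' p q e
      rw [← lift_comp_fst_snd p, ← lift_comp_fst_snd q] at e ⊢
      generalize p ≫ fst _ _ = g, p ≫ snd _ _ = t, q ≫ fst _ _ = g', q ≫ snd _ _ = t' at e ⊢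
      rw [lift_whiskerRight, lift_whiskerRight] at e
      have e1 := congrArg (· ≫ fst _ _) e
      have e2 := congrArg (· ≫ snd _ _) e
      simp only [lift_fst, lift_snd] at e1 e2
      subst e2
      rw [lift_whiskerLeft_assoc, lift_whiskerLeft_assoc]
      obtain ⟨c, hc⟩ := hker (g⁻¹ * g') (by
        rw [MonObj.mul_comp, ← e1, ← MonObj.mul_comp, inv_mul_cancel, MonObj.one_comp])
      have h2 := x.2 T' t c
      rw [Magnet.MonAct.lift_restrict_act, hc] at h2
      conv_rhs => rw [← mul_inv_cancel_left g g', Magnet.MonAct.lift_mul_act, h2])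
    exact ⟨⟨m, isEquivariant_of_epi v hv a x.1 m hm⟩,
      (Magnet.MonAct.eqvHom.evalAt_app ..).trans (evalAt_of_orbit v a x.1 m hm)⟩
  let F : Magnet.MonAct.eqvHom ρ a ⟶ Magnet.MonAct.fixedPsh (a.restrict u) :=
    { app := fun T => TypeCat.ofHom fun φ => ⟨ev.app T φ, fun T' t g => hfix (T := unop T) φ T' t g⟩
      naturality := fun T T' t => ConcreteCategory.hom_ext _ _ fun φ => Subtype.ext (NatTrans.naturality_apply ev t φ) }
  have hF : IsIso F := by
    rw [NatTrans.isIso_iff_isIso_app]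
    intro T
    rw [isIso_iff_bijective]
    refine ⟨fun φ ψ e => hinj φ ψ (congrArg Subtype.val e), fun x => ?_⟩
    obtain ⟨φ, hφ⟩ := hsurj (T := unop T) x
    exact ⟨φ, Subtype.ext hφ⟩
  exact ⟨asIso F, rfl⟩

end Groth.Agent.MagnetHom
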