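import Mathlib
import Groth.Prelude.Def_Magnet3
import Groth.Agent.MagnetHom.AttrGlobal

/-! Over a quasi-compact base finitely many degrees control all attractors. -/

set_option autoImplicit false
set_option backward.isDefEq.respectTransparency false
set_option backward.isDefEq.respectTransparency.types false
set_option synthInstance.maxHeartbeats 400000
set_option maxHeartbeats 1000000
universe u

open CategoryTheory CategoryTheory.Limits MonoidalCategory CartesianMonoidalCategory MonObj AlgebraicGeometry Opposite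

namespace Groth.Agent.MagnetHom

noncomputable section

variable {S : Scheme.{u}} {M : Type} [AddCommMonoid M] {X : Over S}

/-- Functions on the base have degree zero. -/
theorem Chart.coact_base (ch : Chart X) (a : Magnet.MonAct (Magnet.AMonS S M) X) (φ : Γ(S, ch.U) ⟶ CommRingCat.of ch.B)
    (hφ : Spec.map φ ≫ ch.hU.fromSpec = ch.emb ≫ X.hom) (r : Γ(S, ch.U)) :
    ch.coact a (φ.hom r) = MonoidAlgebra.single 1 (φ.hom r) := by
  have h : Spec.map (CommRingCat.ofHom (ch.coact a)) ≫ Spec.map φ ≫ ch.hU.fromSpec =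
      Spec.map (CommRingCat.ofHom (MonoidAlgebra.singleOneRingHom : ch.B →+* GA ch.B M)) ≫ Spec.map φ ≫ ch.hU.fromSpec := by
    rw [hφ, ← reassoc_of% (ch.coact_spec a)]
    rw [Over.w ((Magnet.AMonS S M ◁ ch.inc) ≫ a.act), ← Over.w (snd (Magnet.AMonS S M) ch.W), gaff_hom_snd_assoc]
    rfl
  simp only [← Spec.map_comp_assoc] at h
  exact congrArg (fun k => k.hom r) (Spec.map_injective ((cancel_mono ch.hU.fromSpec).mp h))

theorem exists_degrees [CompactSpace S] [IsAffineHom X.hom] [LocallyOfFiniteType X.hom]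
    (a : Magnet.MonAct (Magnet.AMonS S M) X) :
    ∃ G : Finset M, ∀ (N L : AddSubmonoid M), (∀ g ∈ G, g ∈ N → g ∈ L) →
      ∀ {T : Over S} (x : T ⟶ X), HasOrbit a N x → HasOrbit a L x := by
  classical
  obtain ⟨s, hs⟩ := isCompact_univ.elim_finite_subcover
    (fun U : {U : S.Opens // IsAffineOpen U} => ((U.1 : S.Opens) : Set S)) (fun U => U.1.isOpen)
    (fun p _ => Set.mem_iUnion.mpr (allCharts_cover (X := X) p))
  have hft : ∀ U : {U : S.Opens // IsAffineOpen U},
      ((X.hom.appLE U.1 (X.hom ⁻¹ᵁ U.1) le_rfl).hom).FiniteType := fun U =>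
    X.hom.finiteType_appLE U.2 (U.2.preimage X.hom) le_rfl
  let φU : ∀ U : {U : S.Opens // IsAffineOpen U}, Γ(S, (allCharts X U).U) ⟶ CommRingCat.of (allCharts X U).B :=
    fun U => X.hom.appLE U.1 (X.hom ⁻¹ᵁ U.1) le_rfl
  have hgen : ∀ U : {U : S.Opens // IsAffineOpen U}, ∃ t : Finset (allCharts X U).B,
      Subring.closure (Set.range (φU U).hom ∪ (↑t : Set (allCharts X U).B)) = ⊤ := by
    intro U
    let := (X.hom.appLE U.1 (X.hom ⁻¹ᵁ U.1) le_rfl).hom.toAlgebra
    obtain ⟨t, ht⟩ := (hft U : Algebra.FiniteType Γ(S, U.1) Γ(X.left, X.hom ⁻¹ᵁ U.1)).out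
    refine ⟨t, ?_⟩
    have := congrArg Subalgebra.toSubring ht
    rw [Algebra.adjoin_eq_ring_closure, Algebra.top_toSubring] at this
    exact this
  choose t ht using hgen
  refine ⟨s.biUnion fun U => (t U).biUnion fun b =>
    (((allCharts X U).coact a b).coeff.support).image Multiplicative.toAdd, fun N L hG T x hx => ?_⟩
  refine hasOrbit_of_charts a L (fun U : s => allCharts X U.1) (fun p => ?_) x fun U C _ str t' x' hx' => ?_
  · obtain ⟨U, hU, hp⟩ := Set.mem_iUnion₂.mp (hs (Set.mem_univ p))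
    exact ⟨⟨U, hU⟩, hp⟩
  let ch := allCharts X U.1
  have hN := (ch.hasOrbit_iff a N x').mp (hx'.symm ▸ hx.comp t')
  rw [ch.hasOrbit_iff]
  let A : Subring (GA C M) :=
    (MonoidAlgebra.mapDomainRingHom C (AddMonoidHom.toMultiplicative L.subtype) : GA C L →+* GA C M).range
  have hinj : Function.Injective (AddMonoidHom.toMultiplicative L.subtype) := fun u v e =>
    Multiplicative.toAdd.injective (L.subtype_injective (congrArg Multiplicative.toAdd e))
  have hA : ∀ v : GA C M, v ∈ A ↔ ∀ m, v.coeff m ≠ 0 → Multiplicative.toAdd m ∈ L := by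
    intro v
    constructor
    · rintro ⟨w, rfl⟩ m hm
      by_contra hmL
      refine hm (Finsupp.mapDomain_of_notMem_range _ _ ?_)
      rintro ⟨n, rfl⟩
      exact hmL (Multiplicative.toAdd n).2
    · intro h
      refine ⟨MonoidAlgebra.ofCoeff (v.coeff.comapDomain _ hinj.injOn), ?_⟩
      refine MonoidAlgebra.coeff_inj.mp (Finsupp.mapDomain_comapDomain _ hinj _ ?_)
      intro k hk
      exact ⟨Multiplicative.ofAdd ⟨_, h k (Finsupp.mem_support_iff.mp hk)⟩, rfl⟩
  intro b m hm
  refine (hA _).mp ?_ m hm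
  have hb : b ∈ Subring.closure (Set.range (φU U.1).hom ∪ (↑(t U.1) : Set (allCharts X U.1).B)) := by
    rw [ht U.1]
    trivial
  refine (Subring.closure_le (t := A.comap (ch.omega a x'))).mpr ?_ hb
  rintro c (⟨r, rfl⟩ | hc)
  · refine (hA _).mpr fun m hm => ?_
    rw [Chart.omega, RingHom.comp_apply,
      ch.coact_base a (φU U.1)
        (U.1.2.SpecMap_appLE_fromSpec X.hom (U.1.2.preimage X.hom) le_rfl) r,
      MonoidAlgebra.mapRingHom_single, MonoidAlgebra.coeff_single, Finsupp.single_apply] at hm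
    split_ifs at hm with h
    · subst h
      exact L.zero_mem
    · exact absurd rfl hm
  · refine (hA _).mpr fun m hm => ?_
    refine hG _ ?_ (hN c m hm)
    rw [Finset.mem_biUnion]
    refine ⟨U.1, U.2, Finset.mem_biUnion.mpr ⟨c, hc, Finset.mem_image.mpr ⟨m, ?_, rfl⟩⟩⟩
    rw [Finsupp.mem_support_iff]
    intro h0
    rw [Chart.omega_coeff, h0, map_zero] at hm
    exact hm rfl

end

end Groth.Agent.MagnetHom
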