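import Mathlib
import Groth.Prelude.Def_Magnet3
import Groth.Prelude.Def_ActBC

/-! Iterated base change of equivariant families. -/

set_option autoImplicit false
set_option backward.isDefEq.respectTransparency false
set_option backward.isDefEq.respectTransparency.types false
universe u

open CategoryTheory CategoryTheory.Limits MonoidalCategory CartesianMonoidalCategory MonObj AlgebraicGeometry Opposite
open Magnet

namespace Groth.Agent.MagnetHom

noncomputable section

variable {S : Scheme.{u}} {A B X : Over S} (T : Over S) (T'' : Over T.left)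

/-- `(B ×_S T) ×_T T'' = B ×_S T''`. -/
def bcTensorIso (B : Over S) : (Over.map T.hom).obj (Red.bc T.hom B ⊗ T'') ≅ B ⊗ (Over.map T.hom).obj T'' :=
  Over.isoMk (pullbackLeftPullbackSndIso B.hom T.hom T''.hom) (by
    change (pullbackLeftPullbackSndIso B.hom T.hom T''.hom).hom ≫ pullback.fst _ _ ≫ B.hom =
      (pullback.fst _ _ ≫ pullback.snd B.hom T.hom) ≫ T.hom
    rw [pullbackLeftPullbackSndIso_hom_fst_assoc, pullback.condition, Category.assoc])

theorem map_comp_bcTensorIso (B : Over S) {T' : Over T.left} (u : T' ⟶ Red.bc T.hom B ⊗ T'') :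
    (Over.map T.hom).map u ≫ (bcTensorIso T T'' B).hom =
      lift (((Over.mapPullbackAdj T.hom).homEquiv _ _).symm (u ≫ fst _ _)) ((Over.map T.hom).map (u ≫ snd _ _)) := by
  apply CartesianMonoidalCategory.hom_ext
  · rw [lift_fst, Category.assoc]
    ext1
    simp only [Over.comp_left, Over.map_map_left, Adjunction.homEquiv_counit, Over.mapPullbackAdj_counit_app, Over.homMk_left]
    change u.left ≫ (pullbackLeftPullbackSndIso B.hom T.hom T''.hom).hom ≫ pullback.fst _ _ =
      (u.left ≫ pullback.fst _ _) ≫ pullback.fst _ _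
    rw [pullbackLeftPullbackSndIso_hom_fst, Category.assoc]
    rfl
  · rw [lift_snd, Category.assoc]
    ext1
    simp only [Over.comp_left, Over.map_map_left]
    change u.left ≫ (pullbackLeftPullbackSndIso B.hom T.hom T''.hom).hom ≫ pullback.snd _ _ = u.left ≫ pullback.snd _ _
    rw [pullbackLeftPullbackSndIso_hom_snd]
    rfl

variable [MonObj A] (ρ : MonAct A B) (a : MonAct A X)

theorem mem_iff_mem_bc (φ : B ⊗ (Over.map T.hom).obj T'' ⟶ X) :
    MonAct.IsEquivariant (ρ.prod (MonAct.trivial A _)) a φ ↔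
      MonAct.IsEquivariant ((ρ.bc T.hom).prod (MonAct.trivial _ T'')) (a.bc T.hom)
        ((Over.mapPullbackAdj T.hom).homEquiv _ _ ((bcTensorIso T T'' B).hom ≫ φ)) := by
  rw [MonAct.mem_eqvHom_iff, MonAct.mem_eqvHom_iff]
  let adj := Over.mapPullbackAdj T.hom
  have key : ∀ {T' : Over T.left} (b : (Over.map T.hom).obj T' ⟶ B) (t : T' ⟶ T''),
      lift (adj.homEquiv _ _ b) t ≫ adj.homEquiv _ _ ((bcTensorIso T T'' B).hom ≫ φ) =
        adj.homEquiv _ _ (lift b ((Over.map T.hom).map t) ≫ φ) := by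
    intro T' b t
    rw [← adj.homEquiv_naturality_left, ← Category.assoc, map_comp_bcTensorIso, lift_fst, lift_snd, Equiv.symm_apply_apply]
  constructor
  · intro h T' g' b' t
    obtain ⟨g, rfl⟩ := (adj.homEquiv _ _).surjective g'
    obtain ⟨b, rfl⟩ := (adj.homEquiv _ _).surjective b'
    rw [MonAct.lift_homEquiv_bc_act, key, key, MonAct.lift_homEquiv_bc_act, h]
  · intro h T' g b t
    let T₁ : Over T.left := Over.mk (t.left ≫ T''.hom)
    let e : (Over.map T.hom).obj T₁ ⟶ T' := Over.homMk (𝟙 _) (by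
      change 𝟙 _ ≫ T'.hom = (t.left ≫ T''.hom) ≫ T.hom
      rw [Category.id_comp, ← Over.w t]
      exact (Category.assoc _ _ _).symm)
    have : IsIso e := ⟨Over.homMk (𝟙 _) (by rw [← Over.w t]; exact (Category.id_comp _).trans (Category.assoc _ _ _)), Over.OverMorphism.ext (Category.id_comp _), Over.OverMorphism.ext (Category.id_comp _)⟩
    let t₁ : T₁ ⟶ T'' := Over.homMk t.left rfl
    have he : (Over.map T.hom).map t₁ = e ≫ t := by ext1; exact (Category.id_comp _).symm
    have h' := h T₁ (adj.homEquiv _ _ (e ≫ g)) (adj.homEquiv _ _ (e ≫ b)) t₁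
    rw [MonAct.lift_homEquiv_bc_act, key, key, MonAct.lift_homEquiv_bc_act, he] at h'
    have h'' := (adj.homEquiv _ _).injective h'
    rw [← cancel_epi e]
    simpa [comp_lift_assoc, comp_lift] using h''

/-- `X^N ×_S T = (X_T)^N` on `T''`-points. -/
def bcEquiv : (MonAct.eqvHom ρ a).obj (op ((Over.map T.hom).obj T'')) ≃
    (MonAct.eqvHom (ρ.bc T.hom) (a.bc T.hom)).obj (op T'') :=
  (((bcTensorIso T T'' B).homFromEquiv).symm.trans ((Over.mapPullbackAdj T.hom).homEquiv _ _)).subtypeEquiv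
    (fun φ => mem_iff_mem_bc T T'' ρ a φ)

theorem bcEquiv_spec_aux (φ : B ⊗ (Over.map T.hom).obj T'' ⟶ X) :
    (toBc T'' ((Over.mapPullbackAdj T.hom).homEquiv _ _ ((bcTensorIso T T'' B).hom ≫ φ))).left ≫
        (ActBC.bcCompIso T''.hom T.hom X rfl).hom.left =
      (ActBC.bcCompIso T''.hom T.hom B rfl).hom.left ≫ (toBc ((Over.map T.hom).obj T'') φ).left := by
  refine pullback.hom_ext ?_ ?_
  · rw [Category.assoc, Category.assoc, ActBC.bcCompIso_hom_left_fst, reassoc_of% (toBc_left_fst T'' ((Over.mapPullbackAdj T.hom).homEquiv _ _ ((bcTensorIso T T'' B).hom ≫ φ)))]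
    refine Eq.trans ?_ (congrArg ((ActBC.bcCompIso T''.hom T.hom B rfl).hom.left ≫ ·) (toBc_left_fst ((Over.map T.hom).obj T'') φ).symm)
    simp [Adjunction.homEquiv_unit]
    rfl
  · rw [Category.assoc, Category.assoc, ActBC.bcCompIso_hom_left_snd, toBc_left_snd]
    exact (ActBC.bcCompIso_hom_left_snd T''.hom T.hom B rfl).symm.trans
      (congrArg ((ActBC.bcCompIso T''.hom T.hom B rfl).hom.left ≫ ·) (toBc_left_snd ((Over.map T.hom).obj T'') φ).symm)

theorem bcEquiv_spec (φ : (MonAct.eqvHom ρ a).obj (op ((Over.map T.hom).obj T''))) :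
    (toBc T'' (bcEquiv T T'' ρ a φ).1) ≫ (ActBC.bcCompIso T''.hom T.hom X rfl).hom =
      (ActBC.bcCompIso T''.hom T.hom B rfl).hom ≫ toBc ((Over.map T.hom).obj T'') φ.1 :=
  Over.OverMorphism.ext (bcEquiv_spec_aux T T'' φ.1)

end

end Groth.Agent.MagnetHom
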