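import Groth.Prelude.Def_Magnet
import Mathlib.CategoryTheory.Monoidal.Cartesian.Grp

/-! Acting by endomorphisms of a monoid / group object, on points. -/

set_option autoImplicit false
universe v₁ u₁

open CategoryTheory MonoidalCategory CartesianMonoidalCategory MonObj GrpObj Magnet Magnet.MonAct

namespace Groth.Agent.MagnetHom

variable {C : Type u₁} [Category.{v₁} C] [CartesianMonoidalCategory C] {A X : C} [MonObj A]

theorem act_mul [MonObj X] {a : MonAct A X} (hμ : IsEquivariant (a.prod a) a μ[X]) {T : C} (g : T ⟶ A) (x y : T ⟶ X) :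
    lift g (x * y) ≫ a.act = (lift g x ≫ a.act) * (lift g y ≫ a.act) := by
  rw [isEquivariant_iff] at hμ
  have h := hμ T g (lift x y)
  rw [lift_prod_act_assoc] at h
  rw [Hom.mul_def x y, ← h, Hom.mul_def]

theorem act_one [MonObj X] {a : MonAct A X} (hη : IsEquivariant (trivial A (𝟙_ C)) a η[X]) {T : C} (g : T ⟶ A) :
    lift g (1 : T ⟶ X) ≫ a.act = 1 := by
  rw [isEquivariant_iff] at hη
  have h := hη T g (toUnit T)
  rw [lift_trivial_act_assoc] at h
  rw [Hom.one_def]
  exact h.symm

theorem act_inv [GrpObj X] {a : MonAct A X} (hμ : IsEquivariant (a.prod a) a μ[X]) {T : C} (g : T ⟶ A) (x : T ⟶ X) :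
    lift g x⁻¹ ≫ a.act = (lift g x ≫ a.act)⁻¹ :=
  map_inv (MonoidHom.mk' (fun x : T ⟶ X => lift g x ≫ a.act) (act_mul hμ g)) x

end Groth.Agent.MagnetHom
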