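import Mathlib
import Groth.Prelude.Def_Magnet3
import Groth.Agent.MagnetHom.Eval

set_option autoImplicit false
set_option backward.isDefEq.respectTransparency false
set_option backward.isDefEq.respectTransparency.types false
universe u

open CategoryTheory MonoidalCategory CartesianMonoidalCategory MonObj AlgebraicGeometry Opposite

namespace Groth.Agent.MagnetHom

variable {S : Scheme.{u}} {M : Type} [AddCommMonoid M]

theorem AMon_map_id (R : Type u) [CommRing R] : Magnet.AMon.map R (AddMonoidHom.id M) = 𝟙 _ := by
  ext1
  rw [Magnet.AMon.map_left]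
  refine Eq.trans ?_ (Spec.map_id _)
  congr 1
  apply CommRingCat.hom_ext
  apply MonoidAlgebra.ringHom_ext
  · intro r; simp
  · intro m; simp

theorem AMonS_map_id : Magnet.AMonS.map S (AddMonoidHom.id M) = 𝟙 _ := by
  rw [Magnet.AMonS.map, AMon_map_id, CategoryTheory.Functor.map_id]

theorem isIso_AMonS_map {N : Type} [AddCommMonoid N] (f : N →+ M) (hf : Function.Bijective f) :
    IsIso (Magnet.AMonS.map S f) := by
  let e := AddEquiv.ofBijective f hf
  refine ⟨Magnet.AMonS.map S e.symm.toAddMonoidHom, ?_, ?_⟩
  · rw [← Magnet.AMonS.map_comp, show f.comp e.symm.toAddMonoidHom = .id M from AddMonoidHom.ext e.apply_symm_apply, AMonS_map_id]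
  · rw [← Magnet.AMonS.map_comp, show e.symm.toAddMonoidHom.comp f = .id N from AddMonoidHom.ext e.symm_apply_apply, AMonS_map_id]

end Groth.Agent.MagnetHom
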