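import Mathlib
import Groth.Prelude.Def_Magnet3
import Groth.Agent.MagnetHom.Descent

/-! `ℤ[M × Y]` is faithfully flat over `ℤ[f⁻¹ Y]`. -/

set_option autoImplicit false
set_option backward.isDefEq.respectTransparency false
set_option backward.isDefEq.respectTransparency.types false
universe u

open CategoryTheory CategoryTheory.Limits MonoidalCategory CartesianMonoidalCategory MonObj AlgebraicGeometry Opposite

namespace Groth.Agent.MagnetHom

variable {M Z : Type} [AddCommGroup M] [AddCommGroup Z] (f : M →+ Z) (Y : AddSubmonoid Z)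

/-- `n ↦ (n, f n)`. -/
def piHom : ↥(Y.comap f) →+ M × ↥Y :=
  (Y.comap f).subtype.prod ((f.comp (Y.comap f).subtype).codRestrict Y fun x => x.2)

theorem exists_equiv_prod (hY : Y ≤ AddMonoidHom.mrange f) :
    ∃ (G : Type) (σ : G → M × ↥Y) (e : G × Multiplicative ↥(Y.comap f) ≃ Multiplicative (M × ↥Y)),
      Nonempty G ∧ ∀ g n, e (g, n) = Multiplicative.ofAdd (σ g + piHom f Y (Multiplicative.toAdd n)) := by
  classical
  let s : f.range → M := fun δ => δ.2.choose
  have hs : ∀ δ : f.range, f (s δ) = δ := fun δ => δ.2.choose_spec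
  let δOf : M × ↥Y → f.range := fun p => ⟨f p.1 - (p.2 : Z), by
    obtain ⟨m, hm⟩ := hY p.2.2
    exact ⟨p.1 - m, by rw [map_sub, hm]⟩⟩
  refine ⟨f.range, fun δ => (s δ, 0),
    { toFun := fun q => Multiplicative.ofAdd ((s q.1, 0) + piHom f Y (Multiplicative.toAdd q.2))
      invFun := fun p => (δOf (Multiplicative.toAdd p), Multiplicative.ofAdd
        (⟨(Multiplicative.toAdd p).1 - s (δOf (Multiplicative.toAdd p)), by
          rw [AddSubmonoid.mem_comap, map_sub, hs]
          simp [δOf]⟩ : ↥(Y.comap f)))
      left_inv := ?_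
      right_inv := ?_ }, inferInstance, fun g n => rfl⟩
  · rintro ⟨δ, n⟩
    have h : δOf ((s δ, 0) + piHom f Y (Multiplicative.toAdd n)) = δ := Subtype.ext (by simp [δOf, piHom, hs])
    simp only [toAdd_ofAdd, h]
    refine Prod.ext rfl (Multiplicative.toAdd.injective (Subtype.ext ?_))
    simp [piHom]
  · intro p
    obtain ⟨⟨m, y⟩, rfl⟩ := Multiplicative.ofAdd.surjective p
    simp only [toAdd_ofAdd]
    refine congrArg _ (Prod.ext (by simp [piHom]) (Subtype.ext ?_))
    simp [piHom, δOf, hs]

theorem free_piHom (hY : Y ≤ AddMonoidHom.mrange f) (R : Type u) [CommRing R] :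
    letI := (MonoidAlgebra.mapDomainRingHom R (AddMonoidHom.toMultiplicative (piHom f Y))).toAlgebra
    Module.Free (MonoidAlgebra R (Multiplicative ↥(Y.comap f))) (MonoidAlgebra R (Multiplicative (M × ↥Y))) := by
  classical
  letI := (MonoidAlgebra.mapDomainRingHom R (AddMonoidHom.toMultiplicative (piHom f Y))).toAlgebra
  obtain ⟨G, σ, e, -, he⟩ := exists_equiv_prod f Y hY
  let A : Type u := MonoidAlgebra R (Multiplicative ↥(Y.comap f))
  let b : G → MonoidAlgebra R (Multiplicative (M × ↥Y)) := fun g => MonoidAlgebra.single (Multiplicative.ofAdd (σ g)) 1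
  let E : (G →₀ A) ≃+ MonoidAlgebra R (Multiplicative (M × ↥Y)) :=
    (Finsupp.mapRange.addEquiv (MonoidAlgebra.coeffAddEquiv (R := R) (M := Multiplicative ↥(Y.comap f)))).trans
      (((Finsupp.curryAddEquiv (α := G) (β := Multiplicative ↥(Y.comap f)) (M := R)).symm.trans
        (Finsupp.domCongr e)).trans (MonoidAlgebra.coeffAddEquiv (R := R) (M := Multiplicative (M × ↥Y))).symm)
  have hE : (Finsupp.linearCombination A b).toAddMonoidHom = E.toAddMonoidHom := by
    refine Finsupp.addHom_ext fun g v => ?_
    induction v using MonoidAlgebra.induction_linear with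
    | zero => simp
    | add p q hp hq => rw [Finsupp.single_add, map_add, map_add, hp, hq]
    | single n r =>
      change Finsupp.linearCombination A b (Finsupp.single g (MonoidAlgebra.single n r)) = _
      rw [Finsupp.linearCombination_single, Algebra.smul_def, RingHom.algebraMap_toAlgebra,
        MonoidAlgebra.mapDomainRingHom_apply, MonoidAlgebra.mapDomain_single, MonoidAlgebra.single_mul_single, _root_.mul_one]
      refine MonoidAlgebra.coeff_inj.mp ?_
      rw [MonoidAlgebra.coeff_single]
      simp [E, Finsupp.mapRange.addMonoidHom_apply, Finsupp.uncurry_single, Finsupp.equivMapDomain_single, he, mul_comm]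
      have h1 : Finsupp.mapRange.addMonoidHom (MonoidAlgebra.coeffAddEquiv (R := R) (M := Multiplicative ↥(Y.comap f))).toAddMonoidHom
          (Finsupp.single g (MonoidAlgebra.single n r)) = Finsupp.single g (Finsupp.single n r) := Finsupp.mapRange_single (hf := map_zero _)
      refine Eq.trans ?_ (congrArg (fun k => Finsupp.equivMapDomain e k.uncurry) h1).symm
      simp [Finsupp.uncurry_single, Finsupp.equivMapDomain_single, he, mul_comm]
  have hbij : Function.Bijective (Finsupp.linearCombination A b) := by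
    rw [show (Finsupp.linearCombination A b : (G →₀ A) → _) = E from congrArg DFunLike.coe hE]
    exact E.bijective
  exact Module.Free.of_basis (Module.Basis.ofRepr (LinearEquiv.ofBijective (Finsupp.linearCombination A b) hbij).symm)

theorem isFSQ_piHom (hY : Y ≤ AddMonoidHom.mrange f) (S : Scheme.{u}) :
    IsFSQ (Magnet.AMonS.map S (piHom f Y)).left := by
  refine MorphismProperty.of_isPullback (P := IsFSQ)
    (FixedSmooth.isPullback_bc (Limits.IsTerminal.from specULiftZIsTerminal S) (Magnet.AMon.map (ULift.{u} ℤ) (piHom f Y))) ?_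
  rw [Magnet.AMon.map_left]
  let φ : MonoidAlgebra (ULift.{u} ℤ) (Multiplicative ↥(Y.comap f)) →+* MonoidAlgebra (ULift.{u} ℤ) (Multiplicative (M × ↥Y)) :=
    MonoidAlgebra.mapDomainRingHom _ (AddMonoidHom.toMultiplicative (piHom f Y))
  have key : IsFSQ (Spec.map (CommRingCat.ofHom φ)) := by
    let := φ.toAlgebra
    have hfree := free_piHom f Y hY (ULift.{u} ℤ)
    refine ⟨⟨?_, ⟨?_⟩⟩, inferInstance⟩
    · rw [HasRingHomProperty.Spec_iff (P := @Flat)]
      exact RingHom.flat_algebraMap_iff.mpr inferInstance
    · intro p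
      obtain ⟨q, hq⟩ := PrimeSpectrum.comap_surjective_of_faithfullyFlat
        (A := MonoidAlgebra (ULift.{u} ℤ) (Multiplicative ↥(Y.comap f)))
        (B := MonoidAlgebra (ULift.{u} ℤ) (Multiplicative (M × ↥Y))) p
      exact ⟨q, hq⟩
  exact key

end Groth.Agent.MagnetHom
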