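import Mathlib
import Groth.Prelude.Def_Magnet3
import Groth.Agent.MagnetHom.Descent
import Groth.Agent.MagnetHom.ProdFlat
import Groth.Agent.MagnetHom.CombPts
import Groth.Agent.MagnetHom.Comap

/-! Attractors for `A(M)` and for `A(Z)` along `f : M →+ Z` agree when the magnet lies in the image. -/

set_option autoImplicit false
set_option backward.isDefEq.respectTransparency false
set_option backward.isDefEq.respectTransparency.types false
universe u

open CategoryTheory CategoryTheory.Limits MonoidalCategory CartesianMonoidalCategory MonObj AlgebraicGeometry Opposite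

namespace Groth.Agent.MagnetHom

attribute [-instance] AlgebraicGeometry.instGrpObjSpecAsOverSpec AlgebraicGeometry.instCommGrpObjSpecAsOverSpec in
/-- The identity of `A(M)` needs no group structure. -/
theorem map_id_left (S : Scheme.{u}) (M : Type) [AddCommMonoid M] : Magnet.AMonS.map S (AddMonoidHom.id M) = 𝟙 _ := AMonS_map_id

variable {S : Scheme.{u}}

theorem inv_mul_comp_eq_one {A B T' : Over S} [GrpObj A] [MonObj B] (v : A ⟶ B) [IsMonHom v] {g g' : T' ⟶ A}
    (h : g ≫ v = g' ≫ v) : (g⁻¹ * g') ≫ v = 1 := by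
  rw [MonObj.mul_comp, ← h, ← MonObj.mul_comp, inv_mul_cancel, MonObj.one_comp]

theorem mul_left_cancel_comp {A B T' : Over S} [GrpObj A] [MonObj B] (v : A ⟶ B) [IsMonHom v] (g : T' ⟶ A)
    {x y : T' ⟶ B} (h : (g ≫ v) * x = (g ≫ v) * y) : x = y := by
  have := congrArg ((g⁻¹ ≫ v) * ·) h
  simp only [← _root_.mul_assoc, ← MonObj.mul_comp, inv_mul_cancel, MonObj.one_comp, _root_.one_mul] at this
  exact this

/-- Points `p, p'` of the cover with the same image differ by a point `k` of the kernel part. -/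
theorem exists_kernel_point {M Z : Type} [AddCommGroup M] [AddCommGroup Z] (f : M →+ Z) {T' : Over S}
    (g g' : T' ⟶ Red.DS S M) (h : g ≫ Red.DSmap S f.ker.subtype = g' ≫ Red.DSmap S f.ker.subtype) :
    ∃ k : T' ⟶ Red.DS S f.range, g * (k ≫ Red.DSmap S f.rangeRestrict) = g' := by
  haveI := Groth.Agent.DSMapLib.isMonHom_DSmap S f.ker.subtype
  obtain ⟨k, hk⟩ := Groth.Agent.DSMapLib.exists_lift_of_comp_eq_one f.ker.subtype f.rangeRestrict
    f.rangeRestrict_surjective (fun m hm => by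
      refine ⟨⟨m, ?_⟩, rfl⟩
      rw [AddMonoidHom.mem_ker]
      exact congrArg Subtype.val (AddMonoidHom.mem_ker.mp hm)) (g⁻¹ * g')
    (inv_mul_comp_eq_one (Red.DSmap S f.ker.subtype) h)
  exact ⟨k, (congrArg (g * ·) hk).trans (mul_inv_cancel_left g g')⟩

theorem cancel_unit_left {L : Type} [AddCommGroup L] {N : Type} [AddCommMonoid N] (i : N →+ L) {T' : Over S}
    (g : T' ⟶ Magnet.AMonS S L) {x y : T' ⟶ Magnet.AMonS S N}
    (h : (g ≫ Magnet.AMonS.map S i) * x = (g ≫ Magnet.AMonS.map S i) * y) : x = y := by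
  exact mul_left_cancel_comp (A := Red.DS S L) (Magnet.AMonS.map S i) g h

variable {M Z : Type} [AddCommGroup M] [AddCommGroup Z] (f : M →+ Z) (Y : AddSubmonoid Z)

/-- The degree map `f⁻¹ Y → Y`. -/
abbrev resHom : ↥(Y.comap f) →+ ↥Y := (f.comp (Y.comap f).subtype).codRestrict Y fun x => x.2

theorem resHom_surjective (hY : Y ≤ AddMonoidHom.mrange f) : Function.Surjective (resHom f Y) := by
  intro y
  obtain ⟨m, hm⟩ := hY y.2
  exact ⟨⟨m, by rw [AddSubmonoid.mem_comap, hm]; exact y.2⟩, Subtype.ext hm⟩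

theorem exists_extend {X : Over S} (a : Magnet.MonAct (Magnet.AMonS S M) X) (hY : Y ≤ AddMonoidHom.mrange f)
    {T : Over S} (ψ : (Magnet.attr (a.restrict (Magnet.AMonS.map S f)) Y).obj (op T)) :
    ∃ φ : (Magnet.attr a (Y.comap f)).obj (op T), (Magnet.attrComap a f Y).app (op T) φ = ψ := by
  classical
  let N := Y.comap f
  let fN : ↥N →+ ↥Y := resHom f Y
  let vN : Magnet.AMonS S M ⟶ Magnet.AMonS S N := Magnet.AMonS.map S N.subtype
  let kk : Magnet.AMonS S Y ⟶ Magnet.AMonS S N := Magnet.AMonS.map S fN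
  let d : Magnet.AMonS S (M × ↥Y) ⟶ Magnet.AMonS S N := Magnet.AMonS.map S (piHom f Y)
  let pM : Magnet.AMonS S (M × ↥Y) ⟶ Magnet.AMonS S M := Magnet.AMonS.map S (AddMonoidHom.inl M ↥Y)
  let pY : Magnet.AMonS S (M × ↥Y) ⟶ Magnet.AMonS S Y := Magnet.AMonS.map S (AddMonoidHom.inr M ↥Y)
  let iK : ↥f.ker →+ ↥N := f.ker.subtype.codRestrict N fun m => by
    rw [AddSubmonoid.mem_comap]
    exact (AddMonoidHom.mem_ker.mp m.2) ▸ Y.zero_mem
  let iY : ↥Y →+ ↥f.range :=
    { toFun := fun y => ⟨y, AddMonoidHom.mem_range.mpr (AddMonoidHom.mem_mrange.mp (hY y.2))⟩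
      map_zero' := rfl
      map_add' := fun _ _ => rfl }
  have hpi : piHom f Y = (AddMonoidHom.inl M ↥Y).comp N.subtype + (AddMonoidHom.inr M ↥Y).comp fN :=
    AddMonoidHom.ext fun n => by simp [piHom, fN, N]
  have hd : d = (pM ≫ vN) * (pY ≫ kk) := by
    rw [← Magnet.AMonS.map_comp, ← Magnet.AMonS.map_comp, ← AMonS_map_add, ← hpi]
  have hdP : ∀ {T' : Over S} (P : T' ⟶ Magnet.AMonS S (M × ↥Y)), P ≫ d = (P ≫ pM ≫ vN) * (P ≫ pY ≫ kk) :=
    fun P => by rw [hd, MonObj.comp_mul]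
  have hact : ∀ {T' : Over S} (z : T' ⟶ Magnet.AMonS S Z) (b : T' ⟶ Magnet.AMonS S Y) (t : T' ⟶ T),
      lift ((z ≫ Magnet.AMonS.map S Y.subtype) * b) t ≫ ψ.1 =
        lift (z ≫ Magnet.AMonS.map S f) (lift b t ≫ ψ.1) ≫ a.act := by
    intro T' z b t
    have h := (Magnet.MonAct.mem_eqvHom_iff _).mp ψ.2 T' z b t
    change lift (lift z b ≫ ((Magnet.MonAct.regular _).restrict (Magnet.AMonS.map S Y.subtype)).act) t ≫ ψ.1 = _ at h
    rw [Magnet.MonAct.lift_restrict_act, Magnet.MonAct.lift_regular_act, Magnet.MonAct.lift_restrict_act] at h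
    exact h
  let F : Magnet.AMonS S (M × ↥Y) ⊗ T ⟶ X := lift (fst _ T ≫ pM) ((pY ▷ T) ≫ ψ.1) ≫ a.act
  have hF : ∀ {T' : Over S} (P : T' ⟶ Magnet.AMonS S (M × ↥Y)) (t : T' ⟶ T),
      lift P t ≫ F = lift (P ≫ pM) (lift (P ≫ pY) t ≫ ψ.1) ≫ a.act := fun P t => by
    simp [F, comp_lift_assoc]
  have hdT : IsFSQ (d ▷ T).left := isFSQ_whiskerRight d (isFSQ_piHom f Y hY S) T
  obtain ⟨m, hm⟩ := exists_desc (d ▷ T) hdT F (by
    intro T' p p' e
    rw [← lift_comp_fst_snd p, ← lift_comp_fst_snd p'] at e ⊢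
    generalize p ≫ fst _ _ = P, p ≫ snd _ _ = t, p' ≫ fst _ _ = P', p' ≫ snd _ _ = t' at e ⊢
    rw [lift_whiskerRight, lift_whiskerRight] at e
    have e1 := congrArg (· ≫ fst _ _) e
    have e2 := congrArg (· ≫ snd _ _) e
    simp only [lift_fst, lift_snd] at e1 e2
    subst e2
    rw [hF, hF]
    have hK : ∀ Q : T' ⟶ Magnet.AMonS S (M × ↥Y),
        (Q ≫ d) ≫ Magnet.AMonS.map S iK = (Q ≫ pM) ≫ Magnet.AMonS.map S f.ker.subtype := by
      intro Q
      rw [Category.assoc, ← Magnet.AMonS.map_comp, Category.assoc, ← Magnet.AMonS.map_comp]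
      refine congrArg (fun φ => Q ≫ Magnet.AMonS.map S φ) (AddMonoidHom.ext fun n => Prod.ext ?_ (Subtype.ext ?_))
      · rfl
      · exact AddMonoidHom.mem_ker.mp n.2
    obtain ⟨k, hk⟩ := exists_kernel_point f (P ≫ pM) (P' ≫ pM) (((hK P).symm.trans
      (congrArg (· ≫ Magnet.AMonS.map S iK) e1)).trans (hK P'))
    let k₀ : T' ⟶ Magnet.AMonS S f.range := k
    have hk' : (P ≫ pM) * (k₀ ≫ Magnet.AMonS.map S f.rangeRestrict) = P' ≫ pM := hk
    have hy : P ≫ pY = (k₀ ≫ Magnet.AMonS.map S iY) * (P' ≫ pY) := by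
      refine eq_of_map_surjective fN (resHom_surjective f Y hY) (cancel_unit_left N.subtype (P ≫ pM) ?_)
      rw [Category.assoc, Category.assoc, ← hdP, e1, hdP, ← Category.assoc, ← Category.assoc, ← hk', MonObj.mul_comp,
        MonObj.mul_comp, _root_.mul_assoc]
      have hsq : Magnet.AMonS.map S f.rangeRestrict ≫ vN = Magnet.AMonS.map S iY ≫ kk := by
        rw [← Magnet.AMonS.map_comp, ← Magnet.AMonS.map_comp]
        exact congrArg _ (AddMonoidHom.ext fun n => Subtype.ext rfl)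
      simp only [Category.assoc, hsq]
      rfl
    have hw : IsFSQ (Magnet.AMonS.map S f.range.subtype).left := isFSQ_DSmap (S := S) f.range.subtype f.range.subtype_injective
    let T'' : Over S := Over.mk (pullback.fst k₀.left (Magnet.AMonS.map S f.range.subtype).left ≫ T'.hom)
    let c : T'' ⟶ T' := Over.homMk (pullback.fst _ _) rfl
    let z : T'' ⟶ Magnet.AMonS S Z := Over.homMk (pullback.snd k₀.left (Magnet.AMonS.map S f.range.subtype).left) (by
      rw [← Over.w (Magnet.AMonS.map S f.range.subtype), ← pullback.condition_assoc, Over.w k₀]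
      rfl)
    have hc : IsFSQ c.left := MorphismProperty.pullback_fst (P := IsFSQ) _ _ hw
    have hz : z ≫ Magnet.AMonS.map S f.range.subtype = c ≫ k₀ := Over.OverMorphism.ext pullback.condition.symm
    refine eq_of_fsq c hc ?_
    have hkf : c ≫ k₀ ≫ Magnet.AMonS.map S f.rangeRestrict = z ≫ Magnet.AMonS.map S f := by
      rw [← Category.assoc, ← hz, Category.assoc, ← Magnet.AMonS.map_comp]
      congr 2
    have hkY : c ≫ k₀ ≫ Magnet.AMonS.map S iY = z ≫ Magnet.AMonS.map S Y.subtype := by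
      rw [← Category.assoc, ← hz, Category.assoc, ← Magnet.AMonS.map_comp]
      congr 2
    rw [comp_lift_assoc, comp_lift_assoc, comp_lift_assoc, comp_lift_assoc, ← hk', hy, MonObj.comp_mul, MonObj.comp_mul,
      hkY, hkf, hact, Magnet.MonAct.lift_mul_act])
  have hm' : ∀ {T' : Over S} (P : T' ⟶ Magnet.AMonS S (M × ↥Y)) (t : T' ⟶ T),
      lift (P ≫ d) t ≫ m = lift (P ≫ pM) (lift (P ≫ pY) t ≫ ψ.1) ≫ a.act := fun P t => by
    rw [← lift_whiskerRight_assoc, hm, hF]
  have hmem : Magnet.MonAct.IsEquivariant ((Magnet.subAct S M N).prod (Magnet.MonAct.trivial _ T)) a m := by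
    rw [Magnet.MonAct.mem_eqvHom_iff]
    intro T' g b t
    change lift (lift g b ≫ ((Magnet.MonAct.regular _).restrict (Magnet.AMonS.map S N.subtype)).act) t ≫ m = _
    rw [Magnet.MonAct.lift_restrict_act, Magnet.MonAct.lift_regular_act]
    let T'' : Over S := Over.mk (pullback.fst b.left d.left ≫ T'.hom)
    let c : T'' ⟶ T' := Over.homMk (pullback.fst _ _) rfl
    let P : T'' ⟶ Magnet.AMonS S (M × ↥Y) := Over.homMk (pullback.snd b.left d.left) (by
      rw [← Over.w d, ← pullback.condition_assoc, Over.w b]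
      rfl)
    have hc : IsFSQ c.left := MorphismProperty.pullback_fst (P := IsFSQ) _ _ (isFSQ_piHom f Y hY S)
    have hP : P ≫ d = c ≫ b := Over.OverMorphism.ext pullback.condition.symm
    refine eq_of_fsq c hc ?_
    let P' : T'' ⟶ Magnet.AMonS S (M × ↥Y) := ((c ≫ g) ≫ Magnet.AMonS.map S (AddMonoidHom.fst M ↥Y)) * P
    have h1 : P' ≫ pM = (c ≫ g) * (P ≫ pM) := by
      rw [MonObj.mul_comp, Category.assoc, ← Magnet.AMonS.map_comp, AddMonoidHom.fst_comp_inl, AMonS_map_id, Category.comp_id]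
    have h2 : P' ≫ pY = P ≫ pY := by
      rw [MonObj.mul_comp, Category.assoc, ← Magnet.AMonS.map_comp, AddMonoidHom.fst_comp_inr, AMonS_map_zero,
        MonObj.comp_one, _root_.one_mul]
    have h3 : P' ≫ d = ((c ≫ g) ≫ vN) * (P ≫ d) := by
      rw [MonObj.mul_comp, Category.assoc, ← Magnet.AMonS.map_comp]
      congr 3
    rw [comp_lift_assoc, comp_lift_assoc, comp_lift_assoc, MonObj.comp_mul, ← Category.assoc c g, ← hP, ← h3, hm', hm', h1,
      h2, Magnet.MonAct.lift_mul_act]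
  refine ⟨⟨m, hmem⟩, Subtype.ext ?_⟩
  rw [Magnet.attrComap_app_coe]
  refine Magnet.hom_ext_lift₂ fun T' y t => ?_
  have hk2 : kk = Magnet.AMonS.map S (AddMonoidHom.snd M ↥Y) ≫ d := by
    rw [← Magnet.AMonS.map_comp]
    congr 1
  rw [lift_whiskerRight_assoc]
  change lift (y ≫ kk) t ≫ m = lift y t ≫ ψ.1
  rw [hk2, ← Category.assoc, hm', Category.assoc, Category.assoc, ← Magnet.AMonS.map_comp, ← Magnet.AMonS.map_comp,
    AddMonoidHom.snd_comp_inl, AddMonoidHom.snd_comp_inr, AMonS_map_zero, AMonS_map_id, Category.comp_id, MonObj.comp_one,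
    Magnet.MonAct.lift_one_act]

theorem attrComap_injective {X : Over S} (a : Magnet.MonAct (Magnet.AMonS S M) X) (hY : Y ≤ AddMonoidHom.mrange f)
    {T : Over S} (φ φ' : (Magnet.attr a (Y.comap f)).obj (op T))
    (h : (Magnet.attrComap a f Y).app (op T) φ = (Magnet.attrComap a f Y).app (op T) φ') : φ = φ' := by
  have e := congrArg Subtype.val h
  rw [Magnet.attrComap_app_coe, Magnet.attrComap_app_coe] at e
  let d : Magnet.AMonS S (M × ↥Y) ⟶ Magnet.AMonS S ↥(Y.comap f) := Magnet.AMonS.map S (piHom f Y)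
  refine Subtype.ext (eq_of_fsq (d ▷ T) (isFSQ_whiskerRight d (isFSQ_piHom f Y hY S) T) ?_)
  refine Magnet.hom_ext_lift₂ fun T' P t => ?_
  rw [lift_whiskerRight_assoc, lift_whiskerRight_assoc]
  have hd : P ≫ d = (P ≫ Magnet.AMonS.map S (AddMonoidHom.inl M ↥Y)) ≫ Magnet.AMonS.map S (Y.comap f).subtype *
      (P ≫ Magnet.AMonS.map S (AddMonoidHom.inr M ↥Y)) ≫ Magnet.AMonS.map S (resHom f Y) := by
    rw [Category.assoc, Category.assoc, ← Magnet.AMonS.map_comp, ← Magnet.AMonS.map_comp, ← MonObj.comp_mul,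
      ← AMonS_map_add]
    exact congrArg (fun φ => P ≫ Magnet.AMonS.map S φ) (AddMonoidHom.ext fun n => by simp [piHom])
  have key : ∀ χ : (Magnet.attr a (Y.comap f)).obj (op T), lift (P ≫ d) t ≫ χ.1 =
      lift (P ≫ Magnet.AMonS.map S (AddMonoidHom.inl M ↥Y))
        (lift ((P ≫ Magnet.AMonS.map S (AddMonoidHom.inr M ↥Y)) ≫ Magnet.AMonS.map S (resHom f Y)) t ≫ χ.1) ≫ a.act := by
    intro χ
    have h := (Magnet.MonAct.mem_eqvHom_iff _).mp χ.2 T' (P ≫ Magnet.AMonS.map S (AddMonoidHom.inl M ↥Y))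
      ((P ≫ Magnet.AMonS.map S (AddMonoidHom.inr M ↥Y)) ≫ Magnet.AMonS.map S (resHom f Y)) t
    change lift (lift _ _ ≫ ((Magnet.MonAct.regular _).restrict (Magnet.AMonS.map S (Y.comap f).subtype)).act) t ≫ χ.1 = _ at h
    rw [Magnet.MonAct.lift_restrict_act, Magnet.MonAct.lift_regular_act] at h
    rw [hd]
    exact h
  rw [key, key, ← lift_whiskerRight_assoc (P ≫ Magnet.AMonS.map S (AddMonoidHom.inr M ↥Y)) t,
    ← lift_whiskerRight_assoc (P ≫ Magnet.AMonS.map S (AddMonoidHom.inr M ↥Y)) t, e]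

theorem isIso_attrComap {X : Over S} (a : Magnet.MonAct (Magnet.AMonS S M) X) (hY : Y ≤ AddMonoidHom.mrange f) :
    IsIso (Magnet.attrComap a f Y) := by
  rw [NatTrans.isIso_iff_isIso_app]
  intro T
  rw [isIso_iff_bijective]
  exact ⟨fun φ φ' h => attrComap_injective f Y a hY (T := unop T) φ φ' h,
    fun ψ => exists_extend f Y a hY (T := unop T) ψ⟩

end Groth.Agent.MagnetHom
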