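import Mathlib
import Groth.Prelude.Def_Magnet2
import Groth.Agent.MagnetHom.Units
import Groth.Agent.MagnetHom.UnitsAff

/-! Representability of equivariant maps out of an affine monoid scheme with dense units, affine target. -/

set_option autoImplicit false
set_option backward.isDefEq.respectTransparency false
set_option backward.isDefEq.respectTransparency.types false
universe u

open CategoryTheory CategoryTheory.Limits MonoidalCategory CartesianMonoidalCategory MonObj AlgebraicGeometry Opposite

namespace Groth.Agent.MagnetHom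

theorem eq_of_dominant {S : Scheme.{u}} {P Q X : Over S} [IsSeparated X.hom] (d : P ⟶ Q)
    [IsSchemeTheoreticallyDominant d.left] {f g : Q ⟶ X} (h : d ≫ f = d ≫ g) : f = g := by
  let δ : X ⟶ X ⊗ X := lift (𝟙 X) (𝟙 X)
  have : δ.left = pullback.diagonal X.hom := by
    refine pullback.hom_ext ?_ ?_
    · rw [pullback.diagonal_fst]
      exact congrArg CommaMorphism.left (lift_fst (𝟙 X) (𝟙 X))
    · rw [pullback.diagonal_snd]
      exact congrArg CommaMorphism.left (lift_snd (𝟙 X) (𝟙 X))
  have : IsClosedImmersion δ.left := this ▸ inferInstanceAs (IsClosedImmersion (pullback.diagonal X.hom))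
  obtain ⟨m, hm⟩ := exists_factor_of_dominant d δ (lift f g) (d ≫ f) (by simp [δ, comp_lift, h])
  have h1 : m = f := by simpa [δ] using congrArg (· ≫ fst X X) hm
  have h2 : m = g := by simpa [δ] using congrArg (· ≫ snd X X) hm
  exact h1.symm.trans h2

variable {k : Type u} [Field k] {G M X : Over (Spec (CommRingCat.of k))} [MonObj G] [MonObj M] (i : G ⟶ M) [IsMonHom i]

theorem isSchemeTheoreticallyDominant_whisker_whisker [QuasiCompact i.left] [IsSchemeTheoreticallyDominant i.left]
    (T : Over (Spec (CommRingCat.of k))) : IsSchemeTheoreticallyDominant (G ◁ (i ▷ T)).left := by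
  have := isSchemeTheoreticallyDominant_whiskerRight i T
  have : QuasiCompact (i ▷ T).left :=
    MorphismProperty.of_isPullback (isPullback_whiskerRight_left T i).flip ‹QuasiCompact i.left›
  have : Flat G.hom := inferInstance
  have : Flat (snd G (M ⊗ T)).left := inferInstanceAs (Flat (pullback.snd G.hom (M ⊗ T).hom))
  exact IsSchemeTheoreticallyDominant.of_isPullback (isPullback_whiskerLeft_left G (i ▷ T)).flip

/-- An extension of an orbit map is equivariant. -/
theorem isEquivariant_of_extends [QuasiCompact i.left] [IsSchemeTheoreticallyDominant i.left] [IsSeparated X.hom]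
    (a : Magnet.MonAct G X) {T : Over (Spec (CommRingCat.of k))} (x : T ⟶ X) (m : M ⊗ T ⟶ X)
    (hm : (i ▷ T) ≫ m = (G ◁ x) ≫ a.act) :
    Magnet.MonAct.IsEquivariant (((Magnet.MonAct.regular M).restrict i).prod (Magnet.MonAct.trivial G T)) a m := by
  have := isSchemeTheoreticallyDominant_whisker_whisker i T
  refine eq_of_dominant (G ◁ (i ▷ T)) (Magnet.hom_ext_lift₂ fun T' g z => ?_)
  rw [← lift_comp_fst_snd z]
  generalize z ≫ fst G T = h
  generalize z ≫ snd G T = t
  have hp : ∀ u : T' ⟶ G, lift (u ≫ i) t ≫ m = lift u (t ≫ x) ≫ a.act := fun u => by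
    rw [← lift_whiskerRight_assoc, hm, lift_whiskerLeft_assoc]
  simp only [lift_whiskerLeft_assoc, lift_whiskerRight, Magnet.MonAct.lift_prod_act_assoc,
    Magnet.MonAct.lift_restrict_act, Magnet.MonAct.lift_regular_act, Magnet.MonAct.lift_trivial_act]
  rw [← MonObj.mul_comp, hp, hp, Magnet.MonAct.lift_mul_act]

theorem evalAt_of_extends (a : Magnet.MonAct G X) {T : Over (Spec (CommRingCat.of k))} (x : T ⟶ X) (m : M ⊗ T ⟶ X)
    (hm : (i ▷ T) ≫ m = (G ◁ x) ≫ a.act) : lift (toUnit T ≫ η[M]) (𝟙 T) ≫ m = x := by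
  rw [show (η[M] : 𝟙_ _ ⟶ M) = η[G] ≫ i from (IsMonHom.one_hom i).symm, ← Category.assoc, ← lift_whiskerRight_assoc, hm,
    lift_whiskerLeft_assoc, ← Hom.one_def, Category.id_comp, Magnet.MonAct.lift_one_act]

theorem exists_representableBy_units_affine [IsAffine M.left] [IsAffine G.left] [IsAffine X.left] [QuasiCompact i.left]
    [IsSchemeTheoreticallyDominant i.left] (a : Magnet.MonAct G X) :
    ∃ (Z : Over (Spec (CommRingCat.of k))) (j : Z ⟶ X)
      (e : (Magnet.MonAct.eqvHom ((Magnet.MonAct.regular M).restrict i) a).RepresentableBy Z),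
      IsClosedImmersion j.left ∧
      ∀ (T : Over (Spec (CommRingCat.of k))) (z : T ⟶ Z),
        (Magnet.MonAct.eqvHom.evalAt ((Magnet.MonAct.regular M).restrict i) a η[M]).app (op T) (e.homEquiv z) = z ≫ j := by
  let ρ := (Magnet.MonAct.regular M).restrict i
  obtain ⟨Z, j, hZ, hj, hker, hfac⟩ := exists_factor_iff (extIdeal i a.act)
  have : Mono j.left := inferInstance
  have : Mono j := Over.mono_of_mono_left j
  obtain ⟨mZ, hmZ⟩ := (exists_extend_iff i a.act j).mpr hker
  have hext : ∀ {T : Over (Spec (CommRingCat.of k))} (z : T ⟶ Z),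
      (i ▷ T) ≫ (M ◁ z) ≫ mZ = (G ◁ (z ≫ j)) ≫ a.act := fun z => by
    rw [← whisker_exchange_assoc, hmZ, MonoidalCategory.whiskerLeft_comp_assoc]
  have hmem : ∀ {T : Over (Spec (CommRingCat.of k))} (φ : (Magnet.MonAct.eqvHom ρ a).obj (op T)),
      ∃ z : T ⟶ Z, z ≫ j = (Magnet.MonAct.eqvHom.evalAt ρ a η[M]).app (op T) φ := by
    intro T φ
    refine hfac T _ fun c hc => ?_
    refine T.left.IsSheaf.section_ext fun p _ => ?_
    obtain ⟨_, ⟨U, hU, rfl⟩, hpU, -⟩ :=
      T.left.isBasis_affineOpens.exists_subset_of_mem_open (Set.mem_univ p) isOpen_univ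
    let t : Over.mk ((Scheme.Opens.ι U) ≫ T.hom) ⟶ T := Over.homMk (Scheme.Opens.ι U)
    have : IsAffine (Over.mk ((Scheme.Opens.ι U) ≫ T.hom)).left := hU
    have h0 : appT (t ≫ (Magnet.MonAct.eqvHom.evalAt ρ a η[M]).app (op T) φ) c = 0 := by
      refine (exists_extend_iff i a.act _).mp ⟨(M ◁ t) ≫ φ.1, ?_⟩ hc
      rw [← whisker_exchange_assoc, whiskerRight_comp_of_eqvHom i a φ, MonoidalCategory.whiskerLeft_comp_assoc]
    refine ⟨U, le_top, hpU, ?_⟩
    rw [appT_comp] at h0
    generalize appT ((Magnet.MonAct.eqvHom.evalAt ρ a η[M]).app (op T) φ) c = s at h0 ⊢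
    have h1 : (Scheme.Opens.ι U).appTop.hom s = 0 := h0
    rw [Scheme.Opens.ι_appTop] at h1
    have h2 := congrArg (Scheme.Opens.topIso U).hom.hom h1
    simp only [map_zero] at h2
    rw [map_zero]
    refine Eq.trans ?_ h2
    simp [Scheme.Opens.topIso_hom, ← ConcreteCategory.comp_apply, ← Functor.map_comp]
  choose fac hfac' using @hmem
  let e : (Magnet.MonAct.eqvHom ρ a).RepresentableBy Z :=
    { homEquiv := fun {T} =>
        { toFun := fun z => ⟨(M ◁ z) ≫ mZ, isEquivariant_of_extends i a (z ≫ j) _ (hext z)⟩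
          invFun := fun φ => fac φ
          left_inv := fun z => by
            rw [← cancel_mono j, hfac', Magnet.MonAct.eqvHom.evalAt_app]
            exact evalAt_of_extends i a _ _ (hext z)
          right_inv := fun φ => by
            refine Subtype.ext ?_
            have := isSchemeTheoreticallyDominant_whiskerRight i T
            refine eq_of_dominant (i ▷ T) ?_
            change (i ▷ T) ≫ (M ◁ fac φ) ≫ mZ = _
            rw [hext, hfac', ← whiskerRight_comp_of_eqvHom i a φ] }
      homEquiv_comp := fun f g => Subtype.ext (MonoidalCategory.whiskerLeft_comp_assoc _ _ _ _) }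
  refine ⟨Z, j, e, hj, fun T z => ?_⟩
  rw [Magnet.MonAct.eqvHom.evalAt_app]
  exact evalAt_of_extends i a _ _ (hext z)

end Groth.Agent.MagnetHom
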